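import Cfsg.Agent.Lib.Perm.Trans.PauliMax.OPlus.Base
import Mathlib.GroupTheory.QuotientGroup.Basic
import Mathlib.Algebra.Group.TypeTags.Finite

/-!
# The binary orthogonal space of the group
-/

set_option autoImplicit false
set_option linter.all false

namespace CfsgLib.Perm.Trans.PauliMax.OPlus

open scoped Matrix
open Matrix Cfsg.Geo CfsgLib.Perm.Asch CfsgLib.Perm.Trans
attribute [local instance] Classical.propDecidable

variable {ι : Type} [Fintype ι] [DecidableEq ι] {F : Type*} [Field F]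
variable {Q : (ι → F) → F} {R : Subgroup (GL ι F)} {m : ℕ}

/-- the centre of the group -/
def pm (hP : OPauli Q R m) : Subgroup R where
  carrier := {x | IsPM (x : GL ι F)}
  one_mem' := Or.inl rfl
  mul_mem' := fun ha hb => IsPM.mul ha hb
  inv_mem' := fun ha => IsPM.inv ha

instance pm_normal (hP : OPauli Q R m) : (pm hP).Normal :=
  ⟨fun x hx g => by
    show IsPM (((g * x * g⁻¹ : R)) : GL ι F)
    rw [Subgroup.coe_mul, Subgroup.coe_mul, Subgroup.coe_inv, IsPM.comm hx, mul_inv_cancel_right]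
    exact hx⟩

instance quot_commGroup (hP : OPauli Q R m) : CommGroup (R ⧸ pm hP) :=
  { QuotientGroup.Quotient.group (pm hP) with
    mul_comm := fun a b => by
      induction a using QuotientGroup.induction_on with | H x =>
      induction b using QuotientGroup.induction_on with | H y =>
      rw [← QuotientGroup.mk_mul, ← QuotientGroup.mk_mul, QuotientGroup.eq]
      show IsPM (((x : GL ι F) * (y : GL ι F))⁻¹ * ((y : GL ι F) * (x : GL ι F)))
      rcases hP.sign y y.2 x x.2 with h | h <;> rw [h]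
      · left; rw [inv_mul_cancel]
      · right; rw [mul_neg, inv_mul_cancel] }

/-- the space -/
abbrev Bar (hP : OPauli Q R m) : Type _ := Additive (R ⧸ pm hP)

/-- the class of an element -/
def mk (hP : OPauli Q R m) (r : R) : Bar hP := Additive.ofMul (QuotientGroup.mk r)

theorem mk_surjective (hP : OPauli Q R m) (x : Bar hP) : ∃ r : R, mk hP r = x := by
  obtain ⟨r, hr⟩ := QuotientGroup.mk_surjective (Additive.toMul x)
  exact ⟨r, by rw [mk, hr]; rfl⟩

theorem mk_mul (hP : OPauli Q R m) (r s : R) : mk hP (r * s) = mk hP r + mk hP s := rfl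

theorem mk_eq (hP : OPauli Q R m) {r s : R} : mk hP r = mk hP s ↔ ((s : GL ι F) = r ∨ (s : GL ι F) = -r) := by
  show QuotientGroup.mk r = QuotientGroup.mk s ↔ _
  rw [QuotientGroup.eq]
  show IsPM (((r⁻¹ * s : R)) : GL ι F) ↔ _
  rw [Subgroup.coe_mul, Subgroup.coe_inv, IsPM, inv_mul_eq_one, inv_mul_eq_iff_eq_mul, mul_neg, mul_one, eq_comm]

theorem mk_eq_zero (hP : OPauli Q R m) {r : R} : mk hP r = 0 ↔ IsPM (r : GL ι F) := by
  show QuotientGroup.mk r = 1 ↔ _
  rw [QuotientGroup.eq_one_iff]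
  rfl

/-- a representative -/
noncomputable def rep (hP : OPauli Q R m) (x : Bar hP) : R := (mk_surjective hP x).choose

theorem mk_rep (hP : OPauli Q R m) (x : Bar hP) : mk hP (rep hP x) = x := (mk_surjective hP x).choose_spec

theorem rep_mk (hP : OPauli Q R m) (r : R) :
    (rep hP (mk hP r) : GL ι F) = r ∨ (rep hP (mk hP r) : GL ι F) = -r :=
  (mk_eq hP).1 (mk_rep hP (mk hP r)).symm

/-- the quadratic form -/
noncomputable def barQ (hP : OPauli Q R m) (x : Bar hP) : ZMod 2 :=
  if (rep hP x : GL ι F) * rep hP x = 1 then 0 else 1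

/-- its polar form -/
noncomputable def barB (hP : OPauli Q R m) (x y : Bar hP) : ZMod 2 :=
  if (rep hP x : GL ι F) * rep hP y = (rep hP y : GL ι F) * rep hP x then 0 else 1

theorem barQ_mk (hP : OPauli Q R m) (r : R) :
    barQ hP (mk hP r) = if (r : GL ι F) * r = 1 then 0 else 1 := by
  rcases rep_mk hP r with e | e <;> simp only [barQ, e, neg_mul, mul_neg, neg_neg]

theorem barB_mk (hP : OPauli Q R m) (r s : R) :
    barB hP (mk hP r) (mk hP s) = if (r : GL ι F) * s = (s : GL ι F) * r then 0 else 1 := by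
  rcases rep_mk hP r with e | e <;> rcases rep_mk hP s with e' | e' <;>
    simp only [barB, e, e', neg_mul, mul_neg, neg_neg, neg_inj]

theorem barQ_one_iff (hP : OPauli Q R m) (r : R) : barQ hP (mk hP r) = 1 ↔ (r : GL ι F) * r = -1 := by
  rw [barQ_mk]
  rcases hP.square r r.2 with h | h
  · rw [if_pos h, h]
    exact iff_of_false zero_ne_one hP.neg_one_ne.symm
  · rw [if_neg (by rw [h]; exact hP.neg_one_ne)]
    exact iff_of_true rfl h

theorem barQ_zero_iff (hP : OPauli Q R m) (r : R) : barQ hP (mk hP r) = 0 ↔ (r : GL ι F) * r = 1 := by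
  rw [barQ_mk]
  split_ifs with h
  · exact iff_of_true rfl h
  · exact iff_of_false one_ne_zero h

theorem barB_one_iff (hP : OPauli Q R m) (r s : R) :
    barB hP (mk hP r) (mk hP s) = 1 ↔ (r : GL ι F) * s = -((s : GL ι F) * r) := by
  rw [barB_mk]
  rcases hP.sign r r.2 s s.2 with h | h
  · rw [if_pos h, h]
    exact iff_of_false zero_ne_one (hP.neg_ne_self _).symm
  · rw [if_neg (fun e => hP.neg_ne_self _ (h.symm.trans e))]
    exact iff_of_true rfl h

theorem barB_zero_iff (hP : OPauli Q R m) (r s : R) :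
    barB hP (mk hP r) (mk hP s) = 0 ↔ (r : GL ι F) * s = (s : GL ι F) * r := by
  rw [barB_mk]
  split_ifs with h
  · exact iff_of_true rfl h
  · exact iff_of_false one_ne_zero h

theorem card_pm (hP : OPauli Q R m) : Nat.card (pm hP) = 2 := by
  rw [Nat.card_eq_two_iff]
  refine ⟨⟨1, Or.inl rfl⟩, ⟨⟨-1, hP.neg⟩, Or.inr rfl⟩, fun e => hP.neg_one_ne ?_, ?_⟩
  · exact (congrArg (fun t : pm hP => ((t : R) : GL ι F)) e).symm
  · ext ⟨⟨x, hx⟩, hxz⟩
    simp only [Set.mem_insert_iff, Set.mem_singleton_iff, Set.mem_univ, iff_true]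
    rcases hxz with e | e
    · exact Or.inl (Subtype.ext (Subtype.ext e))
    · exact Or.inr (Subtype.ext (Subtype.ext e))

theorem card_bar (hP : OPauli Q R m) : Nat.card (Bar hP) = 2 ^ (2 * m) := by
  have h := Subgroup.card_eq_card_quotient_mul_card_subgroup (pm hP)
  rw [card_pm, hP.card, pow_add, pow_one] at h
  show Nat.card (R ⧸ pm hP) = _
  omega

instance finite_bar (hP : OPauli Q R m) : Finite (Bar hP) :=
  Nat.finite_of_card_ne_zero (by rw [card_bar]; positivity)

theorem sum_two (hP : OPauli Q R m) (x : Bar hP) : x + x = 0 := by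
  obtain ⟨r, rfl⟩ := mk_surjective hP x
  rw [← mk_mul, mk_eq_zero, Subgroup.coe_mul]
  exact hP.square r r.2

/-- **The space is non-degenerate.** -/
theorem space (hP : OPauli Q R m) : Orth.Space (barQ hP) (barB hP) := by
  refine ⟨sum_two hP, ?_, ?_, ?_⟩
  · intro x y
    obtain ⟨r, rfl⟩ := mk_surjective hP x
    obtain ⟨s, rfl⟩ := mk_surjective hP y
    rw [← mk_mul, barQ_mk, barQ_mk, barQ_mk, barB_mk, Subgroup.coe_mul]
    rcases hP.sign r r.2 s s.2 with h | h
    · have e2 : (r : GL ι F) * s * (r * s) = (r : GL ι F) * r * ((s : GL ι F) * s) := by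
        rw [mul_assoc, ← mul_assoc (s : GL ι F) r s, ← h, mul_assoc (r : GL ι F) s s, ← mul_assoc]
      rw [e2, if_pos h]
      rcases hP.square r r.2 with hr | hr <;> rcases hP.square s s.2 with hs | hs <;> rw [hr, hs] <;>
        simp [hP.neg_one_ne] <;> decide
    · have h' : (s : GL ι F) * r = -((r : GL ι F) * s) := by rw [h, neg_neg]
      have e2 : (r : GL ι F) * s * (r * s) = -((r : GL ι F) * r * ((s : GL ι F) * s)) := by
        rw [mul_assoc, ← mul_assoc (s : GL ι F) r s, h', neg_mul, mul_neg, mul_assoc (r : GL ι F) s s, ← mul_assoc]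
      rw [e2, if_neg (fun e => hP.neg_ne_self _ (h.symm.trans e))]
      rcases hP.square r r.2 with hr | hr <;> rcases hP.square s s.2 with hs | hs <;> rw [hr, hs] <;>
        simp [hP.neg_one_ne] <;> decide
  · intro x y z
    obtain ⟨r, rfl⟩ := mk_surjective hP x
    obtain ⟨s, rfl⟩ := mk_surjective hP y
    obtain ⟨t, rfl⟩ := mk_surjective hP z
    rw [← mk_mul, barB_mk, barB_mk, barB_mk, Subgroup.coe_mul]
    have e : (r : GL ι F) * s * t = r * ((s : GL ι F) * t) := mul_assoc _ _ _
    have e' : (t : GL ι F) * (r * s) = t * r * s := (mul_assoc _ _ _).symm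
    rcases hP.sign r r.2 t t.2 with hr | hr <;> rcases hP.sign s s.2 t t.2 with hs | hs <;>
      rw [e, hs] <;> simp only [mul_neg, ← mul_assoc, hr, neg_mul, neg_neg, if_true, hP.neg_ne_self, if_false] <;>
      decide
  · intro x hx
    obtain ⟨r, rfl⟩ := mk_surjective hP x
    obtain ⟨s, hs, h⟩ := hP.exists_anti r.2 (fun e => hx ((mk_eq_zero hP).2 e))
    exact ⟨mk hP ⟨s, hs⟩, (barB_one_iff hP _ _).2 h⟩

theorem card_bar_ge (hP : OPauli Q R m) {k : ℕ} (hk : k ≤ 2 * m) : 2 ^ k ≤ Nat.card (Bar hP) := by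
  rw [card_bar]
  exact Nat.pow_le_pow_right (by norm_num) hk

theorem bar256 (hP : OPauli Q R m) (hm : 4 ≤ m) : 256 ≤ Nat.card (Bar hP) := card_bar_ge hP (k := 8) (by omega)

end CfsgLib.Perm.Trans.PauliMax.OPlus
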