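import Cfsg.Agent.Lib.Perm.Trans.PauliMax.OPlus.Tensor

/-!
# Centralisers of quaternion subgroups of the group in a proper overgroup
-/

set_option autoImplicit false
set_option linter.all false

namespace CfsgLib.Perm.Trans.PauliMax.OPlus

open scoped Matrix
open Matrix Cfsg.Geo CfsgLib.Perm.Asch CfsgLib.Perm.Trans CfsgLib.Perm.Trans.Quad
open CfsgLib.Perm.Trans.Symp (isoSub mem_isoSub)
attribute [local instance] Classical.propDecidable

variable {ι : Type} [Fintype ι] [DecidableEq ι] {F : Type*} [Field F] [Fintype F]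
variable {Q : (ι → F) → F} {R M : Subgroup (GL ι F)} {m : ℕ}

/-- the conclusion for the quaternion subgroups -/
def CenQuat (Q : (ι → F) → F) (R M : Subgroup (GL ι F)) : Prop :=
  ∀ a ∈ R, ∀ b ∈ R, a * a = -1 → b * b = -1 → a * b = -(b * a) → ∀ h ∈ M,
    (h * a * h⁻¹ = a ∨ h * a * h⁻¹ = -a) → (h * b * h⁻¹ = b ∨ h * b * h⁻¹ = -b) → h ∈ NN Q R

/-- the diagonal lift of an element normalising the group on the fixed space -/
theorem QFrame.dext_nn (φ : QFrame Q R m) (hm : 3 ≤ m) {A : GL (Fin (2 ^ m)) F} (hA : A ∈ isoSub φ.form)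
    (hn : A ∈ subgroupNormalizer φ.sub) : φ.dext A ∈ NN Q R := by
  refine ⟨mem_normalizer_of_maps fun r hr => ?_, φ.dext_omega (card_ge φ.pauli (by omega)) hA⟩
  obtain ⟨t, ht, hca, hcb⟩ := φ.exists_split hr
  have htR : t ∈ R := by
    simp only [Set.mem_insert_iff, Set.mem_singleton_iff] at ht
    rcases ht with rfl | rfl | rfl | rfl
    exacts [R.one_mem, φ.a_mem, φ.b_mem, mul_mem φ.a_mem φ.b_mem]
  have htc : φ.dext A * t = t * φ.dext A := by
    simp only [Set.mem_insert_iff, Set.mem_singleton_iff] at ht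
    rcases ht with rfl | rfl | rfl | rfl
    · simp
    · exact (φ.dext_comm A).1
    · exact (φ.dext_comm A).2
    · rw [← mul_assoc, (φ.dext_comm A).1, mul_assoc, (φ.dext_comm A).2, mul_assoc]
  obtain ⟨C, hC⟩ : ∃ C, φ.dext C = r * t⁻¹ := ⟨_, (φ.eq_dext hca hcb).symm⟩
  have hCs : C ∈ φ.sub := φ.mem_sub_iff.2 (hC ▸ mul_mem hr (inv_mem htR))
  have e : φ.dext A * r * (φ.dext A)⁻¹ = φ.dext (A * C * A⁻¹) * t := by
    rw [map_mul, map_mul, map_inv, hC, show φ.dext A * r * (φ.dext A)⁻¹ = φ.dext A * (r * t⁻¹) * (t * (φ.dext A)⁻¹) by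
      group, show t * (φ.dext A)⁻¹ = (φ.dext A)⁻¹ * t from ((show Commute (φ.dext A) t from htc).inv_left).eq.symm]
    group
  rw [e]
  exact mul_mem (φ.mem_sub_iff.1 ((Subgroup.mem_normalizer_iff.1 hn C).1 hCs)) htR

theorem QFrame.res_le (φ : QFrame Q R m) (hm : 3 ≤ m) (hodd : Odd (Fintype.card F)) (hp : (Fintype.card F).Prime)
    (hN : NN Q R ≤ M) (hM : M ≤ omegaGL Q) (hne : ¬ omegaGL Q ≤ M) {A : GL (Fin (2 ^ m)) F} (hA : A ∈ isoSub φ.form)
    (hAM : φ.dext A ∈ M) : φ.dext A ∈ NN Q R := by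
  refine φ.dext_nn hm hA ?_
  rcases Symp.good hodd hp m (by omega) (Fin (2 ^ m)) φ.form φ.sub φ.sub_pauli (M.comap φ.dext ⊓ isoSub φ.form)
      (fun B hB => ⟨hN (φ.dext_nn hm hB.2 hB.1), hB.2⟩) inf_le_right with h | h
  · exact h ⟨hAM, hA⟩
  · exfalso
    exact hne (φ.le_of_cen hm hN hM fun B hB => (h.symm ▸ hB : B ∈ M.comap φ.dext ⊓ isoSub φ.form).1)

/-- **The centralisers modulo the centre of the quaternion subgroups.** -/
theorem cen_quat (hP : OPauli Q R (m + 1)) (hm : 3 ≤ m) (hodd : Odd (Fintype.card F)) (hp : (Fintype.card F).Prime)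
    (hN : NN Q R ≤ M) (hM : M ≤ omegaGL Q) (hne : ¬ omegaGL Q ≤ M) : CenQuat Q R M := by
  intro a ha b hb haa hbb hab h hh hha hhb
  obtain ⟨φ, rfl, rfl⟩ := exists_qframe hP ha hb haa hbb hab
  have key : ∀ g ∈ M, g * φ.a = φ.a * g → g * φ.b = φ.b * g → g ∈ NN Q R := by
    intro g hg hga hgb
    obtain ⟨hu, hw⟩ := φ.comm_uw hga hgb
    rw [φ.eq_dext hga hgb] at hg ⊢
    exact φ.res_le hm hodd hp hN hM hne (φ.rpG_iso (omegaGL_le_iso (hM (φ.eq_dext hga hgb ▸ hg))) hu hw) hg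
  have hR : ∀ s ∈ R, (h * s) * φ.a = φ.a * (h * s) → (h * s) * φ.b = φ.b * (h * s) → h ∈ NN Q R := by
    intro s hs h1 h2
    have hsN := R_le_NN hP (by omega) hs
    have := mul_mem (key _ (mul_mem hh (hN hsN)) h1 h2) (inv_mem hsN)
    rwa [mul_inv_cancel_right] at this
  have hba : φ.b * φ.a = -(φ.a * φ.b) := by rw [φ.ab, neg_neg]
  rcases hha with e1 | e1 <;> rcases hhb with e2 | e2 <;> rw [mul_inv_eq_iff_eq_mul] at e1 e2
  · exact hR 1 R.one_mem (by simpa using e1) (by simpa using e2)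
  · rw [neg_mul] at e2
    refine hR _ φ.a_mem ?_ ?_
    · rw [← mul_assoc φ.a h, ← e1]
    · rw [mul_assoc, φ.ab, mul_neg, ← mul_assoc, e2, neg_mul, neg_neg, mul_assoc]
  · rw [neg_mul] at e1
    refine hR _ φ.b_mem ?_ ?_
    · rw [mul_assoc, hba, mul_neg, ← mul_assoc, e1, neg_mul, neg_neg, mul_assoc]
    · rw [← mul_assoc φ.b h, ← e2]
  · rw [neg_mul] at e1 e2
    refine hR _ (mul_mem φ.a_mem φ.b_mem) ?_ ?_
    · rw [mul_assoc, mul_assoc φ.a, hba, mul_neg, mul_neg, ← mul_assoc h, e1, neg_mul, neg_neg, mul_assoc]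
    · rw [mul_assoc, mul_assoc φ.a, φ.bb, ← mul_assoc φ.b h, show φ.b * h = -(h * φ.b) by rw [e2, neg_neg], neg_mul,
        mul_assoc, ← mul_assoc φ.b φ.a φ.b, hba]
      simp [mul_assoc, φ.bb]

/-- the normaliser is a proper subgroup -/
theorem not_omega_le (hP : OPauli Q R (m + 1)) (hm : 3 ≤ m) (hodd : Odd (Fintype.card F))
    (hp : (Fintype.card F).Prime) : ¬ omegaGL Q ≤ subgroupNormalizer R := by
  intro hle
  have hS := space hP
  have h256 := bar256 hP (by omega)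
  obtain ⟨x, y, -, -, hx, hy, hxy⟩ := Orth.exists_elliptic hS (by omega) ⊤ (by
    rw [AddSubgroup.card_top]; omega)
  obtain ⟨a, rfl⟩ := mk_surjective hP x
  obtain ⟨b, rfl⟩ := mk_surjective hP y
  obtain ⟨φ, -, -⟩ := exists_qframe hP a.2 b.2 ((barQ_one_iff hP a).1 hx) ((barQ_one_iff hP b).1 hy)
    ((barB_one_iff hP a b).1 hxy)
  haveI : Finite (Matrix (Fin (2 ^ m)) (Fin (2 ^ m)) F) := inferInstanceAs (Finite (_ → _ → F))
  haveI : Finite (GL (Fin (2 ^ m)) F) := Finite.of_injective _ Units.val_injective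
  have hS' := φ.sub_pauli
  have h5 : 5 ≤ Fintype.card (Fin (2 ^ m)) := by
    rw [Fintype.card_fin]
    exact le_trans (by norm_num) (Nat.pow_le_pow_right (by norm_num : 1 ≤ 2) hm)
  have hmax := Symp.sp_pauli_maximal hS'.form h5 hp hodd rfl (hS'.isSymplecticType (by omega)) hS'.absIrred hS'.iso
    hS'.card hS'.card_center hS'.minus
  obtain ⟨A, hA, hAn⟩ := SetLike.exists_of_lt hmax.1
  refine hAn ⟨mem_normalizer_of_maps fun C hC => ?_, hA⟩
  rw [φ.mem_sub_iff, map_mul, map_mul, map_inv]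
  exact (Subgroup.mem_normalizer_iff.1 (hle (φ.dext_omega (card_ge hP (by omega)) hA)) _).1 (φ.mem_sub_iff.1 hC)

end CfsgLib.Perm.Trans.PauliMax.OPlus
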