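import Cfsg.Agent.Lib.Perm.Trans.PauliMax.OPlus.CenU

/-!
# Centralisers of elements of order four

If an overgroup meets the centralisers of the non-central involutions only in the normaliser, it does so for the
elements of square `-1` as well: products of two involutions negated by a fixed element have even order modulo the
centre.
-/

set_option autoImplicit false
set_option linter.all false

namespace CfsgLib.Perm.Trans.PauliMax.OPlus

open scoped Matrix
open Matrix Cfsg.Geo CfsgLib.Perm.Asch CfsgLib.Perm.Trans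
attribute [local instance] Classical.propDecidable
open CfsgLib.Perm.Trans.Quad

variable {ι : Type} [Fintype ι] [DecidableEq ι] {F : Type*} [Field F] [Fintype F]
variable {Q : (ι → F) → F} {R M : Subgroup (GL ι F)} {m : ℕ}

theorem nn_conj {g r : GL ι F} (hg : g ∈ NN Q R) (hr : r ∈ R) : g * r * g⁻¹ ∈ R :=
  (Subgroup.mem_normalizer_iff.1 hg.1 r).1 hr

theorem bhom_sq_one (hP : OPauli Q R m) (g : ↥(subgroupNormalizer R)) (hg : (g : GL ι F) * g = 1) (x : Bar hP) :
    bhom hP g (bhom hP g x) = x := by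
  rw [← Equiv.Perm.mul_apply, ← map_mul, show g * g = 1 from Subtype.ext hg, map_one, Equiv.Perm.one_apply]

/-- a fixed subgroup of at least square root order -/
theorem exists_fix (hP : OPauli Q R m) (hm : 1 ≤ m) {s : R} (hs : mk hP s ≠ 0) {v : GL ι F} (hv : v ∈ NN Q R)
    (hvv : v * v = 1) (hvs : v * s * v⁻¹ = s ∨ v * s * v⁻¹ = -(s : GL ι F)) :
    ∃ K : AddSubgroup (Bar hP), 2 ^ m ≤ Nat.card K ∧
      ∀ x ∈ K, barB hP (mk hP s) x = 0 ∧ bhom hP ⟨v, hv.1⟩ x = x := by
  have hS := space hP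
  set π := bhom hP ⟨v, hv.1⟩ with hπ
  have hI := bhom_iso hP ⟨v, hv.1⟩
  have hπs : π (mk hP s) = mk hP s := by
    rw [hπ, bhom_mk, mk_eq]
    rcases hvs with e | e
    · exact Or.inl e.symm
    · exact Or.inr (show (s : GL ι F) = -(v * s * v⁻¹) by rw [e, neg_neg])
  let B0 : AddSubgroup (Bar hP) := Orth.perp hS (mk hP s)
  let φ : B0 →+ Bar hP := AddMonoidHom.mk' (fun x => (x : Bar hP) + π x) fun x y => by
    rw [AddSubgroup.coe_add, hI.add, add_add_add_comm]
  let K : AddSubgroup (Bar hP) := φ.ker.map B0.subtype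
  have hK : ∀ x ∈ K, barB hP (mk hP s) x = 0 ∧ π x = x := by
    rintro _ ⟨x, hx, rfl⟩
    exact ⟨x.2, (hS.eq_of_add (show (x : Bar hP) + π x = 0 from hx)).symm⟩
  refine ⟨K, ?_, hK⟩
  have hrange : φ.range ≤ K := by
    rintro _ ⟨x, rfl⟩
    have hmem : barB hP (mk hP s) ((x : Bar hP) + π x) = 0 := by
      rw [hS.addr, show barB hP (mk hP s) (π x) = barB hP (mk hP s) x from by
        conv_lhs => rw [← hπs]
        exact hI.b hS _ _, show barB hP (mk hP s) x = 0 from x.2, add_zero]
    refine ⟨⟨(x : Bar hP) + π x, hmem⟩, ?_, rfl⟩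
    show ((x : Bar hP) + π x) + π ((x : Bar hP) + π x) = 0
    rw [hI.add, hπ, bhom_sq_one hP ⟨v, hv.1⟩ hvv, ← hπ, add_comm (π x), hS.two]
  have hcard : Nat.card B0 = Nat.card φ.range * Nat.card φ.ker := by
    rw [← Nat.card_congr (QuotientAddGroup.quotientKerEquivRange φ).toEquiv]
    exact AddSubgroup.card_eq_card_quotient_mul_card_addSubgroup _
  have hKk : Nat.card K = Nat.card φ.ker :=
    (Nat.card_congr (AddSubgroup.equivMapOfInjective _ B0.subtype Subtype.coe_injective).toEquiv).symm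
  have h1 := AddSubgroup.card_le_of_le hrange
  have hA : Nat.card (Bar hP) ≤ 2 * Nat.card B0 := by
    let ψ : Bar hP →+ ZMod 2 := AddMonoidHom.mk' (fun x => barB hP (mk hP s) x) fun x y => hS.addr _ _ _
    have hker : ψ.ker = B0 := by ext x; rfl
    rw [AddSubgroup.card_eq_card_quotient_mul_card_addSubgroup ψ.ker,
      Nat.card_congr (QuotientAddGroup.quotientKerEquivRange ψ).toEquiv, hker]
    refine Nat.mul_le_mul_right _ ((Finite.card_subtype_le _).trans ?_)
    rw [Nat.card_zmod]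
  rw [card_bar] at hA
  by_contra hlt
  push Not at hlt
  have e1 : Nat.card B0 ≤ Nat.card K * Nat.card K := by
    rw [hcard, ← hKk]; exact Nat.mul_le_mul_right _ h1
  have e2 : 2 * (Nat.card K * Nat.card K) < 2 ^ (2 * m) := by
    obtain ⟨k, hk⟩ : ∃ k, Nat.card K = 2 ^ k := by
      have hd : Nat.card K ∣ Nat.card (Bar hP) := AddSubgroup.card_addSubgroup_dvd_card K
      rw [card_bar] at hd
      obtain ⟨k, -, hk⟩ := (Nat.dvd_prime_pow Nat.prime_two).1 hd
      exact ⟨k, hk⟩
    rw [hk] at hlt ⊢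
    have hkm : k < m := (Nat.pow_lt_pow_iff_right (by norm_num)).1 hlt
    calc 2 * (2 ^ k * 2 ^ k) = 2 ^ (2 * k + 1) := by ring
      _ < 2 ^ (2 * m) := Nat.pow_lt_pow_right (by norm_num) (by omega)
  omega

/-- an involution commuting with an element of square `-1` inside a large fixed subgroup -/
theorem exists_invol (hP : OPauli Q R m) {s : R} (hss : (s : GL ι F) * s = -1) {K : AddSubgroup (Bar hP)}
    (hK : 3 ≤ Nat.card K) (hKs : ∀ x ∈ K, barB hP (mk hP s) x = 0) :
    ∃ y : R, (mk hP y ∈ K ∨ mk hP y + mk hP s ∈ K) ∧ (y : GL ι F) * y = 1 ∧ ¬ IsPM (y : GL ι F) ∧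
      (y : GL ι F) * s = (s : GL ι F) * y := by
  have hS := space hP
  obtain ⟨e, he, he0, hes⟩ : ∃ e ∈ K, e ≠ 0 ∧ e ≠ mk hP s := by
    by_contra hcon
    push Not at hcon
    haveI : Fintype K := Fintype.ofFinite _
    have hle : (Finset.univ : Finset K).card ≤ 2 := by
      refine (Finset.card_le_card_of_injOn (t := {0, mk hP s}) (fun x : K => (x : Bar hP)) (fun x _ => ?_)
        Subtype.coe_injective.injOn).trans Finset.card_le_two
      simp only [Finset.coe_insert, Finset.coe_singleton, Set.mem_insert_iff, Set.mem_singleton_iff]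
      by_cases h : (x : Bar hP) = 0
      · exact Or.inl h
      · exact Or.inr (hcon x x.2 h)
    rw [Nat.card_eq_fintype_card, ← Finset.card_univ] at hK
    omega
  have hqs : barQ hP (mk hP s) = 1 := (barQ_one_iff hP s).2 hss
  rcases Orth.z2 (barQ hP e) with hq | hq
  · obtain ⟨y, rfl⟩ := mk_surjective hP e
    exact ⟨y, Or.inl he, (barQ_zero_iff hP y).1 hq, fun e => he0 ((mk_eq_zero hP).2 e),
      ((barB_zero_iff hP s y).1 (hKs _ he)).symm⟩
  · obtain ⟨y, hy⟩ := mk_surjective hP (e + mk hP s)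
    have hb : barB hP (mk hP s) (mk hP y) = 0 := by rw [hy, hS.addr, hKs _ he, hS.self, add_zero]
    refine ⟨y, Or.inr (by rw [hy, add_assoc, hS.two, add_zero]; exact he), (barQ_zero_iff hP y).1 ?_,
      fun h => hes (hS.eq_of_add (by rw [← hy]; exact (mk_eq_zero hP).2 h)), ((barB_zero_iff hP s y).1 hb).symm⟩
    rw [hy, hS.polar, hq, hqs, hS.symm, hKs _ he]
    decide

theorem comm_conj {h u x : GL ι F} (hs : h * x * h⁻¹ = x ∨ h * x * h⁻¹ = -x) (hux : u * x = x * u) :
    h * u * h⁻¹ * x = x * (h * u * h⁻¹) := by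
  have h1 : h * u * h⁻¹ * (h * x * h⁻¹) = h * x * h⁻¹ * (h * u * h⁻¹) := by
    rw [show h * u * h⁻¹ * (h * x * h⁻¹) = h * (u * x) * h⁻¹ by group, hux]; group
  rcases hs with e | e <;> rw [e] at h1
  · exact h1
  · simpa using h1

theorem conj_eq_of_fix {v y : GL ι F} (hv : v * v = 1) (h : v * y * v⁻¹ = y) : v * y = y * v :=
  mul_inv_eq_iff_eq_mul.1 h

theorem fix_pm_of_bar (hP : OPauli Q R m) {v : GL ι F} (hv : v ∈ NN Q R) {y : R}
    (h : bhom hP ⟨v, hv.1⟩ (mk hP y) = mk hP y) :
    v * (y : GL ι F) * v⁻¹ = y ∨ v * (y : GL ι F) * v⁻¹ = -(y : GL ι F) := by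
  rw [bhom_mk, mk_eq] at h
  rcases h with e | e
  · exact Or.inl e.symm
  · exact Or.inr (show _ = -_ by conv_rhs => rw [e]
                                 simp)

/-- moving back a conjugate lying in the group -/
theorem nn_of_conj (hP : OPauli Q R m) (hm : 4 ≤ m) (hN : NN Q R ≤ M) (hC : CenInv Q R M) {h u : GL ι F} (hh : h ∈ M)
    (hu : u ∈ R) (hupm : ¬ IsPM u) (huu : u * u = 1) (hR : h * u * h⁻¹ ∈ R) : h ∈ NN Q R := by
  have hvpm : ¬ IsPM (h * u * h⁻¹) := fun e => hupm (by
    have e2 : h⁻¹ * (h * u * h⁻¹) * h = u := by group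
    rw [mul_assoc h⁻¹, ← e.comm h, ← mul_assoc, inv_mul_cancel, one_mul] at e2
    rwa [e2] at e)
  obtain ⟨k, hk, hkv⟩ := exists_conj hP hm hR hu hvpm hupm (by
    rw [huu, show h * u * h⁻¹ * (h * u * h⁻¹) = h * (u * u) * h⁻¹ by group, huu, mul_one, mul_inv_cancel])
  have h1 := hC u hu hupm huu (k * h) (mul_mem (hN hk) hh) (by
    rwa [show k * h * u * (k * h)⁻¹ = k * (h * u * h⁻¹) * k⁻¹ by group])
  have h2 := mul_mem (inv_mem hk) h1
  rwa [inv_mul_cancel_left] at h2

/-- **Closure inside the centraliser of an element of square `-1`.** -/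
theorem closed_cen (hP : OPauli Q R m) (hm : 4 ≤ m) (hN : NN Q R ≤ M) (hC : CenInv Q R M) {s : GL ι F} (hs : s ∈ R)
    (hss : s * s = -1) {h : GL ι F} (hh : h ∈ M) (hhs : h * s * h⁻¹ = s ∨ h * s * h⁻¹ = -s) {u : GL ι F} (hu : u ∈ R)
    (hupm : ¬ IsPM u) (huu : u * u = 1) (hus : u * s = s * u) (hv : h * u * h⁻¹ ∈ NN Q R) : h * u * h⁻¹ ∈ R := by
  obtain ⟨v, hvdef⟩ : ∃ v, v = h * u * h⁻¹ := ⟨_, rfl⟩
  rw [← hvdef] at hv ⊢
  have hvv : v * v = 1 := by
    rw [hvdef, show h * u * h⁻¹ * (h * u * h⁻¹) = h * (u * u) * h⁻¹ by group, huu, mul_one, mul_inv_cancel]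
  have hvi : v⁻¹ = v := inv_eq_of_mul_eq_one_right hvv
  have hvs : v * s = s * v := hvdef ▸ comm_conj hhs hus
  have hspm : ¬ IsPM s := fun e => by
    rcases e with rfl | rfl <;> simp at hss <;> exact hP.neg_one_ne hss.symm
  have hs0 : mk hP ⟨s, hs⟩ ≠ 0 := fun e => hspm ((mk_eq_zero hP).1 e)
  obtain ⟨K, hK, hKx⟩ := exists_fix hP (by omega) hs0 hv hvv (Or.inl (mul_inv_eq_iff_eq_mul.2 hvs))
  -- exactly commuting part
  let K0 : AddSubgroup (Bar hP) :=
    { carrier := {x | x ∈ K ∧ v * (rep hP x : GL ι F) = (rep hP x : GL ι F) * v}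
      zero_mem' := ⟨K.zero_mem, by
        rcases rep_mk hP 1 with e | e <;> rw [show (0 : Bar hP) = mk hP 1 from rfl, e] <;> simp⟩
      add_mem' := fun {x y} hx hy => ⟨K.add_mem hx.1 hy.1, by
        have e : mk hP (rep hP x * rep hP y) = x + y := by rw [mk_mul, mk_rep, mk_rep]
        have hc : v * ((rep hP x : GL ι F) * rep hP y) = (rep hP x : GL ι F) * rep hP y * v :=
          ((show Commute v (rep hP x : GL ι F) from hx.2).mul_right hy.2).eq
        rw [← e]
        rcases rep_mk hP (rep hP x * rep hP y) with e' | e' <;> rw [e', Subgroup.coe_mul]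
        · exact hc
        · rw [mul_neg, neg_mul, hc]⟩
      neg_mem' := fun {x} hx => by rwa [neg_eq_of_add_eq_zero_left ((space hP).two x)] }
  have hK0 : Nat.card K ≤ 2 * Nat.card K0 := by
    by_cases hall : ∀ x ∈ K, x ∈ K0
    · exact (AddSubgroup.card_le_of_le hall).trans (Nat.le_mul_of_pos_left _ two_pos)
    push Not at hall
    obtain ⟨x0, hx0, hx0'⟩ := hall
    have hanti : ∀ x ∈ K, x ∉ K0 → v * (rep hP x : GL ι F) = -((rep hP x : GL ι F) * v) := by
      intro x hx hx'
      have hfix := (hKx x hx).2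
      rw [← mk_rep hP x] at hfix
      rcases fix_pm_of_bar hP hv hfix with e | e
      · exact absurd ⟨hx, mul_inv_eq_iff_eq_mul.1 e⟩ hx'
      · rw [← neg_mul]; exact mul_inv_eq_iff_eq_mul.1 e
    have hinj : Nat.card K ≤ Nat.card (Bool × K0) := by
      refine Nat.card_le_card_of_injective (fun x : K => if h : (x : Bar hP) ∈ K0 then (false, ⟨x, h⟩) else
        (true, ⟨(x : Bar hP) + x0, K.add_mem x.2 hx0, ?_⟩)) ?_
      · have e : mk hP (rep hP (x : Bar hP) * rep hP x0) = (x : Bar hP) + x0 := by rw [mk_mul, mk_rep, mk_rep]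
        have hc : v * ((rep hP (x : Bar hP) : GL ι F) * rep hP x0) =
            (rep hP (x : Bar hP) : GL ι F) * rep hP x0 * v := by
          rw [← mul_assoc, hanti x x.2 h, neg_mul, mul_assoc _ v, hanti x0 hx0 hx0', mul_neg, neg_neg, mul_assoc]
        rw [← e]
        rcases rep_mk hP (rep hP (x : Bar hP) * rep hP x0) with e' | e' <;> rw [e', Subgroup.coe_mul]
        · exact hc
        · rw [mul_neg, neg_mul, hc]
      · intro x y e
        simp only at e
        split_ifs at e with h1 h2 h2 <;> simp only [Prod.mk.injEq, Bool.false_eq_true, Bool.true_eq_false, false_and] at e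
        · exact Subtype.ext (congrArg (fun z : K0 => (z : Bar hP)) e.2)
        · exact Subtype.ext (add_right_cancel (congrArg (fun z : K0 => (z : Bar hP)) e.2))
    rwa [Nat.card_prod, show Nat.card Bool = 2 by simp] at hinj
  have h8 : 8 ≤ Nat.card K := le_trans (by
    calc 8 = 2 ^ 3 := by norm_num
      _ ≤ 2 ^ m := Nat.pow_le_pow_right (by norm_num) (by omega)) hK
  obtain ⟨y, hyK, hyy, hypm, hys⟩ := exists_invol hP (s := ⟨s, hs⟩) hss (K := K0) (by omega) fun x hx => (hKx x hx.1).1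
  have hs' : v * (rep hP (mk hP ⟨s, hs⟩) : GL ι F) = (rep hP (mk hP ⟨s, hs⟩) : GL ι F) * v := by
    rcases rep_mk hP ⟨s, hs⟩ with e | e <;> rw [e]
    · exact hvs
    · rw [mul_neg, neg_mul, hvs]
  have hvy : v * (y : GL ι F) = (y : GL ι F) * v := by
    have key : ∀ z : R, mk hP z ∈ K0 → v * (z : GL ι F) = (z : GL ι F) * v := fun z hz => by
      rcases rep_mk hP z with e | e <;> have := hz.2 <;> rw [e] at this
      · exact this
      · rw [mul_neg, neg_mul, neg_inj] at this; exact this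
    rcases hyK with hy | hy
    · exact key y hy
    · have h1 := key (y * ⟨s, hs⟩) (by rw [mk_mul]; exact hy)
      rw [Subgroup.coe_mul, ← mul_assoc, show ((⟨s, hs⟩ : R) : GL ι F) = s from rfl, mul_assoc _ s v, ← hvs,
        ← mul_assoc] at h1
      exact mul_right_cancel h1
  -- the conjugated gate
  have hub : -(u * s) * -(u * s) = -1 := by
    rw [neg_mul_neg, show u * s * (u * s) = u * (s * u) * s by group, ← hus, ← mul_assoc, huu, one_mul, hss]
  set gu := pairGate hP hss hub with hgu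
  have hguN := pairGate_mem hP hm hs hss (hP.neg_mem (mul_mem hu hs)) hub
  set S : Matrix ι ι F := ((h * s * h⁻¹ : GL ι F) : Matrix ι ι F) with hS
  set V := (v : Matrix ι ι F) with hV
  have h2 := hP.two
  have huu' : (u : Matrix ι ι F) * u = 1 := by rw [← Units.val_mul, huu, Units.val_one]
  have hsu' : (s : Matrix ι ι F) * u = (u : Matrix ι ι F) * s := by rw [← Units.val_mul, ← hus, Units.val_mul]
  have hss' : (s : Matrix ι ι F) * s = -1 := val_neg_one hss
  obtain ⟨g, hg⟩ : ∃ g, g = h * gu * h⁻¹ := ⟨_, rfl⟩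
  have hgval : (g : Matrix ι ι F) = (1 / 2 : F) • ((1 + V) + S * (1 - V)) := by
    have e : (gu : Matrix ι ι F) =
        (1 / 2 : F) • ((1 + (u : Matrix ι ι F)) + (s : Matrix ι ι F) * (1 - (u : Matrix ι ι F))) := by
      rw [hgu, pairGate_val, Units.val_neg, Units.val_mul]
      congr 1
      simp only [add_mul, mul_add, mul_sub, mul_one, one_mul, mul_neg]
      rw [hsu', ← mul_assoc, hsu', mul_assoc, hss', mul_neg_one]
      abel
    have e1 : (h : Matrix ι ι F) * ((h⁻¹ : GL ι F) : Matrix ι ι F) = 1 := Units.mul_inv h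
    rw [hg, Units.val_mul, Units.val_mul, e, mul_smul_comm, smul_mul_assoc, hS, hV, hvdef]
    congr 1
    simp only [Units.val_mul, mul_add, add_mul, mul_sub, sub_mul, mul_one, e1]
    rw [show (h : Matrix ι ι F) * s * ((h⁻¹ : GL ι F) : Matrix ι ι F) * ((h : Matrix ι ι F) * u * ((h⁻¹ : GL ι F) : Matrix ι ι F)) =
      (h : Matrix ι ι F) * ((s : Matrix ι ι F) * u) * ((h⁻¹ : GL ι F) : Matrix ι ι F) by
        simp only [mul_assoc, Units.inv_mul_cancel_left]]
  have hsign : S = (s : Matrix ι ι F) ∨ S = -(s : Matrix ι ι F) := by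
    rcases hhs with e | e
    · left; rw [hS, e]
    · right; rw [hS, e, Units.val_neg]
  have hgy : g * (y : GL ι F) = (y : GL ι F) * g := by
    refine Units.ext ?_
    have e1 : V * (y : GL ι F) = ((y : GL ι F) : Matrix ι ι F) * V := by rw [hV, ← Units.val_mul, hvy, Units.val_mul]
    have e2 : S * (y : GL ι F) = ((y : GL ι F) : Matrix ι ι F) * S := by
      have e3 : (s : Matrix ι ι F) * (y : GL ι F) = ((y : GL ι F) : Matrix ι ι F) * s := by
        rw [← Units.val_mul, ← Units.val_mul, ← hys]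
      rcases hsign with e | e <;> rw [e]
      · exact e3
      · rw [neg_mul, mul_neg, e3]
    rw [Units.val_mul, Units.val_mul, hgval, smul_mul_assoc, mul_smul_comm]
    congr 1
    simp only [mul_add, add_mul, mul_sub, sub_mul, mul_one, one_mul, mul_assoc, e1]
    simp only [← mul_assoc, e2]
  have hgN : g ∈ NN Q R := hC y y.2 hypm hyy g (hg ▸ mul_mem (mul_mem hh (hN hguN)) (inv_mem hh))
    (Or.inl (mul_inv_eq_iff_eq_mul.2 hgy))
  have hfix : ∀ r ∈ R, r * s = s * r → v * r * v = r ∨ v * r * v = -r := by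
    intro r hr hrs
    by_contra hcon
    push Not at hcon
    have hr' : v * r * v ∈ R := by have := nn_conj hv hr; rwa [hvi] at this
    set X := g * r * g⁻¹ with hX
    have hXR : X ∈ R := nn_conj hgN hr
    have hSS : S * S = -1 := by rcases hsign with e | e <;> rw [e] <;> simp [hss']
    have hVV : V * V = 1 := by rw [hV, ← Units.val_mul, hvv, Units.val_one]
    have hSV : V * S = S * V := by
      have e3 : V * (s : Matrix ι ι F) = (s : Matrix ι ι F) * V := by
        rw [hV, ← Units.val_mul, hvs, Units.val_mul]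
      rcases hsign with e | e <;> rw [e]
      · exact e3
      · rw [mul_neg, neg_mul, e3]
    have hSr : (r : Matrix ι ι F) * S = S * r := by
      have e3 : (r : Matrix ι ι F) * s = (s : Matrix ι ι F) * r := by rw [← Units.val_mul, hrs, Units.val_mul]
      rcases hsign with e | e <;> rw [e]
      · exact e3
      · rw [mul_neg, neg_mul, e3]
    have hSVx : ∀ x, V * (S * x) = S * (V * x) := fun x => by rw [← mul_assoc, hSV, mul_assoc]
    have hSrx : ∀ x, (r : Matrix ι ι F) * (S * x) = S * ((r : Matrix ι ι F) * x) := fun x => by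
      rw [← mul_assoc, hSr, mul_assoc]
    have hSSx : ∀ x, S * (S * x) = -x := fun x => by rw [← mul_assoc, hSS, neg_one_mul]
    have hVVx : ∀ x, V * (V * x) = x := fun x => by rw [← mul_assoc, hVV, one_mul]
    have hginv : ((g⁻¹ : GL ι F) : Matrix ι ι F) = (1 / 2 : F) • ((1 + V) - S * (1 - V)) := by
      refine Units.inv_eq_of_mul_eq_one_right ?_
      rw [hgval, smul_mul_assoc, mul_smul_comm, smul_smul]
      simp only [mul_add, add_mul, mul_sub, sub_mul, mul_one, one_mul, mul_assoc, hSV, hSVx, hSS, hSSx, hVV, hVVx]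
      match_scalars <;> field_simp <;> ring
    have hXval : (2 : F) • (X : Matrix ι ι F) = (r : Matrix ι ι F) + V * r * V + S * (r * V) - S * (V * r) := by
      rw [hX, Units.val_mul, Units.val_mul, hgval, hginv, smul_mul_assoc, smul_mul_assoc, mul_smul_comm, smul_smul,
        smul_smul]
      simp only [mul_add, add_mul, mul_sub, sub_mul, mul_one, one_mul, mul_assoc, hSV, hSVx, hSS, hSSx, hVV, hVVx,
        hSr, hSrx, mul_neg, neg_mul]
      match_scalars <;> field_simp <;> ring
    have htrSV : ∀ t : GL ι F, t * s = s * t →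
        (S * ((t : Matrix ι ι F) * V) * ((t⁻¹ : GL ι F) : Matrix ι ι F)).trace = (S * V).trace := by
      intro t hts
      have e3 : S * (t : Matrix ι ι F) = (t : Matrix ι ι F) * S := by
        have e4 : (s : Matrix ι ι F) * t = (t : Matrix ι ι F) * s := by rw [← Units.val_mul, ← hts, Units.val_mul]
        rcases hsign with e | e <;> rw [e]
        · exact e4
        · rw [neg_mul, mul_neg, e4]
      rw [← mul_assoc S, e3, mul_assoc (t : Matrix ι ι F), Matrix.trace_mul_cycle, Units.inv_mul, one_mul]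
    have hne1 : tr (v * r * v * r⁻¹) = 0 := hP.trace_zero (mul_mem hr' (inv_mem hr)) fun e => by
      rcases e with e | e
      · exact hcon.1 (mul_inv_eq_one.1 e)
      · exact hcon.2 (by rw [← neg_one_mul]; exact mul_inv_eq_iff_eq_mul.1 e)
    have hne2 : tr (r * (v * r * v)⁻¹) = 0 := hP.trace_zero (mul_mem hr (inv_mem hr')) fun e => by
      rcases e with e | e
      · exact hcon.1 (mul_inv_eq_one.1 e).symm
      · have e' := mul_inv_eq_iff_eq_mul.1 e
        rw [neg_one_mul] at e'
        exact hcon.2 (neg_eq_iff_eq_neg.1 e'.symm)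
    have hA : IsPM (X * r⁻¹) := by
      refine hP.trace_pm (mul_mem hXR (inv_mem hr)) fun h0 => hP.natCast_ne ?_
      have h1 := congrArg (fun Y => (Y * ((r⁻¹ : GL ι F) : Matrix ι ι F)).trace) hXval
      simp only [smul_mul_assoc, Matrix.trace_smul, add_mul, sub_mul, Matrix.trace_add, Matrix.trace_sub, Units.mul_inv,
        Matrix.trace_one] at h1
      rw [htrSV r hrs, show (S * (V * (r : Matrix ι ι F)) * ((r⁻¹ : GL ι F) : Matrix ι ι F)) = S * V by
        rw [← mul_assoc S, mul_assoc (S * V), Units.mul_inv, mul_one]] at h1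
      simp only [tr, Units.val_mul] at h0 hne1
      rw [hV] at h1
      rw [h0, hne1] at h1
      linear_combination -h1
    have hB : IsPM (X * (v * r * v)⁻¹) := by
      refine hP.trace_pm (mul_mem hXR (inv_mem hr')) fun h0 => hP.natCast_ne ?_
      have h1 := congrArg (fun Y => (Y * (((v * r * v)⁻¹ : GL ι F) : Matrix ι ι F)).trace) hXval
      have e5 : (((v * r * v)⁻¹ : GL ι F) : Matrix ι ι F) = V * ((r⁻¹ : GL ι F) : Matrix ι ι F) * V := by
        rw [_root_.mul_inv_rev, _root_.mul_inv_rev, hvi, Units.val_mul, Units.val_mul, hV, mul_assoc]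
      have e6 : (V * (r : Matrix ι ι F) * V * (((v * r * v)⁻¹ : GL ι F) : Matrix ι ι F)) = 1 := by
        rw [hV, ← Units.val_mul, ← Units.val_mul, Units.mul_inv]
      simp only [smul_mul_assoc, Matrix.trace_smul, add_mul, sub_mul, Matrix.trace_add, Matrix.trace_sub, e6,
        Matrix.trace_one] at h1
      have c1 : (S * ((r : Matrix ι ι F) * V) * (V * ((r⁻¹ : GL ι F) : Matrix ι ι F) * V)).trace = (S * V).trace := by
        congr 1
        rw [show S * ((r : Matrix ι ι F) * V) * (V * ((r⁻¹ : GL ι F) : Matrix ι ι F) * V) =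
          S * ((r : Matrix ι ι F) * (V * V) * ((r⁻¹ : GL ι F) : Matrix ι ι F)) * V by simp only [mul_assoc], hVV,
          mul_one, Units.mul_inv, mul_one]
      have c2 : (S * (V * (r : Matrix ι ι F)) * (V * ((r⁻¹ : GL ι F) : Matrix ι ι F) * V)).trace = (S * V).trace := by
        rw [← htrSV r hrs, show S * (V * (r : Matrix ι ι F)) * (V * ((r⁻¹ : GL ι F) : Matrix ι ι F) * V) =
          S * V * ((r : Matrix ι ι F) * V * ((r⁻¹ : GL ι F) : Matrix ι ι F)) * V by simp only [mul_assoc],
          Matrix.trace_mul_cycle, ← mul_assoc V, hSV, mul_assoc S V V, hVV, mul_one]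
        simp only [mul_assoc]
      rw [← e5] at c1 c2
      rw [c1, c2] at h1
      simp only [tr, Units.val_mul] at h0 hne2
      rw [h0, hne2] at h1
      linear_combination -h1
    have h3 := hA.inv.mul hB
    rw [_root_.mul_inv_rev, inv_inv, mul_assoc, inv_mul_cancel_left] at h3
    rcases h3 with e | e
    · exact hcon.1 (mul_inv_eq_one.1 e).symm
    · have e' := mul_inv_eq_iff_eq_mul.1 e
      rw [neg_one_mul] at e'
      exact hcon.2 (neg_eq_iff_eq_neg.1 e'.symm)
  -- an element negated by conjugation with `s`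
  obtain ⟨w, hw, hsw⟩ := hP.exists_anti hs hspm
  have hkR : v * w * v * w⁻¹ ∈ R := by
    refine mul_mem ?_ (inv_mem hw)
    have := nn_conj hv hw
    rwa [hvi] at this
  set k := v * w * v * w⁻¹ with hk
  have hkc : ∀ r ∈ R, r * s = s * r → k * r = r * k := by
    intro r hr hrs
    have e1 := hfix r hr hrs
    have hrI : ∀ z : GL ι F, v * (v * z * v) * v = z := fun z => by
      rw [show v * (v * z * v) * v = (v * v) * z * (v * v) by group, hvv, one_mul, mul_one]
    have conjv : ∀ z : GL ι F, (v * w * v) * z * (v * w * v)⁻¹ = v * (w * (v * z * v) * w⁻¹) * v := fun z => by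
      rw [_root_.mul_inv_rev, _root_.mul_inv_rev, hvi]; group
    have e2 : (v * w * v) * r * (v * w * v)⁻¹ = w * r * w⁻¹ := by
      rw [conjv]
      rcases e1 with a | a <;> rcases hP.mul_mul_inv hw hr with b | b <;> simp only [a, b, mul_neg, neg_mul, neg_neg]
    have e3 : k * (w * r * w⁻¹) * k⁻¹ = w * r * w⁻¹ := by
      conv_rhs => rw [← e2]
      rw [hk]; group
    rcases hP.mul_mul_inv hw hr with b | b <;> rw [b] at e3
    · exact mul_inv_eq_iff_eq_mul.1 e3
    · rw [mul_neg, neg_mul, neg_inj] at e3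
      exact mul_inv_eq_iff_eq_mul.1 e3
  have hall : ∀ z ∈ R, z * w = w * z → (∀ r ∈ R, r * s = s * r → z * r = r * z) → IsPM z := by
    intro z hz hzw hzc
    refine hP.pm_of_commute (hP.iso hz) fun r hr => ?_
    rcases hP.sign r hr s hs with hrs | hrs
    · exact hzc r hr hrs
    · have h1 := hzc (r * w) (mul_mem hr hw) (by
        rw [mul_assoc, show w * s = -(s * w) by rw [hsw, neg_neg], mul_neg, ← mul_assoc, hrs, neg_mul, neg_neg,
          mul_assoc])
      rw [← mul_assoc, mul_assoc r w z, ← hzw, ← mul_assoc] at h1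
      exact mul_right_cancel h1
  have hpm : IsPM k ∨ k = s ∨ k = -s := by
    rcases hP.sign k hkR w hw with e | e
    · exact Or.inl (hall k hkR e hkc)
    · refine Or.inr ?_
      have h1 := hall (k * s) (mul_mem hkR hs) (by
        rw [mul_assoc, hsw, mul_neg, ← mul_assoc, e, neg_mul, neg_neg, mul_assoc]) fun r hr hrs => by
        rw [mul_assoc, ← hrs, ← mul_assoc, hkc r hr hrs, mul_assoc]
      rcases h1 with e' | e'
      · right
        have h5 := congrArg (fun z => z * s) e'
        simp only [mul_assoc, hss, one_mul, mul_neg, mul_one] at h5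
        exact neg_eq_iff_eq_neg.1 h5
      · left
        have h5 := congrArg (fun z => z * s) e'
        simp only [mul_assoc, hss, neg_mul, one_mul, mul_neg, mul_one, neg_inj] at h5
        exact h5
  rcases hpm with hpm | hpm
  · refine hP.mem_of_fix (omegaGL_le_iso hv.2) fun r hr => ?_
    rw [hvi]
    have hvw : v * w * v = w ∨ v * w * v = -w := by
      rcases hpm with e | e
      · exact Or.inl (mul_inv_eq_one.1 e)
      · exact Or.inr (by rw [← neg_one_mul]; exact mul_inv_eq_iff_eq_mul.1 e)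
    rcases hP.sign r hr s hs with hrs | hrs
    · exact hfix r hr hrs
    · have h1 := hfix (r * w) (mul_mem hr hw) (by
        rw [mul_assoc, show w * s = -(s * w) by rw [hsw, neg_neg], mul_neg, ← mul_assoc, hrs, neg_mul, neg_neg,
          mul_assoc])
      have e : v * (r * w) * v = (v * r * v) * (v * w * v) := by
        rw [show (v * r * v) * (v * w * v) = v * r * (v * v) * w * v by group, hvv, mul_one]; group
      rw [e] at h1
      rcases hvw with b | b <;> rcases h1 with c | c <;> rw [b] at c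
      · exact Or.inl (mul_right_cancel c)
      · exact Or.inr (mul_right_cancel (b := w) (by rw [neg_mul]; exact c))
      · exact Or.inr (mul_right_cancel (b := w) (by rw [neg_mul, ← c, mul_neg, neg_neg]))
      · exact Or.inl (mul_right_cancel (b := w) (by rwa [mul_neg, neg_inj] at c))
  · exfalso
    obtain ⟨e0, he0, hvw⟩ : ∃ e0 : GL ι F, e0 * e0 = -1 ∧ (v * w * v = e0 * w ∧ v * e0 * v = e0) := by
      have hvsv : v * s * v = s := by rw [hvs, mul_assoc, hvv, mul_one]
      rcases hpm with e | e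
      · exact ⟨s, hss, mul_inv_eq_iff_eq_mul.1 e, hvsv⟩
      · exact ⟨-s, by rw [neg_mul_neg, hss], mul_inv_eq_iff_eq_mul.1 e, by rw [mul_neg, neg_mul, hvsv]⟩
    have h1 : v * (e0 * w) * v = w := by
      rw [← hvw.1, show v * (v * w * v) * v = (v * v) * w * (v * v) by group, hvv, one_mul, mul_one]
    have e7 : v * (e0 * w) * v = (v * e0 * v) * (v * w * v) := by
      rw [show (v * e0 * v) * (v * w * v) = v * e0 * (v * v) * w * v by group, hvv, mul_one]; group
    rw [e7, hvw.2, hvw.1, ← mul_assoc, he0, neg_one_mul] at h1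
    exact hP.neg_ne_self w h1

/-- the central element of the group generated by two involutions negated by a third element -/
theorem dihedral (hne : (-1 : GL ι F) ≠ 1) {x y e : GL ι F} (hx : x * x = 1) (hy : y * y = 1)
    (he : e * (x * y) = -((x * y) * e)) :
    ∃ (c : GL ι F) (j : ℕ), ¬ IsPM c ∧ (c * c = 1 ∨ c * c = -1) ∧ x * c * x = c⁻¹ ∧ y * c * y = c⁻¹ ∧
      ((c = (x * y) ^ (j + j) ∧ c * y = (x * y) ^ j * y * ((x * y) ^ j)⁻¹) ∨
        (c = (x * y) ^ (j + j + 1) ∧ c * y = (x * y) ^ j * x * ((x * y) ^ j)⁻¹)) := by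
  haveI : Finite (Matrix ι ι F) := inferInstanceAs (Finite (ι → ι → F))
  haveI : Finite (GL ι F) := Finite.of_injective _ Units.val_injective
  set a := x * y with ha
  have hex : ∃ N, 0 < N ∧ IsPM (a ^ N) := ⟨orderOf a, orderOf_pos a, Or.inl (pow_orderOf_eq_one a)⟩
  set N := Nat.find hex with hNdef
  obtain ⟨hN0, hNpm⟩ := Nat.find_spec hex
  have hmin : ∀ n, 0 < n → IsPM (a ^ n) → N ≤ n := fun n h1 h2 => Nat.find_min' hex ⟨h1, h2⟩
  have hpow : ∀ n : ℕ, e * a ^ n = (-1) ^ n * (a ^ n * e) := by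
    intro n
    induction n with
    | zero => simp
    | succ n ih =>
      rw [pow_succ a, ← mul_assoc, ih, mul_assoc, mul_assoc (a ^ n), he, pow_succ (-1 : GL ι F)]
      simp only [mul_neg, neg_mul, mul_one, one_mul, mul_assoc]
  have heven : Even N := by
    by_contra hodd
    rw [Nat.not_even_iff_odd] at hodd
    have h1 := hpow N
    rw [hNpm.comm e, hodd.neg_one_pow, neg_one_mul] at h1
    exact hne (mul_right_cancel (b := a ^ N * e) (by rw [neg_one_mul, one_mul]; exact h1.symm))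
  obtain ⟨k, hk⟩ := heven
  have hxx : x⁻¹ = x := inv_eq_of_mul_eq_one_right hx
  have hyy : y⁻¹ = y := inv_eq_of_mul_eq_one_right hy
  have hxa : ∀ n : ℕ, x * a ^ n * x = (a ^ n)⁻¹ := fun n => by
    rw [← inv_pow, show a⁻¹ = x * a * x⁻¹ by rw [ha, _root_.mul_inv_rev, hxx, hyy, ← mul_assoc x x y, hx, one_mul],
      conj_pow, hxx]
  have hya : ∀ n : ℕ, y * a ^ n * y = (a ^ n)⁻¹ := fun n => by
    rw [← inv_pow, show a⁻¹ = y * a * y⁻¹ by
      rw [ha, _root_.mul_inv_rev, hxx, hyy, ← mul_assoc y x y, mul_assoc (y * x) y y, hy, mul_one], conj_pow, hyy]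
  refine ⟨a ^ k, k / 2, fun h => ?_, ?_, hxa k, hya k, ?_⟩
  · have := hmin k (by omega) h; omega
  · rw [← pow_add, show k + k = N by omega]
    exact hNpm
  · have hmove : ∀ z, z * z = 1 → z * a ^ (k / 2) * z = (a ^ (k / 2))⁻¹ →
        z * (a ^ (k / 2))⁻¹ = a ^ (k / 2) * z := fun z hz h1 => by
      rw [← h1, show z * (z * a ^ (k / 2) * z) = (z * z) * a ^ (k / 2) * z by group, hz, one_mul]
    rcases Nat.even_or_odd k with ⟨j, hj⟩ | ⟨j, hj⟩
    · left
      have hj' : k / 2 = j := by omega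
      rw [hj'] at hmove ⊢
      refine ⟨by rw [hj], ?_⟩
      rw [mul_assoc _ y, hmove y hy (hya j), ← mul_assoc, ← pow_add, hj]
    · right
      have hj' : k / 2 = j := by omega
      rw [hj'] at hmove ⊢
      refine ⟨by rw [show j + j + 1 = k by omega], ?_⟩
      rw [mul_assoc _ x, hmove x hx (hxa j), ← mul_assoc, ← pow_add, show k = j + j + 1 by omega, pow_succ,
        mul_assoc (a ^ (j + j)), ha, mul_assoc x y y, hy, mul_one]

/-- **The centralisers modulo the centre of the elements of square `-1`.** -/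
theorem cen_neg (hP : OPauli Q R m) (hm : 4 ≤ m) (hN : NN Q R ≤ M) (hC : CenInv Q R M) {s : GL ι F} (hs : s ∈ R)
    (hss : s * s = -1) {h : GL ι F} (hh : h ∈ M) (hhs : h * s * h⁻¹ = s ∨ h * s * h⁻¹ = -s) : h ∈ NN Q R := by
  have hS := space hP
  have hne := hP.neg_one_ne
  have hspm : ¬ IsPM s := fun e => by rcases e with rfl | rfl <;> simp at hss <;> exact hne hss.symm
  have hs0 : mk hP ⟨s, hs⟩ ≠ 0 := fun e => hspm ((mk_eq_zero hP).1 e)
  have h64 : 64 ≤ Nat.card (Bar hP) := by
    rw [card_bar]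
    calc 64 = 2 ^ (2 * 3) := by norm_num
      _ ≤ 2 ^ (2 * m) := Nat.pow_le_pow_right (by norm_num) (by omega)
  have h8 : 8 ≤ 2 ^ m := by
    calc 8 = 2 ^ 3 := by norm_num
      _ ≤ 2 ^ m := Nat.pow_le_pow_right (by norm_num) (by omega)
  -- an involution commuting with `s`
  obtain ⟨u, huR, huu, hupm, hus⟩ : ∃ u ∈ R, u * u = 1 ∧ ¬ IsPM u ∧ u * s = s * u := by
    obtain ⟨K, hK, hKx⟩ := exists_fix hP (by omega) hs0 (one_mem (NN Q R)) (one_mul 1) (Or.inl (by simp))
    obtain ⟨y, -, h1, h2, h3⟩ := exists_invol hP (s := ⟨s, hs⟩) hss (K := K) (by omega) fun x hx => (hKx x hx).1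
    exact ⟨y, y.2, h1, h2, h3⟩
  set x := h * u * h⁻¹ with hx
  suffices key : x ∈ NN Q R by
    exact nn_of_conj hP hm hN hC hh huR hupm huu (closed_cen hP hm hN hC hs hss hh hhs huR hupm huu hus key)
  have hxx : x * x = 1 := by
    rw [hx, show h * u * h⁻¹ * (h * u * h⁻¹) = h * (u * u) * h⁻¹ by group, huu, mul_one, mul_inv_cancel]
  have hxs : x * s = s * x := comm_conj hhs hus
  have hxM : x ∈ M := mul_mem (mul_mem hh (hN (R_le_NN hP (by omega) huR))) (inv_mem hh)
  -- an involution negating `s`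
  obtain ⟨w, hwR, hww, hsw⟩ : ∃ w ∈ R, w * w = 1 ∧ s * w = -(w * s) := by
    have hu0 : mk hP ⟨u, huR⟩ ≠ 0 := fun e => hupm ((mk_eq_zero hP).1 e)
    have hne' : mk hP ⟨s, hs⟩ ≠ mk hP ⟨u, huR⟩ := fun e => by
      have h1 := (barQ_one_iff hP ⟨s, hs⟩).2 hss
      rw [e, (barQ_zero_iff hP ⟨u, huR⟩).2 huu] at h1
      exact zero_ne_one h1
    obtain ⟨z, hz, hzs, -⟩ := Orth.exists_both hS (bar256 hP hm) hs0 hu0 hne' 0
    obtain ⟨w, rfl⟩ := mk_surjective hP z
    exact ⟨w, w.2, (barQ_zero_iff hP w).1 hz, (barB_one_iff hP _ _).1 hzs⟩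
  have hwpm : ¬ IsPM w := fun e => by
    rw [← e.comm s] at hsw
    exact hP.neg_ne_self _ hsw.symm
  have hsa : s * (x * w) = -(x * w * s) := by
    rw [← mul_assoc, ← hxs, mul_assoc, hsw, mul_neg, ← mul_assoc]
  have hwM := hN (R_le_NN hP (by omega) hwR)
  have hconj_pm : ∀ {c z : GL ι F}, z * z = 1 → z * c * z = c⁻¹ → (c * c = 1 ∨ c * c = -1) →
      (c * z * c⁻¹ = z ∨ c * z * c⁻¹ = -z) := by
    intro c z hz hzc hcc
    have e : c * z * c⁻¹ = c * c * z := by
      rw [← hzc, show c * z * (z * c * z) = c * (z * z) * c * z by group, hz, mul_one]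
    rw [e]
    rcases hcc with h' | h' <;> rw [h']
    · exact Or.inl (one_mul z)
    · exact Or.inr (neg_one_mul z)
  have hsign : ∀ (a : GL ι F), (s * a = a * s ∨ s * a = -(a * s)) → ∀ n : ℕ,
      s * a ^ n = a ^ n * s ∨ s * a ^ n = -(a ^ n * s) := by
    intro a h1 n
    induction n with
    | zero => left; simp
    | succ n ih =>
      rw [pow_succ]
      rcases ih with e | e <;> rcases h1 with e1 | e1
      · left; rw [← mul_assoc, e, mul_assoc, e1, ← mul_assoc]
      · right; rw [← mul_assoc, e, mul_assoc, e1, mul_neg, ← mul_assoc]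
      · right; rw [← mul_assoc, e, neg_mul, mul_assoc, e1, ← mul_assoc]
      · left; rw [← mul_assoc, e, neg_mul, mul_assoc, e1, mul_neg, neg_neg, ← mul_assoc]
  have hnorm : ∀ {d : GL ι F}, (s * d = d * s ∨ s * d = -(d * s)) → (d * s * d⁻¹ = s ∨ d * s * d⁻¹ = -s) := by
    intro d hd
    rcases hd with e | e
    · left; rw [← e, mul_inv_cancel_right]
    · right
      rw [show d * s = -(s * d) by rw [e, neg_neg], neg_mul, mul_inv_cancel_right]
  -- the first central element
  obtain ⟨c, j, hcpm, hcc, hxc, hwc, hcases⟩ := dihedral hne hxx hww hsa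
  have hcM : c ∈ M := by
    rcases hcases with ⟨e, -⟩ | ⟨e, -⟩ <;> rw [e] <;> exact pow_mem (mul_mem hxM hwM) _
  have hcN : c ∈ NN Q R := hC w hwR hwpm hww c hcM (hconj_pm hww hwc hcc)
  have hcwN : c * w ∈ NN Q R := mul_mem hcN (R_le_NN hP (by omega) hwR)
  set d := (x * w) ^ j with hd
  have hdM : d ∈ M := pow_mem (mul_mem hxM hwM) _
  have hds : d * s * d⁻¹ = s ∨ d * s * d⁻¹ = -s := hnorm (hsign _ (Or.inr hsa) j)
  have hcw : c * w ∈ R := by
    rcases hcases with ⟨-, e⟩ | ⟨-, e⟩
    · -- a conjugate of `w`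
      rw [e]
      set v := d * w * d⁻¹ with hv
      have hvN : v ∈ NN Q R := e ▸ hcwN
      have hvv : v * v = 1 := by
        rw [hv, show d * w * d⁻¹ * (d * w * d⁻¹) = d * (w * w) * d⁻¹ by group, hww, mul_one, mul_inv_cancel]
      have hvs : v * s * v⁻¹ = s ∨ v * s * v⁻¹ = -s := by
        have e1 : d⁻¹ * s * d = s ∨ d⁻¹ * s * d = -s := by
          rcases hds with e' | e'
          · left; nth_rw 1 [← e']; group
          · right; nth_rw 1 [show s = -(d * s * d⁻¹) by rw [e', neg_neg]]; simp only [mul_neg, neg_mul]; group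
        rw [show v * s * v⁻¹ = d * (w * (d⁻¹ * s * d) * w⁻¹) * d⁻¹ by rw [hv]; group]
        rcases e1 with a1 | a1 <;> rcases hP.mul_mul_inv hwR hs with a2 | a2 <;> rcases hds with a3 | a3 <;>
          simp only [a1, a2, a3, mul_neg, neg_mul, neg_neg, true_or, or_true]
      obtain ⟨K, hK, hKx⟩ := exists_fix hP (by omega) hs0 hvN hvv hvs
      obtain ⟨y, hyK, hyy, hypm, hys⟩ := exists_invol hP (s := ⟨s, hs⟩) hss (K := K) (by omega) fun z hz => (hKx z hz).1
      have hfixy : bhom hP ⟨v, hvN.1⟩ (mk hP y) = mk hP y := by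
        rcases hyK with hy | hy
        · exact (hKx _ hy).2
        · have h1 := (hKx _ hy).2
          have hfs : bhom hP ⟨v, hvN.1⟩ (mk hP ⟨s, hs⟩) = mk hP ⟨s, hs⟩ := by
            rw [bhom_mk, mk_eq]
            rcases hvs with e' | e'
            · exact Or.inl e'.symm
            · exact Or.inr (show s = -(v * s * v⁻¹) by rw [e', neg_neg])
          rw [(bhom_iso hP _).add, hfs] at h1
          exact add_right_cancel h1
      have hyv := fix_pm_of_bar hP hvN hfixy
      set y' := d⁻¹ * (y : GL ι F) * d⁻¹⁻¹ with hy'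
      have hy'c : y' * w * y'⁻¹ = w ∨ y' * w * y'⁻¹ = -w := by
        have h1 : (y : GL ι F) * v * (y : GL ι F)⁻¹ = v ∨ (y : GL ι F) * v * (y : GL ι F)⁻¹ = -v := by
          rcases hyv with e' | e'
          · exact Or.inl (mul_inv_eq_iff_eq_mul.2 (mul_inv_eq_iff_eq_mul.1 e').symm)
          · refine Or.inr ?_
            rw [mul_inv_eq_iff_eq_mul, neg_mul]
            rw [mul_inv_eq_iff_eq_mul, neg_mul] at e'
            rw [e', neg_neg]
        rcases h1 with e' | e' <;> [left; right] <;>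
          rw [show y' * w * y'⁻¹ = d⁻¹ * ((y : GL ι F) * v * (y : GL ι F)⁻¹) * d by rw [hy', hv]; group, e', hv]
        · group
        · simp only [mul_neg, neg_mul]; group
      have hy'M : y' ∈ M := mul_mem (mul_mem (inv_mem hdM) (hN (R_le_NN hP (by omega) y.2))) (inv_mem (inv_mem hdM))
      have hy'N : y' ∈ NN Q R := hC w hwR hwpm hww y' hy'M hy'c
      have hds' : d⁻¹ * s * d⁻¹⁻¹ = s ∨ d⁻¹ * s * d⁻¹⁻¹ = -s := by
        rcases hds with e' | e'
        · left; nth_rw 1 [← e']; group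
        · right; nth_rw 1 [show s = -(d * s * d⁻¹) by rw [e', neg_neg]]; simp only [mul_neg, neg_mul]; group
      have hy'R := closed_cen hP hm hN hC hs hss (inv_mem hdM) hds' y.2 hypm hyy hys hy'N
      have hdN := nn_of_conj hP hm hN hC (inv_mem hdM) y.2 hypm hyy hy'R
      have := nn_conj (inv_mem hdN) hwR
      rwa [inv_inv] at this
    · -- a conjugate of `u`
      rw [e, show d * x * d⁻¹ = d * h * u * (d * h)⁻¹ by rw [hx]; group]
      refine closed_cen hP hm hN hC hs hss (mul_mem hdM hh) ?_ huR hupm huu hus ?_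
      · rw [show d * h * s * (d * h)⁻¹ = d * (h * s * h⁻¹) * d⁻¹ by group]
        rcases hhs with a | a <;> rw [a]
        · exact hds
        · rw [mul_neg, neg_mul, neg_inj, neg_eq_iff_eq_neg]; exact hds.symm
      · rw [show d * h * u * (d * h)⁻¹ = d * x * d⁻¹ by rw [hx]; group, ← e]
        exact hcwN
  have hcR : c ∈ R := by
    have := mul_mem hcw (inv_mem hwR)
    rwa [mul_inv_cancel_right] at this
  have hfin : ∀ c : GL ι F, c ∈ R → ¬ IsPM c → (c * c = 1 ∨ c * c = -1) → x * c * x = c⁻¹ →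
      ((c * c = -1 → c * s = s * c)) → x ∈ NN Q R := by
    intro c hcR hcpm hcc hxc hcs
    have hxi : x⁻¹ = x := inv_eq_of_mul_eq_one_right hxx
    rcases hcc with e | e
    · exact hC c hcR hcpm e x hxM (Or.inl (by rw [hxi, hxc, inv_eq_of_mul_eq_one_right e]))
    · have hci : c⁻¹ = -c := inv_eq_of_mul_eq_one_right (by rw [mul_neg, e, neg_neg])
      have hcs' := hcs e
      have hx' : x * (c * s) * x⁻¹ = -(c * s) := by
        rw [hxi, show x * (c * s) * x = x * c * (s * x) by group, ← hxs, ← mul_assoc, hxc, hci, neg_mul]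
      refine hC (c * s) (mul_mem hcR hs) (fun hpm => ?_) ?_ x hxM (Or.inr hx')
      · rw [hpm.comm x, mul_inv_cancel_right] at hx'
        exact hP.neg_ne_self _ hx'.symm
      · rw [show c * s * (c * s) = c * (s * c) * s by group, ← hcs', show c * (c * s) * s = (c * c) * (s * s) by group,
          e, hss, neg_mul_neg, one_mul]
  rcases hP.sign c hcR s hs with hcs | hcs
  · exact hfin c hcR hcpm hcc hxc fun _ => hcs
  rcases hcc with hcc1 | hcc2
  · exact hfin c hcR hcpm (Or.inl hcc1) hxc fun e => absurd (hcc1.symm.trans e) hne.symm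
  -- the second central element
  have hc0 : mk hP ⟨c, hcR⟩ ≠ 0 := fun e => hcpm ((mk_eq_zero hP).1 e)
  obtain ⟨r, hr0, hrq, hrs, hrc⟩ := Orth.exists_sing hS (by omega) ((barQ_one_iff hP ⟨s, hs⟩).2 hss)
    ((barQ_one_iff hP ⟨c, hcR⟩).2 hcc2) ((barB_one_iff hP _ _).2 (show s * c = -(c * s) by rw [hcs, neg_neg]))
  obtain ⟨y, rfl⟩ := mk_surjective hP r
  have hypm : ¬ IsPM (y : GL ι F) := fun e => hr0 ((mk_eq_zero hP).2 e)
  have hyy := (barQ_zero_iff hP y).1 hrq
  have hys : (y : GL ι F) * s = s * y := ((barB_zero_iff hP ⟨s, hs⟩ y).1 hrs).symm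
  have hyc : (y : GL ι F) * c = c * y := ((barB_zero_iff hP ⟨c, hcR⟩ y).1 hrc).symm
  have hxi : x⁻¹ = x := inv_eq_of_mul_eq_one_right hxx
  have hcx : c * x = -(x * c) := by
    have hci : c⁻¹ = -c := inv_eq_of_mul_eq_one_right (by rw [mul_neg, hcc2, neg_neg])
    rw [hci] at hxc
    have := congrArg (fun z => x * z) hxc
    rw [show x * (x * c * x) = (x * x) * c * x by group, hxx, one_mul, mul_neg] at this
    exact this
  have hca : c * (x * (y : GL ι F)) = -(x * y * c) := by
    rw [← mul_assoc, hcx, neg_mul, mul_assoc, ← hyc, ← mul_assoc]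
  obtain ⟨c', j', hc'pm, hc'c, hxc', hyc', hcases'⟩ := dihedral hne hxx hyy hca
  have hyM := hN (R_le_NN hP (by omega) y.2)
  have hsxy : s * (x * (y : GL ι F)) = x * y * s := by rw [← mul_assoc, ← hxs, mul_assoc, ← hys, ← mul_assoc]
  have hc'M : c' ∈ M := by
    rcases hcases' with ⟨e, -⟩ | ⟨e, -⟩ <;> rw [e] <;> exact pow_mem (mul_mem hxM hyM) _
  have hc's : c' * s = s * c' := by
    rcases hcases' with ⟨e, -⟩ | ⟨e, -⟩ <;> rw [e] <;> exact (((show Commute s (x * y) from hsxy).pow_right _).symm).eq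
  have hc'N : c' ∈ NN Q R := hC y y.2 hypm hyy c' hc'M (hconj_pm hyy hyc' hc'c)
  have hc'yN : c' * y ∈ NN Q R := mul_mem hc'N (R_le_NN hP (by omega) y.2)
  set d' := (x * (y : GL ι F)) ^ j' with hd'
  have hd'M : d' ∈ M := pow_mem (mul_mem hxM hyM) _
  have hd's : d' * s * d'⁻¹ = s := mul_inv_eq_iff_eq_mul.2 (((show Commute s (x * y) from hsxy).pow_right _).symm).eq
  have hc'yR : c' * y ∈ R := by
    rcases hcases' with ⟨-, e⟩ | ⟨-, e⟩
    · rw [e] at hc'yN ⊢
      exact closed_cen hP hm hN hC hs hss hd'M (Or.inl hd's) y.2 hypm hyy hys hc'yN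
    · rw [e, show d' * x * d'⁻¹ = d' * h * u * (d' * h)⁻¹ by rw [hx]; group] at hc'yN ⊢
      refine closed_cen hP hm hN hC hs hss (mul_mem hd'M hh) ?_ huR hupm huu hus hc'yN
      rw [show d' * h * s * (d' * h)⁻¹ = d' * (h * s * h⁻¹) * d'⁻¹ by group]
      rcases hhs with a | a <;> rw [a]
      · exact Or.inl hd's
      · right; rw [mul_neg, neg_mul, hd's]
  have hc'R : c' ∈ R := by
    have := mul_mem hc'yR (inv_mem y.2)
    rwa [mul_inv_cancel_right] at this
  exact hfin c' hc'R hc'pm hc'c hxc' fun _ => hc's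

end CfsgLib.Perm.Trans.PauliMax.OPlus
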