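import Cfsg.Agent.Lib.Perm.Trans.PauliMax.OPlus.UFrame
import Cfsg.Agent.Lib.Coprime.Hyperplanes
import Mathlib.GroupTheory.Transfer
import Mathlib.GroupTheory.Nilpotent

/-!
# Centralisers of involutions of the group in a proper overgroup

The elements of the overgroup which are trivial on the fixed space form a group `K` in which the group of the
negated space is self-normalising, so it has an odd normal complement modulo the centre, which is generated by
fixed points of hyperplanes; each hyperplane contains a quaternion subgroup, so the complement is trivial.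
-/

set_option autoImplicit false
set_option linter.all false

namespace CfsgLib.Perm.Trans.PauliMax.OPlus

open scoped Matrix
open Matrix Cfsg.Geo CfsgLib.Perm.Asch CfsgLib.Perm.Trans CfsgLib.Perm.Trans.Quad
attribute [local instance] Classical.propDecidable

variable {ι : Type} [Fintype ι] [DecidableEq ι] {F : Type*} [Field F] [Fintype F]
variable {Q : (ι → F) → F} {R M : Subgroup (GL ι F)} {m : ℕ}

/-- a second pair orthogonal to a given one -/
theorem Orth.exists_elliptic_perp {A : Type*} [AddCommGroup A] [Finite A] {q : A → ZMod 2} {B : A → A → ZMod 2}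
    (hS : Orth.Space q B) (h64 : 64 ≤ Nat.card A) {a d : A} (ha : q a = 1) (hd : q d = 1) (had : B a d = 1) :
    ∃ y y', q y = 1 ∧ q y' = 1 ∧ B y y' = 1 ∧ B a y = 0 ∧ B d y = 0 ∧ B a y' = 0 ∧ B d y' = 0 := by
  obtain ⟨y, hy, hay, hdy⟩ := Orth.exists_nonsing_perp hS (by omega) a d
  obtain ⟨x0, hx0⟩ := hS.nondeg y (hS.ne_zero hy)
  have hda : B d a = 1 := by rw [hS.symm, had]
  obtain ⟨x, hyx, hax, hdx⟩ : ∃ x, B y x = 1 ∧ B a x = 0 ∧ B d x = 0 := by
    refine ⟨x0 + (if B a x0 = 0 then 0 else d) + (if B d x0 = 0 then 0 else a), ?_, ?_, ?_⟩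
    · simp only [hS.addr]
      rcases Orth.z2 (B a x0) with h | h <;> rcases Orth.z2 (B d x0) with h' | h' <;>
        simp [h, h', hx0, hS.bz, hS.symm y, hay, hdy]
    · simp only [hS.addr]
      rcases Orth.z2 (B a x0) with h | h <;> rcases Orth.z2 (B d x0) with h' | h' <;>
        simp [h, h', hS.bz, hS.self, had] <;> decide
    · simp only [hS.addr]
      rcases Orth.z2 (B a x0) with h | h <;> rcases Orth.z2 (B d x0) with h' | h' <;>
        simp [h, h', hS.bz, hS.self, hda] <;> decide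
  rcases Orth.z2 (q x) with hqx | hqx
  swap
  · exact ⟨y, x, hy, hqx, hyx, hay, hdy, hax, hdx⟩
  obtain ⟨z, hz, haz, hdz, hyz, hxz⟩ : ∃ z, q z = 1 ∧ B a z = 0 ∧ B d z = 0 ∧ B y z = 0 ∧ B x z = 0 := by
    by_contra hcon
    push Not at hcon
    let K : AddSubgroup A := Orth.perp hS a ⊓ (Orth.perp hS d ⊓ (Orth.perp hS y ⊓ Orth.perp hS x))
    have hK : ∀ k ∈ K, q k = 0 := fun k hk =>
      (Orth.z2 _).resolve_right fun e => hcon k e hk.1 hk.2.1 hk.2.2.1 hk.2.2.2
    let π : A → A := fun v => v + (if B d v = 0 then 0 else a) + (if B a v = 0 then 0 else d) +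
      (if B x v = 0 then 0 else y) + (if B y v = 0 then 0 else x)
    have hπ : ∀ v, π v ∈ K := by
      intro v
      refine ⟨?_, ?_, ?_, ?_⟩
      all_goals
        show B _ (π v) = 0
        simp only [π, hS.addr]
        rcases Orth.z2 (B a v) with h1 | h1 <;> rcases Orth.z2 (B d v) with h2 | h2 <;>
          rcases Orth.z2 (B y v) with h3 | h3 <;> rcases Orth.z2 (B x v) with h4 | h4 <;>
          simp [h1, h2, h3, h4, hS.bz, hS.self, had, hda, hay, hdy, hax, hdx, hyx, hS.symm x y, hS.symm y a,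
            hS.symm x a, hS.symm y d, hS.symm x d] <;> decide
    have hzero : ∀ k ∈ K, k = 0 := by
      intro k hk
      by_contra hk0
      obtain ⟨v, hv⟩ := hS.nondeg k hk0
      have h1 := hS.polar k (π v)
      rw [hK k hk, hK _ (hπ v), hK _ (K.add_mem hk (hπ v)), zero_add, zero_add] at h1
      simp only [π, hS.addr] at h1
      rw [hv] at h1
      have e1 : B k a = 0 := by rw [hS.symm]; exact hk.1
      have e2 : B k d = 0 := by rw [hS.symm]; exact hk.2.1
      have e3 : B k y = 0 := by rw [hS.symm]; exact hk.2.2.1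
      have e4 : B k x = 0 := by rw [hS.symm]; exact hk.2.2.2
      split_ifs at h1 <;> simp [hS.bz, e1, e2, e3, e4] at h1
    have hle : Nat.card A ≤ Nat.card (ZMod 2 × ZMod 2 × ZMod 2 × ZMod 2) :=
      Nat.card_le_card_of_injective (fun v => (B a v, B d v, B x v, B y v)) fun v w e => by
        simp only [Prod.mk.injEq] at e
        obtain ⟨e1, e2, e3, e4⟩ := e
        have hv := (hzero _ (hπ v)).trans (hzero _ (hπ w)).symm
        simp only [π, e1, e2, e3, e4] at hv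
        exact add_right_cancel (add_right_cancel (add_right_cancel (add_right_cancel hv)))
    simp [Nat.card_prod] at hle
    omega
  exact ⟨y, x + z, hy, by rw [hS.polar, hqx, hz, hxz]; decide, by rw [hS.addr, hyx, hyz, add_zero], hay, hdy,
    by rw [hS.addr, hax, haz, add_zero], by rw [hS.addr, hdx, hdz, add_zero]⟩

namespace UFrame

variable (φ : UFrame Q R m)

/-- the elements of the overgroup which are trivial on the fixed space -/
def kk (M : Subgroup (GL ι F)) : Subgroup (GL (Fin (2 ^ m)) F) :=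
  M.comap (φ.extG.comp (MonoidHom.inr _ _))

theorem mem_kk {g : GL (Fin (2 ^ m)) F} : g ∈ φ.kk M ↔ φ.extG (1, g) ∈ M := Iff.rfl

variable (hm : 3 ≤ m) (hN : NN Q R ≤ M) (hM : M ≤ omegaGL Q) (hC : CenQuat Q R M)
include hm hN hM hC

theorem sub_le_kk : φ.sub ≤ φ.kk M := fun x hx => hN (φ.one_sub_mem hm hx)

theorem kk_iso {g : GL (Fin (2 ^ m)) F} (hg : g ∈ φ.kk M) : g ∈ Cfsg.isometryGroup F φ.form :=
  (φ.of_extG_iso (omegaGL_le_iso (hM hg))).2

/-- an element fixing a quaternion subgroup lies in the group -/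
theorem kk_fix {g : GL (Fin (2 ^ m)) F} (hg : g ∈ φ.kk M) {y y' : GL (Fin (2 ^ m)) F} (hy : y ∈ φ.sub)
    (hy' : y' ∈ φ.sub) (hyy : y * y = -1) (hyy' : y' * y' = -1) (hanti : y * y' = -(y' * y))
    (h1 : g * y * g⁻¹ = y ∨ g * y * g⁻¹ = -y) (h2 : g * y' * g⁻¹ = y' ∨ g * y' * g⁻¹ = -y') : g ∈ φ.sub := by
  have hS := φ.sub_pauli
  have key : ∀ s ∈ φ.sub, g * s * y = y * (g * s) → g * s * y' = y' * (g * s) → g ∈ φ.sub := by
    intro s hs e1 e2
    obtain ⟨k, hk⟩ : ∃ k, k = g * s := ⟨_, rfl⟩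
    rw [← hk] at e1 e2
    have hkK : k ∈ φ.kk M := hk ▸ mul_mem hg (φ.sub_le_kk hm hN hM hC hs)
    have hcomm : ∀ z, k * z = z * k → φ.extG (1, k) * φ.extG (z, z) * (φ.extG (1, k))⁻¹ = φ.extG (z, z) := by
      intro z hz
      rw [mul_inv_eq_iff_eq_mul, ← map_mul, ← map_mul, Prod.mk_mul_mk, Prod.mk_mul_mk, hz, one_mul, mul_one]
    have hnn := hC _ (φ.extG_diag_mem hy) _ (φ.extG_diag_mem hy') (φ.diag_sq hyy) (φ.diag_sq hyy') (by
      rw [← map_mul, ← map_mul, Prod.mk_mul_mk, Prod.mk_mul_mk, hanti, φ.extG_neg]) (φ.extG (1, k)) hkK (Or.inl (hcomm y e1))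
      (Or.inl (hcomm y' e2))
    have hk' : k ∈ φ.sub := hS.mem_of_fix (φ.kk_iso hm hN hM hC hkK) fun a ha => by
      have h := (Subgroup.mem_normalizer_iff.1 hnn.1 _).1 (φ.extG_diag_mem ha)
      rw [← map_mul, ← map_inv, ← map_mul, Prod.inv_mk, Prod.mk_mul_mk, Prod.mk_mul_mk, one_mul, inv_one, mul_one] at h
      exact φ.pair_mem h
    have := mul_mem hk' (inv_mem hs)
    rwa [hk, mul_inv_cancel_right] at this
  have hba : y' * y = -(y * y') := by rw [hanti, neg_neg]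
  rcases h1 with e1 | e1 <;> rcases h2 with e2 | e2 <;> rw [mul_inv_eq_iff_eq_mul] at e1 e2
  · exact key 1 φ.sub.one_mem (by simpa using e1) (by simpa using e2)
  · rw [neg_mul] at e2
    refine key _ hy ?_ ?_
    · rw [← mul_assoc y g, ← e1]
    · rw [mul_assoc, hanti, mul_neg, ← mul_assoc, e2, neg_mul, neg_neg, mul_assoc]
  · rw [neg_mul] at e1
    refine key _ hy' ?_ ?_
    · rw [mul_assoc, hba, mul_neg, ← mul_assoc, e1, neg_mul, neg_neg, mul_assoc]
    · rw [← mul_assoc y' g, ← e2]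
  · rw [neg_mul] at e1 e2
    refine key _ (mul_mem hy hy') ?_ ?_
    · rw [mul_assoc, mul_assoc y, hba, mul_neg, mul_neg, ← mul_assoc g, e1, neg_mul, neg_neg, mul_assoc]
    · rw [mul_assoc, mul_assoc y, hyy', ← mul_assoc y' g, show y' * g = -(g * y') by rw [e2, neg_neg], neg_mul,
        mul_assoc, ← mul_assoc y' y y', hba]
      simp [mul_assoc, hyy']

/-- the group is self-normalising -/
theorem kk_normalizer {g : GL (Fin (2 ^ m)) F} (hg : g ∈ φ.kk M) (hgn : g ∈ subgroupNormalizer φ.sub) :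
    g ∈ φ.sub := by
  have hS := φ.sub_pauli
  have hB := space hS
  have h64 : 2 ^ 6 ≤ Nat.card (Bar hS) := card_bar_ge hS (by omega)
  by_cases htriv : bhom hS ⟨g, hgn⟩ = 1
  · refine hS.mem_of_fix (φ.kk_iso hm hN hM hC hg) fun a ha => (bhom_eq_fix hS ⟨g, hgn⟩ ⟨a, ha⟩).1 ?_
    rw [htriv]; rfl
  exfalso
  let C : Subgroup (Equiv.Perm (Bar hS)) := ((φ.kk M).subgroupOf (subgroupNormalizer φ.sub)).map (bhom hS)
  have hnorm : Orth.Normalised hB C := by
    refine ⟨?_, ?_⟩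
    · rintro _ ⟨c, -, rfl⟩
      exact bhom_iso hS c
    · rintro _ ⟨c, hc, rfl⟩ pa pb hpa hpb
      obtain ⟨a, rfl⟩ := mk_surjective hS pa
      obtain ⟨b, rfl⟩ := mk_surjective hS pb
      have ha := (barQ_one_iff hS a).1 hpa
      have hb := (barQ_one_iff hS b).1 hpb
      have hGn : pairGate hS ha hb ∈ subgroupNormalizer φ.sub :=
        mem_normalizer_of_maps fun r hr => pairGate_maps hS a.2 ha b.2 hb hr
      refine ⟨⟨_, hGn⟩ * c * ⟨_, hGn⟩⁻¹, ?_, by rw [map_mul, map_mul, map_inv, bhom_gate hS ha hb hGn]⟩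
      show φ.extG (1, pairGate hS ha hb * (c : GL (Fin (2 ^ m)) F) * (pairGate hS ha hb)⁻¹) ∈ M
      have hG : φ.extG (pairGate hS ha hb, pairGate hS ha hb) ∈ M := by
        rw [φ.gate_lift ha hb]
        exact hN (pairGate_mem φ.pauli (by omega) (φ.extG_diag_mem a.2) _ (φ.extG_diag_mem b.2) _)
      have h1 := mul_mem (mul_mem hG (show φ.extG (1, (c : GL (Fin (2 ^ m)) F)) ∈ M from hc)) (inv_mem hG)
      rwa [← map_inv, ← map_mul, ← map_mul, Prod.inv_mk, Prod.mk_mul_mk, Prod.mk_mul_mk, mul_one, mul_inv_cancel] at h1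
  obtain ⟨pa, pd, ha, hd, had, ⟨c, hc, hcact⟩⟩ :=
    Orth.found hnorm (by omega) (Subgroup.mem_map_of_mem (bhom hS) (show (⟨g, hgn⟩ : ↥(subgroupNormalizer φ.sub)) ∈
      (φ.kk M).subgroupOf (subgroupNormalizer φ.sub) from hg)) htriv
  obtain ⟨py, py', hy, hy', hyy', hay, hdy, hay', hdy'⟩ := Orth.exists_elliptic_perp hB (by omega) ha hd had
  obtain ⟨y, rfl⟩ := mk_surjective hS py
  obtain ⟨y', rfl⟩ := mk_surjective hS py'
  have hfix : ∀ z : φ.sub, barB hS pa (OPlus.mk hS z) = 0 → barB hS pd (OPlus.mk hS z) = 0 →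
      ((c : GL (Fin (2 ^ m)) F) * z * (c : GL (Fin (2 ^ m)) F)⁻¹ = z ∨
        (c : GL (Fin (2 ^ m)) F) * z * (c : GL (Fin (2 ^ m)) F)⁻¹ = -(z : GL (Fin (2 ^ m)) F)) := by
    intro z h1 h2
    refine (bhom_eq_fix hS c z).1 ?_
    rw [hcact, Equiv.Perm.mul_apply, Orth.tau_apply, Orth.tau_apply, Orth.tfun_fix _ h1, Orth.tfun_fix _ h2]
  have hcsub := φ.kk_fix hm hN hM hC hc y.2 y'.2 ((barQ_one_iff hS y).1 hy) ((barQ_one_iff hS y').1 hy')
    ((barB_one_iff hS y y').1 hyy') (hfix y hay hdy) (hfix y' hay' hdy')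
  obtain ⟨av, rfl⟩ := mk_surjective hS pa
  have hfa : bhom hS c (OPlus.mk hS av) = OPlus.mk hS av := by
    refine (bhom_eq_fix hS c av).2 ?_
    exact hS.mul_mul_inv hcsub av.2
  rw [hcact, Equiv.Perm.mul_apply, Orth.tau_apply, Orth.tau_apply, Orth.tfun_fix _ (hB.self _),
    Orth.tfun_move _ (by rw [hB.symm, had]), add_eq_left] at hfa
  exact hB.ne_zero hd hfa

/-- **The kernel is the group.** -/
theorem kk_eq : φ.kk M = φ.sub := by
  have hS := φ.sub_pauli
  have hB := space hS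
  have h64 : 2 ^ 6 ≤ Nat.card (Bar hS) := card_bar_ge hS (by omega)
  haveI : Finite (Matrix (Fin (2 ^ m)) (Fin (2 ^ m)) F) := inferInstanceAs (Finite (_ → _ → F))
  haveI : Finite (GL (Fin (2 ^ m)) F) := Finite.of_injective _ Units.val_injective
  haveI : Fact (Nat.Prime 2) := ⟨Nat.prime_two⟩
  refine le_antisymm ?_ (φ.sub_le_kk hm hN hM hC)
  let Z : Subgroup (φ.kk M) :=
    { carrier := {x | IsPM (x : GL (Fin (2 ^ m)) F)}
      one_mem' := Or.inl rfl
      mul_mem' := fun ha hb => IsPM.mul ha hb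
      inv_mem' := fun ha => IsPM.inv ha }
  haveI hZn : Z.Normal := ⟨fun x hx g => by
    show IsPM ((g * x * g⁻¹ : φ.kk M) : GL (Fin (2 ^ m)) F)
    rw [Subgroup.coe_mul, Subgroup.coe_mul, Subgroup.coe_inv, IsPM.comm hx, mul_inv_cancel_right]
    exact hx⟩
  let ψ : φ.sub →* φ.kk M ⧸ Z := (QuotientGroup.mk' Z).comp (Subgroup.inclusion (φ.sub_le_kk hm hN hM hC))
  have hψ : ∀ (k : φ.kk M) (r : φ.sub), ψ r = QuotientGroup.mk k →
      (k : GL (Fin (2 ^ m)) F) = r ∨ (k : GL (Fin (2 ^ m)) F) = -(r : GL (Fin (2 ^ m)) F) := by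
    intro k r e
    have h : IsPM ((r : GL (Fin (2 ^ m)) F)⁻¹ * (k : GL (Fin (2 ^ m)) F)) := QuotientGroup.eq.1 e
    rcases h with h | h
    · exact Or.inl (inv_mul_eq_one.1 h).symm
    · exact Or.inr (by rw [inv_mul_eq_iff_eq_mul] at h; rw [h, mul_neg_one])
  obtain ⟨P, hPdef⟩ : ∃ P, P = ψ.range := ⟨_, rfl⟩
  have hback : ∀ x, x ∈ P → ∀ k : φ.kk M, x = QuotientGroup.mk k → (k : GL (Fin (2 ^ m)) F) ∈ φ.sub := by
    intro x hx k e
    rw [hPdef] at hx
    obtain ⟨r, hr⟩ := hx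
    rcases hψ k r (hr.trans e) with h | h <;> rw [h]
    exacts [r.2, hS.neg_mem r.2]
  have hmemP : ∀ r : φ.sub, ψ r ∈ P := fun r => hPdef ▸ ⟨r, rfl⟩
  have hPp : IsPGroup 2 P := by
    rw [hPdef]
    exact ((IsPGroup.of_card hS.card).to_subgroup ⊤).map ψ |>.of_equiv (MulEquiv.subgroupCongr (MonoidHom.range_eq_map ψ).symm)
  have hnormP : Subgroup.normalizer (P : Set (φ.kk M ⧸ Z)) ≤ P := by
    intro x hx
    obtain ⟨k, rfl⟩ := QuotientGroup.mk_surjective x
    have hk : (k : GL (Fin (2 ^ m)) F) ∈ subgroupNormalizer φ.sub := mem_normalizer_of_maps fun r hr => by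
      have h1 := (Subgroup.mem_normalizer_iff.1 hx (ψ ⟨r, hr⟩)).1 (hmemP _)
      exact hback _ h1 ((k * ⟨r, φ.sub_le_kk hm hN hM hC hr⟩ * k⁻¹ : φ.kk M)) rfl
    exact hmemP ⟨_, φ.kk_normalizer hm hN hM hC k.2 hk⟩
  obtain ⟨S, hPS⟩ := hPp.exists_le_sylow
  have hSP : (S : Subgroup (φ.kk M ⧸ Z)) = P := by
    refine le_antisymm ?_ hPS
    by_contra hlt
    haveI : Group.IsNilpotent S := S.2.isNilpotent
    have hne : P.subgroupOf S ≠ ⊤ := fun e => hlt (Subgroup.subgroupOf_eq_top.1 e)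
    have h := normalizerCondition_of_isNilpotent (G := S) (P.subgroupOf S) (lt_top_iff_ne_top.2 hne)
    obtain ⟨s, hs, hsP⟩ := SetLike.exists_of_lt h
    refine hsP (hnormP (Subgroup.mem_normalizer_iff.2 fun p => ?_))
    have hs' := Subgroup.mem_normalizer_iff.1 hs
    constructor
    · intro hp
      exact (hs' ⟨p, hPS hp⟩).1 hp
    · intro hp
      have hpS : p ∈ (S : Subgroup (φ.kk M ⧸ Z)) := by
        have := mul_mem (mul_mem (inv_mem s.2) (show (s : φ.kk M ⧸ Z) * p * (s : φ.kk M ⧸ Z)⁻¹ ∈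
          (S : Subgroup (φ.kk M ⧸ Z)) from hPS hp)) s.2
        rwa [show (s : φ.kk M ⧸ Z)⁻¹ * ((s : φ.kk M ⧸ Z) * p * (s : φ.kk M ⧸ Z)⁻¹) * s = p by group] at this
      exact (hs' ⟨p, hpS⟩).2 hp
  have habel : ∀ a ∈ P, ∀ b ∈ P, a * b = b * a := by
    intro a ha b hb
    rw [hPdef] at ha hb
    obtain ⟨r, rfl⟩ := ha
    obtain ⟨s, rfl⟩ := hb
    rw [← map_mul, ← map_mul]
    refine QuotientGroup.eq.2 ?_
    show IsPM (((r : GL (Fin (2 ^ m)) F) * (s : GL (Fin (2 ^ m)) F))⁻¹ * ((s : GL (Fin (2 ^ m)) F) * (r : GL (Fin (2 ^ m)) F)))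
    rcases hS.sign s s.2 r r.2 with h | h <;> rw [h]
    · left; rw [inv_mul_cancel]
    · right; rw [mul_neg, inv_mul_cancel]
  have hNC : Subgroup.normalizer (S : Set (φ.kk M ⧸ Z)) ≤ Subgroup.centralizer (S : Set (φ.kk M ⧸ Z)) := by
    intro x hx
    have hxP : x ∈ P := hnormP (by rw [← hSP]; exact hx)
    refine Subgroup.mem_centralizer_iff.2 fun y hy => habel y ?_ x hxP
    rw [← hSP]; exact hy
  have hcomp := MonoidHom.ker_transferSylow_isComplement' S hNC
  obtain ⟨O, hOdef⟩ : ∃ O, O = (MonoidHom.transferSylow S hNC).ker := ⟨_, rfl⟩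
  rw [← hOdef] at hcomp
  have hOn : O.Normal := hOdef ▸ MonoidHom.normal_ker _
  have hodd : ¬ 2 ∣ Nat.card O := by
    rw [← hcomp.index_eq_card]
    exact S.not_dvd_index
  have hPe : Cfsg.IsElementaryAbelian 2 P :=
    ⟨⟨⟨fun a b => Subtype.ext (habel _ a.2 _ b.2)⟩⟩, fun a ha => by
      rw [hPdef] at ha
      obtain ⟨r, rfl⟩ := ha
      rw [pow_two, ← map_mul]
      exact (QuotientGroup.eq_one_iff _).2 (hS.square r r.2)⟩
  have hP4 : 2 ^ 2 ≤ Nat.card P := by
    have h1 := Subgroup.card_eq_card_quotient_mul_card_subgroup ψ.ker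
    rw [Nat.card_congr (QuotientGroup.quotientKerEquivRange ψ).toEquiv, ← hPdef, hS.card] at h1
    have h2 : Nat.card ψ.ker ≤ 2 := by
      haveI : Finite (pm hS) := Nat.finite_of_card_ne_zero (by rw [card_pm hS]; norm_num)
      refine le_of_le_of_eq ?_ (card_pm hS)
      refine Nat.card_le_card_of_injective (fun x : ψ.ker => (⟨(x : φ.sub), ?_⟩ : pm hS)) fun x y e =>
        Subtype.ext (congrArg (fun z : pm hS => (z : φ.sub)) e)
      exact (QuotientGroup.eq_one_iff (Subgroup.inclusion (φ.sub_le_kk hm hN hM hC) (x : φ.sub))).1 x.2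
    have h3 : 2 ^ (1 + 2 * m) ≤ Nat.card P * 2 := h1 ▸ Nat.mul_le_mul_left _ h2
    have h4 : 2 ^ 7 ≤ 2 ^ (1 + 2 * m) := Nat.pow_le_pow_right (by norm_num) (by omega)
    omega
  have hXW := CfsgLib.Coprime.le_of_hyperplanes (W := ⊥) hPe hP4 hodd (by haveI := hOn; rw [Subgroup.normalizer_eq_top (H := O)]; exact le_top) ?_
  · intro k hk
    have h := hcomp.sup_eq_top
    rw [le_bot_iff.1 hXW, bot_sup_eq, hSP] at h
    exact hback _ (h.symm ▸ Subgroup.mem_top (QuotientGroup.mk (⟨k, hk⟩ : φ.kk M))) _ rfl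
  intro E hEP hrel x hx
  obtain ⟨hxO, hxE⟩ := hx
  let H : AddSubgroup (Bar hS) :=
    { carrier := {z | ψ (rep hS z) ∈ E}
      zero_mem' := by
        show ψ (rep hS 0) ∈ E
        rw [show ψ (rep hS 0) = 1 from (QuotientGroup.eq_one_iff _).2 ((mk_eq_zero hS).1 (mk_rep hS 0))]
        exact E.one_mem
      add_mem' := fun {p q} hp hq => by
        have e : ψ (rep hS (p + q)) = ψ (rep hS p) * ψ (rep hS q) := by
          rw [← map_mul]
          refine QuotientGroup.eq.2 ?_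
          show IsPM (((rep hS (p + q) : GL (Fin (2 ^ m)) F))⁻¹ * ((rep hS p * rep hS q : φ.sub) : GL (Fin (2 ^ m)) F))
          rcases (mk_eq hS).1 (show OPlus.mk hS (rep hS (p + q)) = OPlus.mk hS (rep hS p * rep hS q) by
            rw [mk_mul, mk_rep, mk_rep, mk_rep]) with h | h <;> rw [h]
          · left; rw [inv_mul_cancel]
          · right; rw [mul_neg, inv_mul_cancel]
        show ψ (rep hS (p + q)) ∈ E
        rw [e]
        exact E.mul_mem hp hq
      neg_mem' := fun {p} hp => by rwa [neg_eq_of_add_eq_zero_left (hB.two p)] }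
  have hrel' : (E.subgroupOf P).index = 2 := hrel
  have hH : Nat.card (Bar hS) ≤ 2 * Nat.card H := by
    by_cases hall : ∀ z, z ∈ H
    · rw [show H = ⊤ from eq_top_iff.2 fun z _ => hall z, AddSubgroup.card_top]
      omega
    push Not at hall
    obtain ⟨x0, hx0⟩ := hall
    have hadd : ∀ z, z ∉ H → z + x0 ∈ H := by
      intro z hz
      have key := (Subgroup.mul_mem_iff_of_index_two hrel' (a := ⟨_, hmemP (rep hS z)⟩) (b := ⟨_, hmemP (rep hS x0)⟩)).2
        (iff_of_false hz hx0)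
      show ψ (rep hS (z + x0)) ∈ E
      have e : ψ (rep hS (z + x0)) = ψ (rep hS z) * ψ (rep hS x0) := by
        rw [← map_mul]
        refine QuotientGroup.eq.2 ?_
        show IsPM (((rep hS (z + x0) : GL (Fin (2 ^ m)) F))⁻¹ * ((rep hS z * rep hS x0 : φ.sub) : GL (Fin (2 ^ m)) F))
        rcases (mk_eq hS).1 (show OPlus.mk hS (rep hS (z + x0)) = OPlus.mk hS (rep hS z * rep hS x0) by
          rw [mk_mul, mk_rep, mk_rep, mk_rep]) with h | h <;> rw [h]
        · left; rw [inv_mul_cancel]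
        · right; rw [mul_neg, inv_mul_cancel]
      rw [e]
      exact key
    have hinj : Nat.card (Bar hS) ≤ Nat.card (Bool × H) := by
      refine Nat.card_le_card_of_injective
        (fun z => if h : z ∈ H then (false, ⟨z, h⟩) else (true, ⟨z + x0, hadd z h⟩)) fun z w e => ?_
      simp only at e
      split_ifs at e with h1 h2 h2 <;>
        simp only [Prod.mk.injEq, Bool.false_eq_true, Bool.true_eq_false, false_and] at e
      · exact congrArg (fun t : H => (t : Bar hS)) e.2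
      · exact add_right_cancel (congrArg (fun t : H => (t : Bar hS)) e.2)
    rwa [Nat.card_prod, show Nat.card Bool = 2 by simp] at hinj
  obtain ⟨py, py', hy, hy', hq, hq', hqq⟩ := Orth.exists_elliptic hB (by omega) H hH
  obtain ⟨k, rfl⟩ := QuotientGroup.mk_surjective x
  have hfix : ∀ z : Bar hS, z ∈ H →
      ((k : GL (Fin (2 ^ m)) F) * (rep hS z : GL (Fin (2 ^ m)) F) * (k : GL (Fin (2 ^ m)) F)⁻¹ = rep hS z ∨
        (k : GL (Fin (2 ^ m)) F) * (rep hS z : GL (Fin (2 ^ m)) F) * (k : GL (Fin (2 ^ m)) F)⁻¹ =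
          -(rep hS z : GL (Fin (2 ^ m)) F)) := by
    intro z hz
    have h1 : ψ (rep hS z) * QuotientGroup.mk k = QuotientGroup.mk k * ψ (rep hS z) :=
      Subgroup.mem_centralizer_iff.1 hxE _ hz
    exact hψ (k * ⟨_, φ.sub_le_kk hm hN hM hC (rep hS z).2⟩ * k⁻¹) (rep hS z) (by
      show _ = (QuotientGroup.mk k : φ.kk M ⧸ Z) * ψ (rep hS z) * (QuotientGroup.mk k)⁻¹
      rw [← h1, mul_inv_cancel_right])
  have e0 := (barQ_one_iff hS (rep hS py)).1 (by rw [mk_rep]; exact hq)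
  have e0' := (barQ_one_iff hS (rep hS py')).1 (by rw [mk_rep]; exact hq')
  have e1 := (barB_one_iff hS (rep hS py) (rep hS py')).1 (by rw [mk_rep, mk_rep]; exact hqq)
  have hksub := φ.kk_fix hm hN hM hC k.2 (rep hS py).2 (rep hS py').2 e0 e0' e1 (hfix py hy) (hfix py' hy')
  have hxP : (QuotientGroup.mk k : φ.kk M ⧸ Z) ∈ P := hmemP ⟨_, hksub⟩
  rw [← hSP] at hxP
  have := hcomp.disjoint.le_bot (Subgroup.mem_inf.2 ⟨hxO, hxP⟩)
  exact this

end UFrame

theorem pairGate_conj_gl {κ : Type} [Fintype κ] [DecidableEq κ] {q : (κ → F) → F} {S : Subgroup (GL κ F)} {l : ℕ}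
    (hP : OPauli q S l) {a b : GL κ F} (ha : a * a = -1) (hb : b * b = -1) (k : GL κ F)
    (ha' : k * a * k⁻¹ * (k * a * k⁻¹) = -1) (hb' : k * b * k⁻¹ * (k * b * k⁻¹) = -1) :
    k * pairGate hP ha hb * k⁻¹ = pairGate hP ha' hb' := Units.ext (by
  simp only [Units.val_mul, pairGate_val]
  rw [mul_smul_comm, smul_mul_assoc]
  congr 1
  simp only [mul_add, add_mul, mul_one, one_mul, Units.mul_inv, mul_assoc, Units.inv_mul_cancel_left])

namespace UFrame

variable (φ : UFrame Q R m) (hm : 3 ≤ m) (hN : NN Q R ≤ M) (hM : M ≤ omegaGL Q) (hC : CenQuat Q R M)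
include hm hN hM hC

/-- **Elements of the overgroup centralising `u` normalise the group.** -/
theorem cen_mem {h : GL ι F} (hh : h ∈ M) (hc : h * φ.u = φ.u * h) : h ∈ NN Q R := by
  have hS := φ.sub_pauli
  have hB := space hS
  have h64 : 2 ^ 6 ≤ Nat.card (Bar hS) := card_bar_ge hS (by omega)
  have hkk := φ.kk_eq hm hN hM hC
  have hwM : φ.w ∈ M := hN (R_le_NN φ.pauli (by omega) φ.w_mem)
  obtain ⟨a, hadef⟩ : ∃ a, a = φ.rpG h hc := ⟨_, rfl⟩
  obtain ⟨b, hbdef⟩ : ∃ b, b = φ.rpG (φ.w * h * φ.w) (φ.comm_w hc) := ⟨_, rfl⟩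
  have he : φ.extG (a, b) = h := by rw [hadef, hbdef]; exact φ.extG_rpG hc
  have hswap : φ.extG (b, a) ∈ M := by
    rw [← φ.w_extG, he]; exact mul_mem (mul_mem hwM hh) hwM
  have hiso := φ.of_extG_iso (he.symm ▸ omegaGL_le_iso (hM hh))
  -- both halves normalise
  have hbn : ∀ g ∈ φ.sub, b * g * b⁻¹ ∈ φ.sub := fun g hg => by
    rw [← hkk] at hg ⊢
    have h1 := mul_mem (mul_mem hh (show φ.extG (1, g) ∈ M from hg)) (inv_mem hh)
    rwa [← he, ← map_inv, ← map_mul, ← map_mul, Prod.inv_mk, Prod.mk_mul_mk, Prod.mk_mul_mk, mul_one,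
      mul_inv_cancel] at h1
  have han : ∀ g ∈ φ.sub, a * g * a⁻¹ ∈ φ.sub := fun g hg => by
    rw [← hkk] at hg ⊢
    have h1 := mul_mem (mul_mem hswap (show φ.extG (1, g) ∈ M from hg)) (inv_mem hswap)
    rwa [← map_inv, ← map_mul, ← map_mul, Prod.inv_mk, Prod.mk_mul_mk, Prod.mk_mul_mk, mul_one,
      mul_inv_cancel] at h1
  have haN : a ∈ subgroupNormalizer φ.sub := mem_normalizer_of_maps han
  have hbN : b ∈ subgroupNormalizer φ.sub := mem_normalizer_of_maps hbn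
  obtain ⟨π, hπ⟩ : ∃ π, π = bhom hS ⟨a⁻¹ * b, mul_mem (inv_mem haN) hbN⟩ := ⟨_, rfl⟩
  have hI : Orth.Iso (barQ hS) π := hπ ▸ bhom_iso hS _
  -- the difference commutes with the gates
  have hcommute : ∀ p q : φ.sub, barQ hS (OPlus.mk hS p) = 1 → barQ hS (OPlus.mk hS q) = 1 → ∀ z,
      π (Orth.tau hB (OPlus.mk hS p) (Orth.tau hB (OPlus.mk hS q) z)) =
        Orth.tau hB (OPlus.mk hS p) (Orth.tau hB (OPlus.mk hS q) (π z)) := by
    intro p q hp hq z
    have hp' := (barQ_one_iff hS p).1 hp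
    have hq' := (barQ_one_iff hS q).1 hq
    obtain ⟨G, hG⟩ : ∃ G, G = pairGate hS hp' hq' := ⟨_, rfl⟩
    have hGn : G ∈ subgroupNormalizer φ.sub :=
      hG ▸ mem_normalizer_of_maps fun r hr => pairGate_maps hS p.2 hp' q.2 hq' hr
    have sq : ∀ k x : GL (Fin (2 ^ m)) F, x * x = -1 → k * x * k⁻¹ * (k * x * k⁻¹) = -1 := fun k x hx => by
      rw [show k * x * k⁻¹ * (k * x * k⁻¹) = k * (x * x) * k⁻¹ by group, hx]
      simp
    have hD : φ.extG (G, G) ∈ M := by
      rw [hG, φ.gate_lift]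
      exact hN (pairGate_mem φ.pauli (by omega) (φ.extG_diag_mem p.2) _ (φ.extG_diag_mem q.2) _)
    have hD' : φ.extG (a * G * a⁻¹, a * G * a⁻¹) ∈ M := by
      rw [hG, pairGate_conj_gl hS hp' hq' a (sq _ _ hp') (sq _ _ hq'), φ.gate_lift]
      exact hN (pairGate_mem φ.pauli (by omega) (φ.extG_diag_mem (han _ p.2)) _ (φ.extG_diag_mem (han _ q.2)) _)
    have h1 := mul_mem (inv_mem hD') (mul_mem (mul_mem hh hD) (inv_mem hh))
    rw [← he, ← map_inv, ← map_inv, ← map_mul, ← map_mul, ← map_mul, Prod.inv_mk, Prod.inv_mk, Prod.mk_mul_mk,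
      Prod.mk_mul_mk, Prod.mk_mul_mk, inv_mul_cancel] at h1
    have h2 : (a * G * a⁻¹)⁻¹ * (b * G * b⁻¹) ∈ φ.kk M := h1
    rw [hkk] at h2
    have h3 := φ.sub_conj (inv_mem haN) h2
    rw [inv_inv, show a⁻¹ * ((a * G * a⁻¹)⁻¹ * (b * G * b⁻¹)) * a = G⁻¹ * (a⁻¹ * b) * G * (a⁻¹ * b)⁻¹ by group] at h3
    obtain ⟨c, hc'⟩ : ∃ c : ↥(subgroupNormalizer φ.sub), c = ⟨a⁻¹ * b, mul_mem (inv_mem haN) hbN⟩ := ⟨_, rfl⟩
    have h4 : bhom hS ((⟨G, hGn⟩ : ↥(subgroupNormalizer φ.sub))⁻¹ * c * ⟨G, hGn⟩ * c⁻¹) = 1 := by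
      refine Equiv.ext fun x => ?_
      obtain ⟨r, rfl⟩ := mk_surjective hS x
      rw [Equiv.Perm.one_apply]
      refine (bhom_eq_fix hS _ r).2 ?_
      simp only [hc', Subgroup.coe_mul, Subgroup.coe_inv]
      exact hS.mul_mul_inv h3 r.2
    have h5 : bhom hS ⟨G, hGn⟩ * bhom hS c = bhom hS c * bhom hS ⟨G, hGn⟩ := by
      rw [map_mul, map_mul, map_mul, map_inv, map_inv, mul_inv_eq_one, mul_assoc, inv_mul_eq_iff_eq_mul] at h4
      exact h4.symm
    subst hG
    rw [bhom_gate hS hp' hq' hGn, hc', ← hπ] at h5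
    exact (Equiv.ext_iff.1 h5 z).symm
  -- so it is trivial
  have htriv : ∀ pp, barQ hS pp = 1 → π pp = pp := by
    intro P0 hP0
    obtain ⟨q0, hq0, hpq0⟩ : ∃ q, barQ hS q = 1 ∧ barB hS P0 q = 1 := by
      obtain ⟨y, hy⟩ := hB.nondeg P0 (hB.ne_zero hP0)
      rcases Orth.z2 (barQ hS y) with h | h
      · obtain ⟨x, hx, hpx, hyx⟩ := Orth.exists_nonsing_perp hB (by omega) P0 y
        exact ⟨y + x, by rw [hB.polar, h, hx, hyx]; decide, by rw [hB.addr, hy, hpx, add_zero]⟩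
      · exact ⟨y, h, hy⟩
    obtain ⟨r0, hr0, hrq, hpr, hqr⟩ := Orth.exists_sing hB (by omega) hP0 hq0 hpq0
    have key : ∀ q, barQ hS q = 1 → barB hS P0 q = 1 → π P0 = P0 ∨ π P0 = q ∨ π P0 = P0 + q := by
      intro q hq hpq
      have hne : P0 ≠ q := fun e => by rw [e, hB.self] at hpq; exact zero_ne_one hpq
      obtain ⟨x, hxp, hxq⟩ := Orth.exists_dual hB hP0 hq hne
      obtain ⟨p', rfl⟩ := mk_surjective hS P0
      obtain ⟨q', rfl⟩ := mk_surjective hS q
      have h := hcommute p' q' hP0 hq x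
      rw [Orth.tau_apply _ (OPlus.mk hS q') x, Orth.tfun_fix _ (by rw [hB.symm, hxq]), Orth.tau_apply,
        Orth.tfun_move _ (by rw [hB.symm, hxp]), hI.add, Orth.tau_apply, Orth.tau_apply] at h
      have hπ0 : π (OPlus.mk hS p') ≠ 0 := fun e => hB.ne_zero hP0 (π.injective (e.trans hI.zero.symm))
      rcases Orth.z2 (barB hS (OPlus.mk hS q') (π x)) with h1 | h1
      · rw [Orth.tfun_fix _ h1] at h
        rcases Orth.z2 (barB hS (OPlus.mk hS p') (π x)) with h2 | h2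
        · rw [Orth.tfun_fix _ h2, add_eq_left] at h
          exact absurd h hπ0
        · rw [Orth.tfun_move _ h2, add_right_inj] at h
          exact Or.inl h
      · rw [Orth.tfun_move _ h1] at h
        rcases Orth.z2 (barB hS (OPlus.mk hS p') (π x + OPlus.mk hS q')) with h2 | h2
        · rw [Orth.tfun_fix _ h2, add_right_inj] at h
          exact Or.inr (Or.inl h)
        · rw [Orth.tfun_move _ h2, add_assoc, add_right_inj, add_comm] at h
          exact Or.inr (Or.inr h)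
    have hq1 : barQ hS (q0 + r0) = 1 := by rw [hB.polar, hq0, hrq, hqr]; decide
    rcases key q0 hq0 hpq0 with e | e | e
    · exact e
    all_goals rcases key (q0 + r0) hq1 (by rw [hB.addr, hpq0, hpr, add_zero]) with e' | e' | e'
    · exact e'
    · exact absurd (add_eq_left.1 (e.symm.trans e').symm) hr0
    · exfalso
      have h1 := congrArg (barB hS P0) (e.symm.trans e')
      rw [hB.addr, hB.addr, hB.self, hpq0, hpr, zero_add, add_zero] at h1
      have h2 := congrArg (barB hS q0) (e.symm.trans e')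
      rw [hB.self, hB.addr, hB.addr, hB.self, hB.symm, hpq0, hqr, add_zero, add_zero] at h2
      exact zero_ne_one h2
    · exact e'
    · exfalso
      have h2 := congrArg (barB hS q0) (e.symm.trans e')
      rw [hB.addr, hB.addr, hB.self, hB.symm, hpq0, hqr, add_zero, add_zero] at h2
      exact one_ne_zero h2
    · exfalso
      refine hr0 ?_
      have h3 := e.symm.trans e'
      rw [← add_assoc] at h3
      exact add_eq_left.1 h3.symm
  have hcsub : a⁻¹ * b ∈ φ.sub := by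
    refine hS.mem_of_fix (mul_mem (inv_mem hiso.1) hiso.2) fun r hr => ?_
    refine (bhom_eq_fix hS ⟨a⁻¹ * b, mul_mem (inv_mem haN) hbN⟩ ⟨r, hr⟩).1 ?_
    rw [← hπ]
    exact Orth.eq_of_nonsing hB hI.add (g := id) (fun _ _ => rfl) (by omega) htriv _
  obtain ⟨c, hc'⟩ : ∃ c, c = a⁻¹ * b := ⟨_, rfl⟩
  rw [← hc'] at hcsub
  have hb' : b = a * c := by rw [hc', mul_inv_cancel_left]
  have key : ∀ t ∈ R, t * φ.u = φ.u * t → h * t * h⁻¹ ∈ R := by
    intro t ht htc
    obtain ⟨r, hr⟩ : ∃ r, r = φ.rpG t htc := ⟨_, rfl⟩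
    have hrS : r ∈ φ.sub := hr ▸ φ.mem_sub ht htc
    have hd : h * φ.extG (r, r) * h⁻¹ ∈ R := by
      rw [← he, ← map_inv, ← map_mul, ← map_mul, Prod.inv_mk, Prod.mk_mul_mk, Prod.mk_mul_mk, hb']
      have hx := han r hrS
      rcases hS.mul_mul_inv hcsub hrS with e | e
      · rw [show a * c * r * (a * c)⁻¹ = a * (c * r * c⁻¹) * a⁻¹ by group, e]
        exact φ.extG_diag_mem hx
      · rw [show a * c * r * (a * c)⁻¹ = a * (c * r * c⁻¹) * a⁻¹ by group, e, mul_neg, neg_mul]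
        exact (φ.extG_signs hx).1
    rcases φ.eq_extG ht htc with e | e <;> rw [← hr] at e <;> rw [e] at hd
    · exact hd
    · rw [show h * t * h⁻¹ = h * φ.u⁻¹ * h⁻¹ * (h * (φ.u * t) * h⁻¹) by group]
      refine mul_mem ?_ hd
      rw [inv_eq_of_mul_eq_one_right φ.uu, hc, mul_inv_cancel_right]
      exact φ.u_mem
  have hw : h * φ.w * h⁻¹ ∈ R := by
    have e1 : φ.w * φ.extG (a⁻¹, b⁻¹) = φ.extG (b⁻¹, a⁻¹) * φ.w := by
      rw [← φ.w_extG a⁻¹ b⁻¹, mul_assoc (φ.w * _), φ.ww, mul_one]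
    have e : h * φ.w * h⁻¹ = φ.extG (a * b⁻¹, b * a⁻¹) * φ.w := by
      rw [← he, ← map_inv, Prod.inv_mk, mul_assoc, e1, ← mul_assoc, ← map_mul, Prod.mk_mul_mk]
    rw [e]
    refine mul_mem ?_ φ.w_mem
    have hx : b * a⁻¹ ∈ φ.sub := by rw [hb']; exact han c hcsub
    rw [show a * b⁻¹ = (b * a⁻¹)⁻¹ by group]
    rcases hS.inv_eq hx with h' | h' <;> rw [h']
    exacts [φ.extG_diag_mem hx, (φ.extG_signs hx).2]
  refine ⟨mem_normalizer_of_maps fun r hr => ?_, hM hh⟩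
  rcases φ.pauli.sign r hr φ.u φ.u_mem with e | e
  · exact key r hr e
  · have h1 := mul_mem (key (r * φ.w) (mul_mem hr φ.w_mem) (φ.mul_w_comm e)) hw
    rw [show h * (r * φ.w) * h⁻¹ * (h * φ.w * h⁻¹) = h * (r * (φ.w * φ.w)) * h⁻¹ by group, φ.ww, mul_one] at h1
    exact h1

end UFrame

/-- the conclusion for involutions -/
def CenInv (Q : (ι → F) → F) (R M : Subgroup (GL ι F)) : Prop :=
  ∀ u ∈ R, ¬ IsPM u → u * u = 1 → ∀ h ∈ M, (h * u * h⁻¹ = u ∨ h * u * h⁻¹ = -u) → h ∈ NN Q R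

/-- **The centralisers modulo the centre of the non-central involutions.** -/
theorem cen_invol (hP : OPauli Q R (m + 1)) (hm : 3 ≤ m) (hN : NN Q R ≤ M) (hM : M ≤ omegaGL Q)
    (hC : CenQuat Q R M) : CenInv Q R M := by
  intro u hu hpm huu h hh hc
  obtain ⟨φ, rfl⟩ := exists_uframe hP hu hpm huu
  rcases hc with e | e
  · exact φ.cen_mem hm hN hM hC hh (mul_inv_eq_iff_eq_mul.1 e)
  · have hw := R_le_NN hP (by omega) φ.w_mem
    have h1 := φ.cen_mem hm hN hM hC (mul_mem (hN hw) hh) (by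
      have e' : h * φ.u = -(φ.u * h) := by
        rw [← neg_mul]; exact mul_inv_eq_iff_eq_mul.1 e
      rw [mul_assoc, e', mul_neg, ← mul_assoc, ← mul_assoc, φ.anti, neg_mul])
    have h2 := mul_mem (inv_mem hw) h1
    rwa [inv_mul_cancel_left] at h2

end CfsgLib.Perm.Trans.PauliMax.OPlus
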