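import Cfsg.Agent.Lib.Perm.Trans.PauliMax.OPlus.Bar

/-!
# Products of two gates

For `a * a = -1` and `b * b = -1` the element `(1 + a) * (1 + b) / 2` is an isometry normalising the group, and acts
on its binary space as the product of two transvections.
-/

set_option autoImplicit false
set_option linter.all false

namespace CfsgLib.Perm.Trans.PauliMax.OPlus

open scoped Matrix
open Matrix Cfsg.Geo CfsgLib.Perm.Asch CfsgLib.Perm.Trans
attribute [local instance] Classical.propDecidable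
open CfsgLib.Perm.Trans.Quad
open scoped commutatorElement

variable {ι : Type} [Fintype ι] [DecidableEq ι] {F : Type*} [Field F]
variable {Q : (ι → F) → F} {R : Subgroup (GL ι F)} {m : ℕ}

/-- the elements of the maximal subgroup in question -/
def NN (Q : (ι → F) → F) (R : Subgroup (GL ι F)) : Subgroup (GL ι F) :=
  subgroupNormalizer R ⊓ omegaGL Q

theorem val_neg_one {a : GL ι F} (ha : a * a = -1) : (a : Matrix ι ι F) * a = -1 := by
  rw [← Units.val_mul, ha, Units.val_neg, Units.val_one]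

theorem half_inv {A : Matrix ι ι F} (hA : A * A = -1) : (1 + A) * (1 - A) = (2 : F) • 1 := by
  rw [mul_sub, mul_one, add_mul, one_mul, hA, two_smul]
  abel

theorem half_inv' {A : Matrix ι ι F} (hA : A * A = -1) : (1 - A) * (1 + A) = (2 : F) • 1 := by
  rw [mul_add, mul_one, sub_mul, one_mul, hA, two_smul]
  abel

/-- the product of the two gates -/
def pairGate (hP : OPauli Q R m) {a b : GL ι F} (ha : a * a = -1) (hb : b * b = -1) : GL ι F where
  val := (1 / 2 : F) • ((1 + (a : Matrix ι ι F)) * (1 + (b : Matrix ι ι F)))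
  inv := (1 / 2 : F) • ((1 - (b : Matrix ι ι F)) * (1 - (a : Matrix ι ι F)))
  val_inv := by
    have := hP.two
    rw [smul_mul_assoc, mul_smul_comm, smul_smul, mul_assoc, ← mul_assoc (1 + (b : Matrix ι ι F)),
      half_inv (val_neg_one hb), smul_mul_assoc, one_mul, mul_smul_comm, half_inv (val_neg_one ha), smul_smul,
      smul_smul]
    field_simp
    exact one_smul _ _
  inv_val := by
    have := hP.two
    rw [smul_mul_assoc, mul_smul_comm, smul_smul, mul_assoc, ← mul_assoc (1 - (a : Matrix ι ι F)),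
      half_inv' (val_neg_one ha), smul_mul_assoc, one_mul, mul_smul_comm, half_inv' (val_neg_one hb), smul_smul,
      smul_smul]
    field_simp
    exact one_smul _ _

theorem pairGate_val (hP : OPauli Q R m) {a b : GL ι F} (ha : a * a = -1) (hb : b * b = -1) :
    (pairGate hP ha hb : Matrix ι ι F) = (1 / 2 : F) • ((1 + (a : Matrix ι ι F)) * (1 + (b : Matrix ι ι F))) := rfl

theorem half_form (hP : OPauli Q R m) {a : GL ι F} (haR : a ∈ R) (ha : a * a = -1) (x : ι → F) :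
    Q ((1 + (a : Matrix ι ι F)) *ᵥ x) = 2 * Q x := by
  have hq := hP.quad
  have h1 := iso_pol (hP.iso haR) x ((a : Matrix ι ι F) *ᵥ x)
  rw [Matrix.mulVec_mulVec, val_neg_one ha, Matrix.neg_mulVec, Matrix.one_mulVec, pneg_right hq, pcomm _ x] at h1
  have h2 : QuadraticMap.polar Q x ((a : Matrix ι ι F) *ᵥ x) = 0 :=
    (mul_eq_zero.1 (show (2 : F) * QuadraticMap.polar Q x ((a : Matrix ι ι F) *ᵥ x) = 0 by linear_combination -h1)).resolve_left hP.two
  rw [Matrix.add_mulVec, Matrix.one_mulVec, qadd hq, mem_iso.1 (hP.iso haR), h2, add_zero, two_mul]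

theorem pairGate_iso (hP : OPauli Q R m) {a b : GL ι F} (haR : a ∈ R) (ha : a * a = -1) (hbR : b ∈ R)
    (hb : b * b = -1) : pairGate hP ha hb ∈ Cfsg.isometryGroup F Q := by
  refine mem_iso.2 fun x => ?_
  have := hP.two
  rw [pairGate_val, Matrix.smul_mulVec, qsmul hP.quad, ← Matrix.mulVec_mulVec, half_form hP haR ha, half_form hP hbR hb]
  field_simp

/-- conjugation by one gate -/
noncomputable def act (a r : GL ι F) : GL ι F := if a * r = r * a then r else a * r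

theorem act_mem {a r : GL ι F} (ha : a ∈ R) (hr : r ∈ R) : act a r ∈ R := by
  unfold act
  split_ifs
  exacts [hr, mul_mem ha hr]

theorem half_conj (hP : OPauli Q R m) {a r : GL ι F} (haR : a ∈ R) (ha : a * a = -1) (hr : r ∈ R) :
    (1 + (a : Matrix ι ι F)) * r = (act a r : Matrix ι ι F) * (1 + (a : Matrix ι ι F)) := by
  unfold act
  split_ifs with h
  · rw [add_mul, one_mul, mul_add, mul_one, ← Units.val_mul, h, Units.val_mul]
  · have h' := (hP.sign a haR r hr).resolve_left h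
    have e : (a : Matrix ι ι F) * r * a = r := by
      rw [← Units.val_mul, h', Units.val_neg, Units.val_mul, neg_mul, mul_assoc, val_neg_one ha, mul_neg, mul_one,
        neg_neg]
    rw [add_mul, one_mul, Units.val_mul, mul_add, mul_one, e, add_comm]

theorem pairGate_conj (hP : OPauli Q R m) {a b r : GL ι F} (haR : a ∈ R) (ha : a * a = -1) (hbR : b ∈ R)
    (hb : b * b = -1) (hr : r ∈ R) :
    pairGate hP ha hb * r * (pairGate hP ha hb)⁻¹ = act a (act b r) := by
  rw [mul_inv_eq_iff_eq_mul]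
  refine Units.ext ?_
  rw [Units.val_mul, Units.val_mul, pairGate_val, smul_mul_assoc, mul_assoc, half_conj hP hbR hb hr, ← mul_assoc,
    half_conj hP haR ha (act_mem hbR hr), mul_smul_comm, mul_assoc]

theorem mem_normalizer_of_maps [Finite F] {g : GL ι F} (h : ∀ r ∈ R, g * r * g⁻¹ ∈ R) : g ∈ subgroupNormalizer R := by
  haveI : Finite (Matrix ι ι F) := inferInstanceAs (Finite (ι → ι → F))
  haveI : Finite (GL ι F) := Finite.of_injective _ Units.val_injective
  refine Subgroup.mem_normalizer_iff.2 fun r => ⟨h r, fun hr => ?_⟩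
  obtain ⟨r', hr'⟩ := Finite.surjective_of_injective
    (f := fun x : R => (⟨_, h x x.2⟩ : R)) (fun a b hab => Subtype.ext (by simpa using hab)) ⟨_, hr⟩
  have := congrArg Subtype.val hr'
  simp only [mul_left_inj, mul_right_inj] at this
  exact this ▸ r'.2

theorem pairGate_maps (hP : OPauli Q R m) {a b : GL ι F} (haR : a ∈ R) (ha : a * a = -1) (hbR : b ∈ R)
    (hb : b * b = -1) {r : GL ι F} (hr : r ∈ R) : pairGate hP ha hb * r * (pairGate hP ha hb)⁻¹ ∈ R := by
  rw [pairGate_conj hP haR ha hbR hb hr]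
  exact act_mem haR (act_mem hbR hr)

theorem comm_omega (hP : OPauli Q R m) {g h : GL ι F} (hg : g ∈ Cfsg.isometryGroup F Q)
    (hh : h ∈ Cfsg.isometryGroup F Q) : g * h * g⁻¹ * h⁻¹ ∈ omegaGL Q :=
  Subgroup.mem_map.2 ⟨⁅(⟨g, hg⟩ : Cfsg.isometryGroup F Q), ⟨h, hh⟩⁆,
    Subgroup.commutator_mem_commutator (Subgroup.mem_top _) (Subgroup.mem_top _), by simp [commutatorElement_def]⟩

section
variable [Fintype F]

theorem card_ge (hP : OPauli Q R m) (hm : 4 ≤ m) : 5 ≤ Fintype.card ι := by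
  rw [hP.dim]
  calc 5 ≤ 2 ^ 4 := by norm_num
    _ ≤ 2 ^ m := Nat.pow_le_pow_right (by norm_num) hm

theorem neg_omega (hP : OPauli Q R m) (hm : 4 ≤ m) : (-1 : GL ι F) ∈ omegaGL Q := by
  obtain ⟨pa, ha, -, -⟩ := Orth.exists_nonsing_perp (space hP) (by have := bar256 hP hm; omega) 0 0
  obtain ⟨a, rfl⟩ := mk_surjective hP pa
  rw [← (barQ_one_iff hP a).1 ha]
  exact CfsgLib.Perm.Trans.OrthExt.sq_omega hP.quad (card_ge hP hm) (hP.iso a.2)

theorem pairGate_omega_anti (hP : OPauli Q R m) (hm : 4 ≤ m) {a b : GL ι F} (haR : a ∈ R) (ha : a * a = -1)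
    (hbR : b ∈ R) (hb : b * b = -1) (hab : a * b = -(b * a)) : pairGate hP ha hb ∈ omegaGL Q := by
  have hiso := pairGate_iso hP haR ha hbR hb
  have h1 := CfsgLib.Perm.Trans.OrthExt.sq_omega hP.quad (card_ge hP hm) hiso
  have hA : (a : Matrix ι ι F) * a = -1 := val_neg_one ha
  have hB : (b : Matrix ι ι F) * b = -1 := val_neg_one hb
  have hBA : (b : Matrix ι ι F) * a = -((a : Matrix ι ι F) * b) := by
    rw [← Units.val_mul, ← Units.val_mul, hab, Units.val_neg, neg_neg]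
  have hsq : ((pairGate hP ha hb * pairGate hP ha hb : GL ι F) : Matrix ι ι F) =
      (pairGate hP ha hb : Matrix ι ι F) - 1 := by
    rw [Units.val_mul, pairGate_val]
    have hAx : ∀ x, (a : Matrix ι ι F) * (a * x) = -x := fun x => by rw [← mul_assoc, hA, neg_one_mul]
    have hBx : ∀ x, (b : Matrix ι ι F) * (b * x) = -x := fun x => by rw [← mul_assoc, hB, neg_one_mul]
    have hBAx : ∀ x, (b : Matrix ι ι F) * (a * x) = -((a : Matrix ι ι F) * (b * x)) := fun x => by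
      rw [← mul_assoc, hBA, neg_mul, mul_assoc]
    simp only [smul_mul_assoc, mul_smul_comm, smul_smul, mul_add, add_mul, mul_one, one_mul, mul_assoc]
    simp only [hA, hB, hBA, hAx, hBx, hBAx, mul_neg, neg_mul, neg_neg, mul_one]
    have := hP.two
    match_scalars <;> field_simp <;> ring
  have h3 : pairGate hP ha hb * pairGate hP ha hb * pairGate hP ha hb = -1 := Units.ext (by
    rw [Units.val_mul, hsq, sub_mul, one_mul, ← Units.val_mul, hsq, Units.val_neg, Units.val_one]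
    abel)
  have e : pairGate hP ha hb =
      -1 * ((pairGate hP ha hb * pairGate hP ha hb) * (pairGate hP ha hb * pairGate hP ha hb)) := by
    rw [← mul_assoc (pairGate hP ha hb * pairGate hP ha hb), h3, neg_one_mul (pairGate hP ha hb), neg_one_mul, neg_neg]
  rw [e]
  exact mul_mem (neg_omega hP hm) (mul_mem h1 h1)

theorem anti_omega (hP : OPauli Q R m) (hm : 4 ≤ m) {a b : GL ι F} (haR : a ∈ R) (ha : a * a = -1) (hbR : b ∈ R)
    (hb : b * b = -1) (hab : a * b = -(b * a)) : b * a⁻¹ ∈ omegaGL Q := by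
  have h := comm_omega hP (pairGate_iso hP haR ha hbR hb) (hP.iso haR)
  rw [pairGate_conj hP haR ha hbR hb haR] at h
  have hba : ¬ b * a = a * b := fun e => hP.neg_ne_self (b * a) (by rw [← hab, e])
  have h2 : ¬ a * (b * a) = b * a * a := fun e => hP.neg_ne_self (b * a * a) (by
    rw [← neg_mul, ← hab, mul_assoc a b a, e])
  rw [show act a (act b a) = b by
    simp only [act, if_neg hba, if_neg h2]
    rw [← mul_assoc, hab, neg_mul, mul_assoc b, ha, mul_neg, neg_neg, mul_one]] at h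
  exact h

theorem R_le_omega (hP : OPauli Q R m) (hm : 4 ≤ m) : R ≤ omegaGL Q := by
  have h256 := bar256 hP hm
  have hS := space hP
  have key : ∀ r : R, barQ hP (mk hP r) = 1 → (r : GL ι F) ∈ omegaGL Q := by
    intro r hr
    obtain ⟨y, hy⟩ := hS.nondeg _ (hS.ne_zero hr)
    obtain ⟨pb, hb, hrb⟩ : ∃ pb, barQ hP pb = 1 ∧ barB hP (mk hP r) pb = 1 := by
      rcases Orth.z2 (barQ hP y) with h | h
      · obtain ⟨x, hx, hrx, hyx⟩ := Orth.exists_nonsing_perp hS (by omega) (mk hP r) y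
        exact ⟨y + x, by rw [hS.polar, h, hx, hyx]; decide, by rw [hS.addr, hy, hrx, add_zero]⟩
      · exact ⟨y, h, hy⟩
    obtain ⟨b, rfl⟩ := mk_surjective hP pb
    have hr' := (barQ_one_iff hP r).1 hr
    have hb' := (barQ_one_iff hP b).1 hb
    have hrb' : (r : GL ι F) * b = -((b : GL ι F) * r) := (barB_one_iff hP r b).1 hrb
    have ha : (b : GL ι F) * r * ((b : GL ι F) * r) = -1 := by
      rw [show (b : GL ι F) * r * ((b : GL ι F) * r) = b * ((r : GL ι F) * b) * r by group, hrb', mul_neg, neg_mul,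
        ← mul_assoc, hb', mul_assoc, hr', neg_mul_neg, one_mul]
    have hab : (b : GL ι F) * r * b = -((b : GL ι F) * ((b : GL ι F) * r)) := by
      rw [mul_assoc, hrb', mul_neg]
    have h := anti_omega hP hm (mul_mem b.2 r.2) ha b.2 hb' hab
    rw [_root_.mul_inv_rev] at h
    have e : (r : GL ι F) = (b : GL ι F) * ((r : GL ι F)⁻¹ * (b : GL ι F)⁻¹) := by
      rw [inv_eq_of_mul_eq_one_right (show (r : GL ι F) * -(r : GL ι F) = 1 by rw [mul_neg, hr', neg_neg]),
        inv_eq_of_mul_eq_one_right (show (b : GL ι F) * -(b : GL ι F) = 1 by rw [mul_neg, hb', neg_neg]),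
        neg_mul_neg, hrb', mul_neg, ← mul_assoc, hb', neg_one_mul, neg_neg]
    rw [e]
    exact h
  intro r hr
  by_cases h0 : mk hP ⟨r, hr⟩ = 0
  · rcases (mk_eq_zero hP).1 h0 with e | e
    · rw [show r = 1 from e]; exact one_mem _
    · rw [show r = -1 from e]; exact neg_omega hP hm
  rcases Orth.z2 (barQ hP (mk hP ⟨r, hr⟩)) with hq | hq
  · obtain ⟨pa, ha, hra⟩ := Orth.split hS (by omega) h0 hq
    obtain ⟨a, rfl⟩ := mk_surjective hP pa
    have h2 : barQ hP (mk hP (a * ⟨r, hr⟩)) = 1 := by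
      rw [mk_mul, hS.polar, ha, hq, hS.symm, hra]; decide
    have h3 := mul_mem (inv_mem (key a ha)) (key _ h2)
    rwa [Subgroup.coe_mul, inv_mul_cancel_left] at h3
  · exact key ⟨r, hr⟩ hq

theorem R_le_NN (hP : OPauli Q R m) (hm : 4 ≤ m) : R ≤ NN Q R := le_inf Subgroup.le_normalizer (R_le_omega hP hm)

theorem pairGate_omega (hP : OPauli Q R m) (hm : 4 ≤ m) {a b : GL ι F} (haR : a ∈ R) (ha : a * a = -1)
    (hbR : b ∈ R) (hb : b * b = -1) : pairGate hP ha hb ∈ omegaGL Q := by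
  have h2 := hP.two
  by_cases hpm : mk hP ⟨a, haR⟩ = mk hP ⟨b, hbR⟩
  · rcases (mk_eq hP).1 hpm with e | e <;> (simp only at e; subst e)
    · rw [show pairGate hP ha hb = b from Units.ext (by
        rw [pairGate_val, add_mul, one_mul, mul_add, mul_one, val_neg_one ha]
        match_scalars <;> field_simp <;> ring)]
      exact R_le_omega hP hm hbR
    · rw [show pairGate hP ha hb = 1 from Units.ext (by
        rw [pairGate_val, Units.val_neg, ← sub_eq_add_neg, half_inv (val_neg_one ha), smul_smul, Units.val_one]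
        field_simp
        exact one_smul _ _)]
      exact one_mem _
  have hS := space hP
  have ha0 : mk hP ⟨a, haR⟩ ≠ 0 := hS.ne_zero ((barQ_one_iff hP ⟨a, haR⟩).2 ha)
  have hb0 : mk hP ⟨b, hbR⟩ ≠ 0 := hS.ne_zero ((barQ_one_iff hP ⟨b, hbR⟩).2 hb)
  obtain ⟨z, hz, haz, hbz⟩ := Orth.exists_both hS (bar256 hP hm) ha0 hb0 hpm 1
  obtain ⟨c, rfl⟩ := mk_surjective hP z
  have hc := (barQ_one_iff hP c).1 hz
  have hac : a * (c : GL ι F) = -((c : GL ι F) * a) := (barB_one_iff hP _ c).1 haz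
  have hbc : b * (c : GL ι F) = -((c : GL ι F) * b) := (barB_one_iff hP _ c).1 hbz
  have hnc : -(c : GL ι F) * -(c : GL ι F) = -1 := by rw [neg_mul_neg, hc]
  have e : pairGate hP ha hb = pairGate hP ha hc * pairGate hP hnc hb := Units.ext (by
    rw [Units.val_mul, pairGate_val, pairGate_val, pairGate_val, Units.val_neg, ← sub_eq_add_neg, smul_mul_assoc,
      mul_smul_comm, smul_smul, mul_assoc (1 + (a : Matrix ι ι F)), ← mul_assoc (1 + ((c : GL ι F) : Matrix ι ι F)),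
      half_inv (val_neg_one hc), smul_mul_assoc, one_mul, mul_smul_comm, smul_smul]
    congr 1
    field_simp)
  rw [e]
  exact mul_mem (pairGate_omega_anti hP hm haR ha c.2 hc hac)
    (pairGate_omega_anti hP hm (hP.neg_mem c.2) hnc hbR hb (by
      rw [neg_mul, mul_neg, neg_neg, hbc]))

theorem pairGate_mem (hP : OPauli Q R m) (hm : 4 ≤ m) {a b : GL ι F} (haR : a ∈ R) (ha : a * a = -1) (hbR : b ∈ R)
    (hb : b * b = -1) : pairGate hP ha hb ∈ NN Q R :=
  ⟨mem_normalizer_of_maps fun r hr => pairGate_maps hP haR ha hbR hb hr, pairGate_omega hP hm haR ha hbR hb⟩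

end

theorem mk_act (hP : OPauli Q R m) (a r : R) :
    mk hP ⟨act (a : GL ι F) r, act_mem a.2 r.2⟩ = Orth.tfun (barB hP) (mk hP a) (mk hP r) := by
  by_cases h : (a : GL ι F) * r = (r : GL ι F) * a
  · rw [Orth.tfun_fix _ ((barB_zero_iff hP a r).2 h)]
    exact congrArg (mk hP) (Subtype.ext (if_pos h))
  · rw [Orth.tfun_move _ ((Orth.z2 _).resolve_left fun e => h ((barB_zero_iff hP a r).1 e)), add_comm, ← mk_mul]
    exact congrArg (mk hP) (Subtype.ext (if_neg h))

theorem mk_pairGate (hP : OPauli Q R m) {a b : R} (ha : (a : GL ι F) * a = -1) (hb : (b : GL ι F) * b = -1) (r : R)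
    {h : pairGate hP ha hb * (r : GL ι F) * (pairGate hP ha hb)⁻¹ ∈ R} :
    mk hP ⟨_, h⟩ = Orth.tau (space hP) (mk hP a) (Orth.tau (space hP) (mk hP b) (mk hP r)) := by
  rw [Orth.tau_apply, Orth.tau_apply, ← mk_act, ← mk_act hP a ⟨act (b : GL ι F) r, act_mem b.2 r.2⟩]
  exact congrArg (mk hP) (Subtype.ext (pairGate_conj hP a.2 ha b.2 hb r.2))

/-- the normaliser is transitive on the non-central elements of each square -/
theorem exists_conj [Fintype F] (hP : OPauli Q R m) (hm : 4 ≤ m) {w w' : GL ι F} (hw : w ∈ R) (hw' : w' ∈ R)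
    (hn : ¬ IsPM w) (hn' : ¬ IsPM w') (hsq : w * w = w' * w') :
    ∃ k ∈ NN Q R, k * w * k⁻¹ = w' ∨ k * w * k⁻¹ = -w' := by
  have h256 := bar256 hP hm
  have hq : barQ hP (mk hP ⟨w, hw⟩) = barQ hP (mk hP ⟨w', hw'⟩) := by
    simp only [barQ_mk, hsq]
  let rel : Bar hP → Bar hP → Prop := fun x y => ∀ r : R, mk hP r = x → ∃ k ∈ NN Q R, ∃ h : k * r * k⁻¹ ∈ R,
    mk hP ⟨_, h⟩ = y
  have hrel : rel (mk hP ⟨w, hw⟩) (mk hP ⟨w', hw'⟩) := by
    refine Orth.rel_of_same (space hP) h256 rel ?_ ?_ ?_ (fun e => hn ((mk_eq_zero hP).1 e))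
      (fun e => hn' ((mk_eq_zero hP).1 e)) hq
    · intro x r hr
      exact ⟨1, one_mem _, by simp, by rw [← hr]; exact congrArg (mk hP) (Subtype.ext (by simp))⟩
    · intro x y z h1 h2 r hr
      obtain ⟨k, hk, hkr, he⟩ := h1 r hr
      obtain ⟨k', hk', hkr', he'⟩ := h2 _ he
      have e : k' * k * r * (k' * k)⁻¹ = k' * (k * r * k⁻¹) * k'⁻¹ := by group
      exact ⟨k' * k, mul_mem hk' hk, by rw [e]; exact hkr', by rw [← he']; exact congrArg (mk hP) (Subtype.ext e)⟩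
    · intro a b x ha hb r hr
      obtain ⟨a, rfl⟩ := mk_surjective hP a
      obtain ⟨b, rfl⟩ := mk_surjective hP b
      have ha' := (barQ_one_iff hP a).1 ha
      have hb' := (barQ_one_iff hP b).1 hb
      have hg := pairGate_mem hP hm a.2 ha' b.2 hb'
      refine ⟨_, hg, (Subgroup.mem_normalizer_iff.1 hg.1 r).1 r.2, ?_⟩
      rw [mk_pairGate hP ha' hb' r, hr]
  obtain ⟨k, hk, h, he⟩ := hrel ⟨w, hw⟩ rfl
  rcases (mk_eq hP).1 he with e | e
  · exact ⟨k, hk, Or.inl e.symm⟩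
  · exact ⟨k, hk, Or.inr (neg_eq_iff_eq_neg.2 e).symm⟩

/-- the normaliser is transitive on the pairs of anticommuting elements of square `-1` -/
theorem exists_conj_pair [Fintype F] (hP : OPauli Q R m) (hm : 4 ≤ m) {a b a' b' : GL ι F} (ha : a ∈ R) (hb : b ∈ R)
    (ha' : a' ∈ R) (hb' : b' ∈ R) (haa : a * a = -1) (hbb : b * b = -1) (haa' : a' * a' = -1) (hbb' : b' * b' = -1)
    (hab : a * b = -(b * a)) (hab' : a' * b' = -(b' * a')) :
    ∃ k ∈ NN Q R, (k * a * k⁻¹ = a' ∨ k * a * k⁻¹ = -a') ∧ (k * b * k⁻¹ = b' ∨ k * b * k⁻¹ = -b') := by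
  have hS := space hP
  have h256 := bar256 hP hm
  have hnpm : ∀ {x : GL ι F}, x * x = -1 → ¬ IsPM x := fun hx e => hP.neg_one_ne (by
    rw [← hx]; rcases e with e | e <;> rw [e] <;> simp)
  obtain ⟨k₀, hk₀, hka⟩ := exists_conj hP hm ha ha' (hnpm haa) (hnpm haa') (haa.trans haa'.symm)
  have hkm : ∀ {k : GL ι F}, k ∈ NN Q R → ∀ r ∈ R, k * r * k⁻¹ ∈ R := fun hk r hr =>
    (Subgroup.mem_normalizer_iff.1 hk.1 r).1 hr
  obtain ⟨b₀, hb₀def⟩ : ∃ b₀, b₀ = k₀ * b * k₀⁻¹ := ⟨_, rfl⟩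
  have hb₀R : b₀ ∈ R := hb₀def ▸ hkm hk₀ b hb
  have hb₀b₀ : b₀ * b₀ = -1 := by
    rw [hb₀def, show k₀ * b * k₀⁻¹ * (k₀ * b * k₀⁻¹) = k₀ * (b * b) * k₀⁻¹ by group, hbb]
    simp
  have hab₀ : a' * b₀ = -(b₀ * a') := by
    have h : k₀ * a * k₀⁻¹ * b₀ = -(b₀ * (k₀ * a * k₀⁻¹)) := by
      rw [hb₀def, show k₀ * a * k₀⁻¹ * (k₀ * b * k₀⁻¹) = k₀ * (a * b) * k₀⁻¹ by group, hab]
      simp only [mul_neg, neg_mul, mul_assoc, inv_mul_cancel_left]
    rcases hka with e | e <;> rw [e] at h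
    · exact h
    · simp only [neg_mul, mul_neg, neg_neg] at h
      rw [← h, neg_neg]
  -- one step
  have step : ∀ x y : R, barQ hP (mk hP x) = 1 → barQ hP (mk hP y) = 1 →
      barB hP (mk hP ⟨a', ha'⟩) (mk hP x) = 1 → barB hP (mk hP ⟨a', ha'⟩) (mk hP y) = 1 →
      barB hP (mk hP x) (mk hP y) = 1 → ∃ k ∈ NN Q R, (k * a' * k⁻¹ = a' ∨ k * a' * k⁻¹ = -a') ∧
        (k * x * k⁻¹ = y ∨ k * (x : GL ι F) * k⁻¹ = -(y : GL ι F)) := by
    intro x y hx hy hax hay hxy
    obtain ⟨c, hc, hac, hxc⟩ := Orth.exists_nonsing_perp hS (by omega) (mk hP ⟨a', ha'⟩) (mk hP x)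
    obtain ⟨c, rfl⟩ := mk_surjective hP c
    have hd : barQ hP (mk hP (x * y)) = 1 := by rw [mk_mul, hS.polar, hx, hy, hxy]; decide
    have hd' := (barQ_one_iff hP (x * y)).1 hd
    have hc' := (barQ_one_iff hP c).1 hc
    have hg := pairGate_mem hP hm (x * y).2 hd' c.2 hc'
    refine ⟨_, hg, ?_, ?_⟩
    · have hmk := mk_pairGate hP hd' hc' ⟨a', ha'⟩ (h := hkm hg a' ha')
      rw [Orth.tau_apply, Orth.tau_apply, Orth.tfun_fix (mk hP c) (by rw [hS.symm, hac]),
        Orth.tfun_fix _ (by rw [mk_mul, hS.addl, hS.symm, hax, hS.symm, hay]; decide)] at hmk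
      rcases (mk_eq hP).1 hmk with e | e
      · exact Or.inl e.symm
      · exact Or.inr (neg_eq_iff_eq_neg.2 e).symm
    · have hmk := mk_pairGate hP hd' hc' x (h := hkm hg _ x.2)
      rw [Orth.tau_apply, Orth.tau_apply, Orth.tfun_fix (mk hP c) (by rw [hS.symm, hxc]),
        Orth.tfun_move _ (by rw [mk_mul, hS.addl, hS.self, hS.symm, hxy, zero_add]), mk_mul,
        ← add_assoc, hS.two, zero_add] at hmk
      rcases (mk_eq hP).1 hmk with e | e
      · exact Or.inl e.symm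
      · exact Or.inr (neg_eq_iff_eq_neg.2 e).symm
  have qa : barQ hP (mk hP ⟨a', ha'⟩) = 1 := (barQ_one_iff hP _).2 haa'
  have qb : barQ hP (mk hP ⟨b₀, hb₀R⟩) = 1 := (barQ_one_iff hP _).2 hb₀b₀
  have qb' : barQ hP (mk hP ⟨b', hb'⟩) = 1 := (barQ_one_iff hP _).2 hbb'
  have Bab : barB hP (mk hP ⟨a', ha'⟩) (mk hP ⟨b₀, hb₀R⟩) = 1 := (barB_one_iff hP _ _).2 hab₀
  have Bab' : barB hP (mk hP ⟨a', ha'⟩) (mk hP ⟨b', hb'⟩) = 1 := (barB_one_iff hP _ _).2 hab'
  obtain ⟨k₁, hk₁, hk₁a, hk₁b⟩ : ∃ k ∈ NN Q R, (k * a' * k⁻¹ = a' ∨ k * a' * k⁻¹ = -a') ∧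
      (k * b₀ * k⁻¹ = b' ∨ k * b₀ * k⁻¹ = -b') := by
    by_cases hsame : mk hP ⟨b₀, hb₀R⟩ = mk hP ⟨b', hb'⟩
    · refine ⟨1, one_mem _, Or.inl (by simp), ?_⟩
      rcases (mk_eq hP).1 hsame with e | e <;> simp only at e
      · exact Or.inl (by simp [e])
      · exact Or.inr (by simp [e])
    rcases Orth.z2 (barB hP (mk hP ⟨b₀, hb₀R⟩) (mk hP ⟨b', hb'⟩)) with h | h
    · obtain ⟨z, hz⟩ : ∃ z : R, z = ⟨a', ha'⟩ * ⟨b₀, hb₀R⟩ := ⟨_, rfl⟩
      have hz1 : barQ hP (mk hP z) = 1 := by rw [hz, mk_mul, hS.polar, qa, qb, Bab]; decide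
      have hza : barB hP (mk hP ⟨a', ha'⟩) (mk hP z) = 1 := by rw [hz, mk_mul, hS.addr, hS.self, Bab, zero_add]
      have hbz : barB hP (mk hP ⟨b₀, hb₀R⟩) (mk hP z) = 1 := by
        rw [hz, mk_mul, hS.addr, hS.self, hS.symm, Bab, add_zero]
      have hzb : barB hP (mk hP z) (mk hP ⟨b', hb'⟩) = 1 := by rw [hz, mk_mul, hS.addl, Bab', h, add_zero]
      obtain ⟨k, hk, hka1, hkb1⟩ := step _ _ qb hz1 Bab hza hbz
      obtain ⟨k', hk', hka2, hkb2⟩ := step _ _ hz1 qb' hza Bab' hzb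
      refine ⟨k' * k, mul_mem hk' hk, ?_, ?_⟩
      · rw [show k' * k * a' * (k' * k)⁻¹ = k' * (k * a' * k⁻¹) * k'⁻¹ by group]
        rcases hka1 with e | e <;> rw [e]
        · exact hka2
        · rcases hka2 with e' | e' <;> simp [e']
      · rw [show k' * k * b₀ * (k' * k)⁻¹ = k' * (k * b₀ * k⁻¹) * k'⁻¹ by group]
        rcases hkb1 with e | e <;> simp only at e <;> rw [e]
        · exact hkb2
        · rcases hkb2 with e' | e' <;> simp only at e' <;> simp [e']
    · exact step _ _ qb qb' Bab Bab' h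
  refine ⟨k₁ * k₀, mul_mem hk₁ hk₀, ?_, ?_⟩
  · rw [show k₁ * k₀ * a * (k₁ * k₀)⁻¹ = k₁ * (k₀ * a * k₀⁻¹) * k₁⁻¹ by group]
    rcases hka with e | e <;> rw [e]
    · exact hk₁a
    · rcases hk₁a with e' | e' <;> simp [e']
  · rw [show k₁ * k₀ * b * (k₁ * k₀)⁻¹ = k₁ * (k₀ * b * k₀⁻¹) * k₁⁻¹ by group, ← hb₀def]
    exact hk₁b

end CfsgLib.Perm.Trans.PauliMax.OPlus
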