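import Cfsg.Agent.Lib.Perm.Trans.PauliMax.OPlus.Gates
import Mathlib.LinearAlgebra.Matrix.ToLin

/-!
# Coordinates on the two eigenspaces of an involution exchanged by a second one
-/

set_option autoImplicit false
set_option linter.all false

namespace CfsgLib.Perm.Trans.PauliMax.OPlus

open scoped Matrix
open Matrix Cfsg.Geo CfsgLib.Perm.Asch CfsgLib.Perm.Trans
attribute [local instance] Classical.propDecidable

variable {ι : Type} [Fintype ι] [DecidableEq ι] {F : Type*} [Field F] {m : ℕ}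

/-- the projection on the fixed space -/
def pp (u : GL ι F) : Matrix ι ι F := (1 / 2 : F) • (1 + (u : Matrix ι ι F))

/-- coordinates on the two eigenspaces of `u` exchanged by `w` -/
structure Halves (ι : Type) [Fintype ι] [DecidableEq ι] (F : Type*) [Field F] (m : ℕ) where
  u : GL ι F
  w : GL ι F
  E : Matrix (Fin (2 ^ m)) ι F
  J : Matrix ι (Fin (2 ^ m)) F
  two : (2 : F) ≠ 0
  uu : u * u = 1
  ww : w * w = 1
  anti : u * w = -(w * u)
  EJ : E * J = 1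
  JE : J * E = pp u

theorem exists_halves (h2 : (2 : F) ≠ 0) (hdim : Fintype.card ι = 2 ^ (m + 1)) {u w : GL ι F} (huu : u * u = 1)
    (hww : w * w = 1) (hanti : u * w = -(w * u)) : ∃ φ : Halves ι F m, φ.u = u ∧ φ.w = w := by
  set U := (u : Matrix ι ι F) with hU
  set W := (w : Matrix ι ι F) with hW
  have hUU : U * U = 1 := by rw [hU, ← Units.val_mul, huu, Units.val_one]
  have hWW : W * W = 1 := by rw [hW, ← Units.val_mul, hww, Units.val_one]
  have hUW : U * W = -(W * U) := by rw [hU, hW, ← Units.val_mul, hanti, Units.val_neg, Units.val_mul]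
  set P := pp u with hPdef
  have hPP : P * P = P := by
    rw [hPdef, pp, smul_mul_assoc, mul_smul_comm, smul_smul, ← hU,
      show (1 + U) * (1 + U) = (2 : F) • (1 + U) by rw [mul_add, mul_one, add_mul, one_mul, hUU, two_smul]; abel,
      smul_smul]
    congr 1
    field_simp
  have hWP : W * P * W = 1 - P := by
    rw [hPdef, pp, ← hU, mul_smul_comm, smul_mul_assoc, mul_add, add_mul, mul_one, hWW,
      show W * U = -(U * W) by rw [hUW, neg_neg], neg_mul, mul_assoc, hWW, mul_one]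
    match_scalars <;> field_simp <;> ring
  set L := Matrix.mulVecLin P with hL
  have hLL : ∀ x, L (L x) = L x := fun x => by rw [hL, Matrix.mulVecLin_apply, Matrix.mulVecLin_apply, Matrix.mulVec_mulVec, hPP]
  have hWW' : ∀ x, W *ᵥ (W *ᵥ x) = x := fun x => by rw [Matrix.mulVec_mulVec, hWW, Matrix.one_mulVec]
  have hrk : ∀ x, x ∈ LinearMap.range L ↔ P *ᵥ x = x := fun x =>
    ⟨fun ⟨y, hy⟩ => by rw [← hy]; exact hLL y, fun h => ⟨x, h⟩⟩
  have hW1 : ∀ x, P *ᵥ x = x → P *ᵥ (W *ᵥ x) = 0 := fun x hx => by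
    have h1 : (W * P * W) *ᵥ (W *ᵥ x) = (1 - P) *ᵥ (W *ᵥ x) := by rw [hWP]
    rw [← Matrix.mulVec_mulVec, ← Matrix.mulVec_mulVec, hWW', hx, Matrix.sub_mulVec, Matrix.one_mulVec] at h1
    exact sub_eq_self.1 h1.symm
  have hW0 : ∀ x, P *ᵥ x = 0 → P *ᵥ (W *ᵥ x) = W *ᵥ x := fun x hx => by
    have h1 : (W * P * W) *ᵥ x = (1 - P) *ᵥ x := by rw [hWP]
    rw [← Matrix.mulVec_mulVec, ← Matrix.mulVec_mulVec, Matrix.sub_mulVec, Matrix.one_mulVec, hx, sub_zero] at h1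
    have := congrArg (W *ᵥ ·) h1
    simpa only [hWW'] using this
  let e : LinearMap.range L ≃ₗ[F] LinearMap.ker L :=
    { toFun := fun x => ⟨W *ᵥ x.1, hW1 _ ((hrk _).1 x.2)⟩
      map_add' := fun x y => Subtype.ext (Matrix.mulVec_add W x.1 y.1)
      map_smul' := fun c x => Subtype.ext (Matrix.mulVec_smul W c x.1)
      invFun := fun x => ⟨W *ᵥ x.1, (hrk _).2 (hW0 _ x.2)⟩
      left_inv := fun x => Subtype.ext (hWW' _)
      right_inv := fun x => Subtype.ext (hWW' _) }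
  have hdim : Module.finrank F (LinearMap.range L) = 2 ^ m := by
    have h1 := LinearMap.finrank_range_add_finrank_ker L
    rw [← e.finrank_eq, Module.finrank_fintype_fun_eq_card, hdim, pow_succ] at h1
    omega
  obtain ⟨b⟩ : Nonempty ((Fin (2 ^ m) → F) ≃ₗ[F] LinearMap.range L) :=
    ⟨((Module.finBasisOfFinrankEq F _ hdim).equivFun).symm⟩
  let j : (Fin (2 ^ m) → F) →ₗ[F] (ι → F) := (LinearMap.range L).subtype ∘ₗ b.toLinearMap
  let e' : (ι → F) →ₗ[F] (Fin (2 ^ m) → F) := b.symm.toLinearMap ∘ₗ L.rangeRestrict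
  refine ⟨⟨u, w, LinearMap.toMatrix' e', LinearMap.toMatrix' j, h2, huu, hww, hanti, ?_, ?_⟩, rfl, rfl⟩
  · rw [← LinearMap.toMatrix'_comp, show e' ∘ₗ j = LinearMap.id from ?_, LinearMap.toMatrix'_id]
    refine LinearMap.ext fun c => b.injective ?_
    refine Subtype.ext ?_
    simp only [e', j, LinearMap.comp_apply, LinearEquiv.coe_toLinearMap, LinearEquiv.apply_symm_apply, LinearMap.id_apply,
      Submodule.coe_subtype]
    exact (hrk _).1 (b c).2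
  · rw [← LinearMap.toMatrix'_comp, show j ∘ₗ e' = L from ?_, hL, ← Matrix.toLin'_apply', LinearMap.toMatrix'_toLin']
    refine LinearMap.ext fun x => ?_
    simp only [e', j, LinearMap.comp_apply, LinearEquiv.coe_toLinearMap, LinearEquiv.apply_symm_apply,
      Submodule.coe_subtype]
    rfl

namespace Halves

variable (φ : Halves ι F m)

theorem P_mul_P : pp φ.u * pp φ.u = pp φ.u := by
  rw [← φ.JE, Matrix.mul_assoc, ← Matrix.mul_assoc φ.E φ.J φ.E, φ.EJ, Matrix.one_mul]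

/-- `φ.u` as a matrix -/
abbrev U : Matrix ι ι F := (φ.u : Matrix ι ι F)

/-- `φ.w` as a matrix -/
abbrev W : Matrix ι ι F := (φ.w : Matrix ι ι F)

theorem UU : φ.U * φ.U = 1 := by rw [← Units.val_mul, φ.uu, Units.val_one]

theorem WW : φ.W * φ.W = 1 := by rw [← Units.val_mul, φ.ww, Units.val_one]

theorem WU : φ.W * φ.U = -(φ.U * φ.W) := by
  rw [← Units.val_mul, ← Units.val_mul, φ.anti, Units.val_neg, neg_neg]

theorem WPW : φ.W * pp φ.u * φ.W = 1 - pp φ.u := by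
  have := φ.two
  rw [pp, mul_smul_comm, smul_mul_assoc, mul_add, add_mul, mul_one, φ.WW, φ.WU, neg_mul, mul_assoc, φ.WW, mul_one]
  match_scalars <;> field_simp <;> ring

theorem PWP : pp φ.u * φ.W * pp φ.u = 0 := by
  have h : φ.W * pp φ.u = (1 - pp φ.u) * φ.W := by
    rw [← φ.WPW, mul_assoc _ φ.W φ.W, φ.WW, mul_one]
  rw [mul_assoc, h, ← mul_assoc, mul_sub, mul_one, φ.P_mul_P, sub_self, zero_mul]

theorem EP : φ.E * pp φ.u = φ.E := by
  rw [← φ.JE, ← Matrix.mul_assoc, φ.EJ, Matrix.one_mul]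

theorem PJ : pp φ.u * φ.J = φ.J := by
  rw [← φ.JE, Matrix.mul_assoc, φ.EJ, Matrix.mul_one]

theorem EWJ : φ.E * φ.W * φ.J = 0 := by
  have h : φ.E * φ.W * φ.J = φ.E * (pp φ.u * φ.W * pp φ.u) * φ.J := by
    conv_lhs => rw [← φ.EP, ← φ.PJ]
    simp only [Matrix.mul_assoc]
  rw [h, φ.PWP, Matrix.mul_zero, Matrix.zero_mul]

theorem comm_pp {X : Matrix ι ι F} (h : X * φ.U = φ.U * X) : X * pp φ.u = pp φ.u * X := by
  rw [pp, mul_smul_comm, smul_mul_assoc, mul_add, add_mul, mul_one, one_mul, h]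

/-- restriction to the fixed space -/
def rp (X : Matrix ι ι F) : Matrix (Fin (2 ^ m)) (Fin (2 ^ m)) F := φ.E * X * φ.J

/-- restriction to the negated space -/
def rm (X : Matrix ι ι F) : Matrix (Fin (2 ^ m)) (Fin (2 ^ m)) F := φ.rp (φ.W * X * φ.W)

/-- extension -/
def ext (a b : Matrix (Fin (2 ^ m)) (Fin (2 ^ m)) F) : Matrix ι ι F :=
  φ.J * a * φ.E + φ.W * (φ.J * b * φ.E) * φ.W

theorem rp_one : φ.rp 1 = 1 := by rw [rp, Matrix.mul_one, φ.EJ]

theorem rp_mul {X Y : Matrix ι ι F} (h : Y * φ.U = φ.U * Y) : φ.rp (X * Y) = φ.rp X * φ.rp Y := by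
  have e : φ.rp X * φ.rp Y = φ.E * X * (φ.J * φ.E) * Y * φ.J := by simp only [rp, Matrix.mul_assoc]
  rw [e, φ.JE, Matrix.mul_assoc (φ.E * X) (pp φ.u) Y, ← φ.comm_pp h, ← Matrix.mul_assoc (φ.E * X) Y (pp φ.u),
    Matrix.mul_assoc _ (pp φ.u) φ.J, φ.PJ, rp, ← Matrix.mul_assoc]

theorem rp_ext (a b : Matrix (Fin (2 ^ m)) (Fin (2 ^ m)) F) : φ.rp (φ.ext a b) = a := by
  have e : φ.rp (φ.ext a b) = (φ.E * φ.J) * a * (φ.E * φ.J) + (φ.E * φ.W * φ.J) * b * (φ.E * φ.W * φ.J) := by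
    simp only [rp, ext, Matrix.mul_add, Matrix.add_mul, Matrix.mul_assoc]
  rw [e, φ.EJ, φ.EWJ, Matrix.one_mul, Matrix.mul_one, Matrix.zero_mul, Matrix.zero_mul, add_zero]

theorem W_ext_W (a b : Matrix (Fin (2 ^ m)) (Fin (2 ^ m)) F) : φ.W * φ.ext a b * φ.W = φ.ext b a := by
  rw [ext, ext, mul_add, add_mul, show φ.W * (φ.W * (φ.J * b * φ.E) * φ.W) * φ.W =
    (φ.W * φ.W) * (φ.J * b * φ.E) * (φ.W * φ.W) by simp only [mul_assoc], φ.WW, one_mul, mul_one, add_comm]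

theorem rm_ext (a b : Matrix (Fin (2 ^ m)) (Fin (2 ^ m)) F) : φ.rm (φ.ext a b) = b := by
  rw [rm, φ.W_ext_W, φ.rp_ext]

theorem JrpE (X : Matrix ι ι F) : φ.J * φ.rp X * φ.E = pp φ.u * X * pp φ.u := by
  simp only [rp, ← φ.JE, Matrix.mul_assoc]

theorem ext_rp_rm {X : Matrix ι ι F} (h : X * φ.U = φ.U * X) : φ.ext (φ.rp X) (φ.rm X) = X := by
  rw [ext, rm, φ.JrpE, φ.JrpE, show φ.W * (pp φ.u * (φ.W * X * φ.W) * pp φ.u) * φ.W =
    (φ.W * pp φ.u * φ.W) * X * (φ.W * pp φ.u * φ.W) by simp only [mul_assoc], φ.WPW, ← φ.comm_pp h, mul_assoc,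
    φ.P_mul_P, sub_mul, one_mul, ← φ.comm_pp h, sub_mul, mul_sub, mul_sub, mul_one, mul_one, mul_assoc, φ.P_mul_P]
  abel

theorem ext_mul (a b c d : Matrix (Fin (2 ^ m)) (Fin (2 ^ m)) F) :
    φ.ext a b * φ.ext c d = φ.ext (a * c) (b * d) := by
  have e1 : φ.J * a * φ.E * (φ.J * c * φ.E) = φ.J * (a * c) * φ.E := by
    rw [show φ.J * a * φ.E * (φ.J * c * φ.E) = φ.J * a * (φ.E * φ.J) * c * φ.E by simp only [Matrix.mul_assoc],
      φ.EJ, Matrix.mul_one, Matrix.mul_assoc φ.J a c]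
  have e2 : φ.J * b * φ.E * (φ.J * d * φ.E) = φ.J * (b * d) * φ.E := by
    rw [show φ.J * b * φ.E * (φ.J * d * φ.E) = φ.J * b * (φ.E * φ.J) * d * φ.E by simp only [Matrix.mul_assoc],
      φ.EJ, Matrix.mul_one, Matrix.mul_assoc φ.J b d]
  have e3 : φ.J * a * φ.E * (φ.W * (φ.J * d * φ.E) * φ.W) = 0 := by
    rw [show φ.J * a * φ.E * (φ.W * (φ.J * d * φ.E) * φ.W) = φ.J * a * (φ.E * φ.W * φ.J) * (d * φ.E * φ.W) by
      simp only [Matrix.mul_assoc], φ.EWJ, Matrix.mul_zero, Matrix.zero_mul]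
  have e4 : φ.W * (φ.J * b * φ.E) * φ.W * (φ.J * c * φ.E) = 0 := by
    rw [show φ.W * (φ.J * b * φ.E) * φ.W * (φ.J * c * φ.E) = φ.W * φ.J * b * (φ.E * φ.W * φ.J) * (c * φ.E) by
      simp only [Matrix.mul_assoc], φ.EWJ, Matrix.mul_zero, Matrix.zero_mul]
  rw [ext, ext, ext, add_mul, mul_add, mul_add, e1, e3, e4, add_zero, zero_add,
    show φ.W * (φ.J * b * φ.E) * φ.W * (φ.W * (φ.J * d * φ.E) * φ.W) =
      φ.W * (φ.J * b * φ.E) * (φ.W * φ.W) * (φ.J * d * φ.E) * φ.W by simp only [mul_assoc],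
    φ.WW, mul_one, mul_assoc φ.W, e2]

theorem ext_one : φ.ext 1 1 = 1 := by
  rw [ext, Matrix.mul_one, φ.JE, φ.WPW, add_sub_cancel]

theorem ext_comm (a b : Matrix (Fin (2 ^ m)) (Fin (2 ^ m)) F) : φ.ext a b * φ.U = φ.U * φ.ext a b := by
  have hU : φ.U = φ.ext 1 (-1) := by
    rw [ext, Matrix.mul_one, φ.JE, Matrix.mul_neg, Matrix.neg_mul, Matrix.mul_one, φ.JE, mul_neg, neg_mul, φ.WPW, pp]
    have := φ.two
    match_scalars <;> field_simp <;> ring
  rw [hU, φ.ext_mul, φ.ext_mul, Matrix.mul_one, Matrix.one_mul, Matrix.mul_neg, Matrix.neg_mul, Matrix.mul_one,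
    Matrix.one_mul]

/-- extension of invertible elements -/
def extG : GL (Fin (2 ^ m)) F × GL (Fin (2 ^ m)) F →* GL ι F where
  toFun ab :=
    { val := φ.ext ab.1 ab.2
      inv := φ.ext ((ab.1⁻¹ : GL (Fin (2 ^ m)) F) : Matrix _ _ F) ((ab.2⁻¹ : GL (Fin (2 ^ m)) F) : Matrix _ _ F)
      val_inv := by rw [φ.ext_mul, Units.mul_inv, Units.mul_inv, φ.ext_one]
      inv_val := by rw [φ.ext_mul, Units.inv_mul, Units.inv_mul, φ.ext_one] }
  map_one' := Units.ext (by simp only [Prod.fst_one, Prod.snd_one, Units.val_one]; exact φ.ext_one)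
  map_mul' x y := Units.ext (by
    rw [Units.val_mul]
    exact (φ.ext_mul _ _ _ _).symm)

theorem extG_val (a b : GL (Fin (2 ^ m)) F) : (φ.extG (a, b) : Matrix ι ι F) = φ.ext a b := rfl

theorem extG_comm (a b : GL (Fin (2 ^ m)) F) : φ.extG (a, b) * φ.u = φ.u * φ.extG (a, b) :=
  Units.ext (by rw [Units.val_mul, Units.val_mul, extG_val]; exact φ.ext_comm _ _)

theorem w_extG (a b : GL (Fin (2 ^ m)) F) : φ.w * φ.extG (a, b) * φ.w = φ.extG (b, a) :=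
  Units.ext (by rw [Units.val_mul, Units.val_mul, extG_val, extG_val]; exact φ.W_ext_W _ _)

theorem extG_one_neg : φ.extG (1, -1) = φ.u := Units.ext (by
  have := φ.two
  rw [extG_val, Units.val_neg, Units.val_one, ext, Matrix.mul_one, φ.JE, Matrix.mul_neg, Matrix.neg_mul, Matrix.mul_one,
    φ.JE, mul_neg, neg_mul, φ.WPW, pp]
  match_scalars <;> field_simp <;> ring)

theorem comm_mat {h : GL ι F} (hc : h * φ.u = φ.u * h) : (h : Matrix ι ι F) * φ.U = φ.U * h := by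
  rw [← Units.val_mul, hc, Units.val_mul]

theorem comm_inv {h : GL ι F} (hc : h * φ.u = φ.u * h) : h⁻¹ * φ.u = φ.u * h⁻¹ :=
  ((show Commute h φ.u from hc).inv_left).eq

theorem comm_w {h : GL ι F} (hc : h * φ.u = φ.u * h) : φ.w * h * φ.w * φ.u = φ.u * (φ.w * h * φ.w) := by
  have h1 : φ.w * φ.u = -(φ.u * φ.w) := by rw [φ.anti, neg_neg]
  calc φ.w * h * φ.w * φ.u = φ.w * h * (φ.w * φ.u) := by group
    _ = -(φ.w * (h * φ.u) * φ.w) := by rw [h1, mul_neg]; group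
    _ = -(φ.w * φ.u * h * φ.w) := by rw [hc]; group
    _ = φ.u * (φ.w * h * φ.w) := by rw [h1, neg_mul, neg_mul, neg_neg]; group

/-- restriction of an invertible element commuting with `u` -/
def rpG (h : GL ι F) (hc : h * φ.u = φ.u * h) : GL (Fin (2 ^ m)) F where
  val := φ.rp h
  inv := φ.rp ((h⁻¹ : GL ι F) : Matrix ι ι F)
  val_inv := by rw [← φ.rp_mul (φ.comm_mat (φ.comm_inv hc)), Units.mul_inv, φ.rp_one]
  inv_val := by rw [← φ.rp_mul (φ.comm_mat hc), Units.inv_mul, φ.rp_one]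

theorem rpG_val (h : GL ι F) (hc : h * φ.u = φ.u * h) : (φ.rpG h hc : Matrix _ _ F) = φ.rp h := rfl

theorem rpG_mul {g h : GL ι F} (hg : g * φ.u = φ.u * g) (hh : h * φ.u = φ.u * h) (hgh : g * h * φ.u = φ.u * (g * h)) :
    φ.rpG (g * h) hgh = φ.rpG g hg * φ.rpG h hh :=
  Units.ext (by rw [Units.val_mul, rpG_val, rpG_val, rpG_val, Units.val_mul, φ.rp_mul (φ.comm_mat hh)])

theorem rpG_extG (a b : GL (Fin (2 ^ m)) F) : φ.rpG _ (φ.extG_comm a b) = a :=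
  Units.ext (by rw [rpG_val, extG_val, φ.rp_ext])

theorem rpG_congr {g h : GL ι F} (e : g = h) (hg : g * φ.u = φ.u * g) (hh : h * φ.u = φ.u * h) :
    φ.rpG g hg = φ.rpG h hh := by subst e; rfl

theorem extG_rpG {h : GL ι F} (hc : h * φ.u = φ.u * h) :
    φ.extG (φ.rpG h hc, φ.rpG (φ.w * h * φ.w) (φ.comm_w hc)) = h :=
  Units.ext (by
    rw [extG_val, rpG_val, rpG_val, Units.val_mul, Units.val_mul]
    exact φ.ext_rp_rm (φ.comm_mat hc))

theorem UJ : φ.U * φ.J = φ.J := by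
  have h := φ.PJ
  have h2 := φ.two
  rw [pp, Matrix.smul_mul, Matrix.add_mul, Matrix.one_mul] at h
  have h3 := congrArg (fun X => (2 : F) • X) h
  simp only [smul_smul, show (2 : F) * (1 / 2) = 1 by field_simp, one_smul, two_smul] at h3
  exact add_left_cancel h3

theorem decomp (x : ι → F) : x = φ.J *ᵥ (φ.E *ᵥ x) + φ.W *ᵥ (φ.J *ᵥ (φ.E *ᵥ (φ.W *ᵥ x))) := by
  conv_lhs => rw [← Matrix.one_mulVec x, ← φ.ext_one]
  rw [ext, Matrix.mul_one, Matrix.add_mulVec]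
  simp only [← Matrix.mulVec_mulVec]

theorem WU_J : φ.U * (φ.W * φ.J) = -(φ.W * φ.J) := by
  rw [← Matrix.mul_assoc, show φ.U * φ.W = -(φ.W * φ.U) by rw [φ.WU, neg_neg], Matrix.neg_mul, Matrix.mul_assoc, φ.UJ]

theorem E_J (v : Fin (2 ^ m) → F) : φ.E *ᵥ (φ.J *ᵥ v) = v := by rw [Matrix.mulVec_mulVec, φ.EJ, Matrix.one_mulVec]

theorem EW_J (v : Fin (2 ^ m) → F) : φ.E *ᵥ (φ.W *ᵥ (φ.J *ᵥ v)) = 0 := by
  rw [Matrix.mulVec_mulVec, Matrix.mulVec_mulVec, φ.EWJ, Matrix.zero_mulVec]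

theorem ext_J (a b : Matrix (Fin (2 ^ m)) (Fin (2 ^ m)) F) (v : Fin (2 ^ m) → F) :
    φ.ext a b *ᵥ (φ.J *ᵥ v) = φ.J *ᵥ (a *ᵥ v) := by
  rw [ext, Matrix.add_mulVec]
  simp only [← Matrix.mulVec_mulVec, φ.E_J, φ.EW_J, Matrix.mulVec_zero, add_zero]

theorem ext_WJ (a b : Matrix (Fin (2 ^ m)) (Fin (2 ^ m)) F) (v : Fin (2 ^ m) → F) :
    φ.ext a b *ᵥ (φ.W *ᵥ (φ.J *ᵥ v)) = φ.W *ᵥ (φ.J *ᵥ (b *ᵥ v)) := by
  rw [ext, Matrix.add_mulVec]
  simp only [← Matrix.mulVec_mulVec, φ.EW_J, Matrix.mulVec_zero, zero_add]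
  rw [Matrix.mulVec_mulVec _ φ.W φ.W, φ.WW, Matrix.one_mulVec, φ.E_J]

theorem extG_inj {a b c d : GL (Fin (2 ^ m)) F} (h : φ.extG (a, b) = φ.extG (c, d)) : a = c ∧ b = d := by
  refine ⟨?_, ?_⟩
  · have h1 := φ.rpG_congr h (φ.extG_comm a b) (φ.extG_comm c d)
    rwa [φ.rpG_extG, φ.rpG_extG] at h1
  · have h' := congrArg (fun z => φ.w * z * φ.w) h
    simp only [φ.w_extG] at h'
    have h1 := φ.rpG_congr h' (φ.extG_comm b a) (φ.extG_comm d c)
    rwa [φ.rpG_extG, φ.rpG_extG] at h1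

theorem extG_neg (a b : GL (Fin (2 ^ m)) F) : φ.extG (-a, -b) = -φ.extG (a, b) := Units.ext (by
  rw [extG_val, Units.val_neg, Units.val_neg, Units.val_neg, extG_val, ext, ext]
  simp only [Matrix.mul_neg, Matrix.neg_mul, neg_add_rev]
  abel)

end Halves

end CfsgLib.Perm.Trans.PauliMax.OPlus
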