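import Cfsg.Agent.Lib.Perm.Trans.PauliMax.OPlus.CenS
import Cfsg.Agent.Lib.Perm.Trans.PauliMax.Fusion
import Cfsg.Agent.Lib.Perm.Elusive.STFour.Basics

/-!
# Normalisers of two-groups of symplectic type are maximal in orthogonal groups
-/

set_option autoImplicit false
set_option linter.all false

namespace CfsgLib.Perm.Trans.PauliMax.OPlus

open scoped Matrix
open Matrix Cfsg.Geo CfsgLib.Perm.Asch CfsgLib.Perm.Trans CfsgLib.Perm.Trans.Quad
attribute [local instance] Classical.propDecidable

variable {ι : Type} [Fintype ι] [DecidableEq ι] {F : Type*} [Field F] [Fintype F]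
variable {Q : (ι → F) → F} {R : Subgroup (GL ι F)} {m : ℕ}

theorem OPauli.of_data (hQ : IsNondegenerateQuadraticForm Q) (h2 : (2 : F) ≠ 0) [Nonempty ι] {k : ℕ}
    (hR : IsSymplecticTypeGroup 2 R) (hirr : ActsAbsolutelyIrreducibly (matrixSet R))
    (hiso : R ≤ Cfsg.isometryGroup F Q) (hcardR : Nat.card R = 2 ^ (1 + 2 * k))
    (hZ : Nat.card (Subgroup.center R) = 2) : OPauli Q R k := by
  haveI : Finite (Matrix ι ι F) := inferInstanceAs (Finite (ι → ι → F))
  haveI : Finite (GL ι F) := Finite.of_injective _ Units.val_injective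
  haveI : Fintype R := Fintype.ofFinite _
  have hS : CfsgLib.Perm.Elusive.STFour.Setting R := ⟨inferInstance, h2, hR, hirr⟩
  have hscal : ∀ {g : GL ι F}, g ∈ Cfsg.isometryGroup F Q → ∀ {c : F}, (g : Matrix ι ι F) = c • 1 → IsPM g := by
    intro g hg c hc
    obtain ⟨v, hv⟩ : ∃ v, Q v ≠ 0 := by
      by_contra hcon
      push Not at hcon
      obtain ⟨y, hy⟩ := (hQ.nondegenerate (1 : ι → F) one_ne_zero).2
      refine hy ?_
      rw [QuadraticMap.polar, hcon, hcon, hcon, sub_zero, sub_zero]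
    have h1 := mem_iso.1 hg v
    rw [hc, Matrix.smul_mulVec, Matrix.one_mulVec, qsmul hQ] at h1
    have h2' : c * c = 1 := mul_right_cancel₀ hv (by rw [one_mul, ← pow_two]; exact h1)
    rcases mul_self_eq_one_iff.1 h2' with h | h
    · exact Or.inl (Units.ext (by rw [hc, h, one_smul, Units.val_one]))
    · exact Or.inr (Units.ext (by rw [hc, h, Units.val_neg, Units.val_one, neg_one_smul]))
  have hneg : (-1 : GL ι F) ∈ R := by
    by_contra hn
    haveI : Subsingleton (Subgroup.center R) := ⟨fun a b => by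
      have key : ∀ z : Subgroup.center R, ((z : R) : GL ι F) = 1 := fun z => by
        obtain ⟨c, hc⟩ := (hS.scalar_iff (z : R).2).2 z.2
        exact (hscal (hiso (z : R).2) hc).resolve_right fun e => hn (e ▸ (z : R).2)
      exact Subtype.ext (Subtype.ext ((key a).trans (key b).symm))⟩
    rw [Nat.card_unique] at hZ
    omega
  have hsign : ∀ r ∈ R, ∀ s ∈ R, r * s = s * r ∨ r * s = -(s * r) := fun r hr s hs =>
    (hS.sign hr hs).imp (fun e => Units.ext (by rw [Units.val_mul, Units.val_mul, e]))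
      (fun e => Units.ext (by rw [Units.val_mul, Units.val_neg, Units.val_mul, e]))
  have hsq : ∀ r ∈ R, r * r = 1 ∨ r * r = -1 := fun r hr =>
    (hS.square hr).imp (fun e => Units.ext (by rw [Units.val_mul, e, Units.val_one]))
      (fun e => Units.ext (by rw [Units.val_mul, e, Units.val_neg, Units.val_one]))
  have hcard0 : (Fintype.card R : F) ≠ 0 := by
    rw [← Nat.card_eq_fintype_card, hcardR, Nat.cast_pow]
    exact pow_ne_zero _ (by exact_mod_cast h2)
  let av : Matrix ι ι F → Matrix ι ι F := fun X =>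
    ∑ r : R, ((r : GL ι F) : Matrix ι ι F) * X * (((r : GL ι F)⁻¹ : GL ι F) : Matrix ι ι F)
  have hav : ∀ X, ∃ s : F, av X = s • 1 ∧ (Fintype.card ι : F) * s = (Fintype.card R : F) * X.trace := by
    intro X
    obtain ⟨s, hs⟩ := hirr.2 (av X) (by
      rintro _ ⟨g, hg, rfl⟩
      show (∑ r : R, _) * (g : Matrix ι ι F) = (g : Matrix ι ι F) * ∑ r : R, _
      rw [Finset.sum_mul, Finset.mul_sum]
      refine Fintype.sum_equiv (Equiv.mulLeft (⟨g, hg⟩ : R)⁻¹) _ _ fun r => ?_
      simp only [Equiv.coe_mulLeft, Subgroup.coe_mul, Subgroup.coe_inv, _root_.mul_inv_rev, inv_inv, Units.val_mul]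
      simp only [← mul_assoc, Units.mul_inv, one_mul])
    refine ⟨s, hs, ?_⟩
    have h := congrArg Matrix.trace hs
    rw [Matrix.trace_smul, Matrix.trace_one, smul_eq_mul] at h
    rw [mul_comm, ← h]
    show (∑ r : R, _ : Matrix ι ι F).trace = _
    rw [Matrix.trace_sum, Finset.sum_congr rfl fun r _ => ?_, Finset.sum_const, Finset.card_univ, nsmul_eq_mul]
    rw [Matrix.trace_mul_comm, ← mul_assoc, Units.inv_mul, one_mul]
  have hnF : (Fintype.card ι : F) ≠ 0 := fun h => by
    obtain ⟨s, -, hs⟩ := hav (Matrix.single (Classical.arbitrary ι) (Classical.arbitrary ι) 1)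
    rw [h, zero_mul, Matrix.trace_single_eq_same, mul_one] at hs
    exact hcard0 hs.symm
  have hspan : Submodule.span F (matrixSet R) = ⊤ := by
    have hunit : ∀ b k : ι, Matrix.single b k (1 : F) ∈ Submodule.span F (matrixSet R) := by
      intro b k
      have hmem : ∑ r : R, (((r : GL ι F)⁻¹ : GL ι F) : Matrix ι ι F) k b • ((r : GL ι F) : Matrix ι ι F) ∈
          Submodule.span F (matrixSet R) :=
        Submodule.sum_mem _ fun r _ => Submodule.smul_mem _ _ (Submodule.subset_span ⟨_, r.2, rfl⟩)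
      have he : ∑ r : R, (((r : GL ι F)⁻¹ : GL ι F) : Matrix ι ι F) k b • ((r : GL ι F) : Matrix ι ι F) =
          ((Fintype.card R : F) / (Fintype.card ι : F)) • Matrix.single b k (1 : F) := by
        ext a j
        obtain ⟨s, hs, hns⟩ := hav (Matrix.single j k 1)
        have h := congrFun (congrFun hs a) b
        simp only [av, Matrix.sum_apply, Matrix.smul_apply, Matrix.one_apply, smul_eq_mul] at h
        simp only [Matrix.sum_apply, Matrix.smul_apply, smul_eq_mul]
        have hterm : ∀ r : R, (((r : GL ι F)⁻¹ : GL ι F) : Matrix ι ι F) k b *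
            ((r : GL ι F) : Matrix ι ι F) a j =
          ((((r : GL ι F) : Matrix ι ι F) * Matrix.single j k (1 : F) *
            (((r : GL ι F)⁻¹ : GL ι F) : Matrix ι ι F) : Matrix ι ι F)) a b := by
          intro r
          rw [Matrix.mul_apply, Finset.sum_eq_single k, Matrix.mul_single_apply_same, mul_one, mul_comm]
          · intro x _ hx
            rw [Matrix.mul_single_apply_of_ne _ _ _ _ _ hx, zero_mul]
          · intro hk; exact absurd (Finset.mem_univ _) hk
        refine ((Finset.sum_congr rfl fun r _ => hterm r).trans h).trans ?_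
        by_cases hjk : j = k
        · subst hjk
          rw [Matrix.trace_single_eq_same, mul_one] at hns
          rw [Matrix.single_apply]
          by_cases hab : a = b
          · subst hab
            rw [← hns]
            simp
            field_simp
          · simp [hab, Ne.symm hab]
        · rw [Matrix.trace_single_eq_of_ne _ _ _ hjk, mul_zero] at hns
          rw [(mul_eq_zero.1 hns).resolve_left hnF, Matrix.single_apply]
          simp [Ne.symm hjk]
      rw [he] at hmem
      exact (Submodule.smul_mem_iff _ (div_ne_zero hcard0 hnF)).1 hmem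
    refine Submodule.eq_top_iff'.2 fun X => ?_
    rw [Matrix.matrix_eq_sum_single X]
    refine Submodule.sum_mem _ fun a _ => Submodule.sum_mem _ fun b _ => ?_
    rw [show Matrix.single a b (X a b) = X a b • Matrix.single a b (1 : F) by simp]
    exact Submodule.smul_mem _ _ (hunit a b)
  -- the representatives modulo the centre form a basis
  let Zc : Subgroup R :=
    { carrier := {x | IsPM (x : GL ι F)}
      one_mem' := Or.inl rfl
      mul_mem' := fun ha hb => IsPM.mul ha hb
      inv_mem' := fun ha => IsPM.inv ha }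
  haveI : Fintype (R ⧸ Zc) := Fintype.ofFinite _
  let v : R ⧸ Zc → Matrix ι ι F := fun q => ((q.out : GL ι F) : Matrix ι ι F)
  have htr : ∀ g : GL ι F, g ∈ R → ¬ IsPM g → tr g = 0 := by
    intro g hg hne
    by_contra htr
    refine hne ?_
    obtain ⟨c, hc⟩ := hS.scalar_of_central (g := g) fun y hy => by
      rcases hsign g hg y hy with e | e
      · exact e
      · exfalso
        refine htr ?_
        have h1 : tr (y * g * y⁻¹) = tr g := by
          simp only [tr, Units.val_mul]
          rw [Matrix.trace_mul_cycle, Units.inv_mul, one_mul]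
        rw [show y * g * y⁻¹ = -g by rw [← neg_eq_iff_eq_neg.2 e, neg_mul, mul_inv_cancel_right]] at h1
        simp only [tr, Units.val_neg, Matrix.trace_neg] at h1
        exact (mul_eq_zero.1 (show (2 : F) * tr g = 0 by simp only [tr]; linear_combination -h1)).resolve_left h2
    exact hscal (hiso hg) hc
  have hli : LinearIndependent F v := by
    rw [Fintype.linearIndependent_iff]
    intro c hc q
    have h1 := congrArg (fun X => (X * (((q.out : GL ι F)⁻¹ : GL ι F) : Matrix ι ι F)).trace) hc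
    simp only [Finset.sum_mul, smul_mul_assoc, Matrix.trace_sum, Matrix.trace_smul, zero_mul, Matrix.trace_zero] at h1
    rw [Finset.sum_eq_single q] at h1
    · simp only [v, Units.mul_inv, Matrix.trace_one, smul_eq_mul] at h1
      exact (mul_eq_zero.1 h1).resolve_right hnF
    · intro q' _ hne
      rw [← Units.val_mul, show (((q'.out : GL ι F) * (q.out : GL ι F)⁻¹ : GL ι F) : Matrix ι ι F).trace =
        tr ((q'.out : GL ι F) * (q.out : GL ι F)⁻¹) from rfl,
        htr _ (mul_mem q'.out.2 (inv_mem q.out.2)) fun hpm => hne ?_, smul_zero]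
      rw [← QuotientGroup.out_eq' q', ← QuotientGroup.out_eq' q, QuotientGroup.eq]
      show IsPM ((q'.out⁻¹ * q.out : R) : GL ι F)
      rw [Subgroup.coe_mul, Subgroup.coe_inv]
      have h3 := hpm.inv
      rw [_root_.mul_inv_rev, inv_inv] at h3
      have h4 := h3.comm ((q'.out : GL ι F))⁻¹
      rw [show (q'.out : GL ι F)⁻¹ * (q.out : GL ι F) =
        (q'.out : GL ι F)⁻¹ * ((q.out : GL ι F) * (q'.out : GL ι F)⁻¹) * (q'.out : GL ι F) by group, h4,
        inv_mul_cancel_right]
      exact h3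
    · intro h; exact absurd (Finset.mem_univ q) h
  have htop : Submodule.span F (Set.range v) = ⊤ := by
    rw [eq_top_iff, ← hspan, Submodule.span_le]
    rintro _ ⟨g, hg, rfl⟩
    obtain ⟨z, hz⟩ := QuotientGroup.mk_out_eq_mul Zc (⟨g, hg⟩ : R)
    have hvq : v (QuotientGroup.mk (⟨g, hg⟩ : R)) = ((g * ((z : R) : GL ι F) : GL ι F) : Matrix ι ι F) := by
      show (((QuotientGroup.mk (⟨g, hg⟩ : R) : R ⧸ Zc).out : R) : GL ι F).val = _
      rw [hz, Subgroup.coe_mul]
    rcases (z.2 : IsPM ((z : R) : GL ι F)) with e | e <;> rw [e] at hvq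
    · rw [mul_one] at hvq
      show (g : Matrix ι ι F) ∈ Submodule.span F (Set.range v)
      rw [← hvq]
      exact Submodule.subset_span ⟨_, rfl⟩
    · rw [mul_neg_one, Units.val_neg] at hvq
      rw [SetLike.mem_coe, ← Submodule.neg_mem_iff]
      show -(g : Matrix ι ι F) ∈ Submodule.span F (Set.range v)
      rw [← hvq]
      exact Submodule.subset_span ⟨_, rfl⟩
  have hZc : Nat.card Zc = 2 := by
    rw [Nat.card_eq_two_iff]
    refine ⟨⟨1, Or.inl rfl⟩, ⟨⟨-1, hneg⟩, Or.inr rfl⟩, fun e => ?_, ?_⟩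
    · have e' := (congrArg (fun t : Zc => (((t : R) : GL ι F) : Matrix ι ι F)) e).symm
      simp only [Units.val_neg, Units.val_one] at e'
      exact CfsgLib.Perm.Elusive.STFour.neg_one_ne_one h2 e'
    · ext ⟨⟨x, hx⟩, hxz⟩
      simp only [Set.mem_insert_iff, Set.mem_singleton_iff, Set.mem_univ, iff_true]
      rcases hxz with e | e
      · exact Or.inl (Subtype.ext (Subtype.ext e))
      · exact Or.inr (Subtype.ext (Subtype.ext e))
  have hdim : Fintype.card ι = 2 ^ k := by
    have h := finrank_span_eq_card hli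
    rw [htop, finrank_top, Module.finrank_matrix, Module.finrank_self, mul_one] at h
    have hc2 := Subgroup.card_eq_card_quotient_mul_card_subgroup Zc
    rw [hZc, hcardR, Nat.card_eq_fintype_card, ← h, pow_add,
      show 2 ^ (2 * k) = 2 ^ k * 2 ^ k by rw [← pow_add, two_mul]] at hc2
    exact Nat.mul_self_inj.1 (by omega)
  exact ⟨hQ, h2, hiso, hneg, hsign, hsq, hspan, hdim, hcardR⟩


set_option maxHeartbeats 1600000 in
/-- **A proper overgroup of the normaliser normalises the group.** -/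
theorem overgroup_normalizes (hP : OPauli Q R (m + 1)) (hm : 3 ≤ m) (hodd : Odd (Fintype.card F))
    (hp : (Fintype.card F).Prime) {M : Subgroup (GL ι F)} (hN : NN Q R ≤ M) (hM : M ≤ omegaGL Q)
    (hne : ¬ omegaGL Q ≤ M) : M ≤ subgroupNormalizer R := by
  intro h hh
  haveI : Finite (Matrix ι ι F) := inferInstanceAs (Finite (ι → ι → F))
  haveI : Finite (GL ι F) := Finite.of_injective _ Units.val_injective
  have hm4 : 4 ≤ m + 1 := by omega
  have hC : CenInv Q R M := cen_invol hP hm hN hM (cen_quat hP hm hodd hp hN hM hne)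
  have hRM : R ≤ M := (R_le_NN hP (by omega)).trans hN
  set R' := R.subgroupOf M with hR'
  let z : M := ⟨-1, hRM hP.neg⟩
  have hInZ : ∀ x : M, Fusion.InZ z x ↔ IsPM (x : GL ι F) := fun x =>
    or_congr Subtype.ext_iff Subtype.ext_iff
  have hnormM : ∀ k : M, (k : GL ι F) ∈ NN Q R → k ∈ Subgroup.normalizer (R' : Set M) := fun k hk =>
    Subgroup.mem_normalizer_iff.2 fun x => by
      rw [hR', Subgroup.mem_subgroupOf, Subgroup.mem_subgroupOf]
      exact Subgroup.mem_normalizer_iff.1 hk.1 x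
  have hconjM : ∀ k : M, k ∈ Subgroup.normalizer (R' : Set M) → ∀ x ∈ R, (k : GL ι F) * x * (k : GL ι F)⁻¹ ∈ R :=
    fun k hk x hx => by
      have := (Subgroup.mem_normalizer_iff.1 hk ⟨x, hRM hx⟩).1 (show x ∈ R from hx)
      exact this
  have hfix : ∀ g y : M, Fusion.Fixes z g y →
      (g : GL ι F) * y * (g : GL ι F)⁻¹ = y ∨ (g : GL ι F) * y * (g : GL ι F)⁻¹ = -(y : GL ι F) := by
    intro g y hf
    rcases (hInZ _).1 hf with e | e
    · exact Or.inl (mul_inv_eq_one.1 e)
    · exact Or.inr (by rw [← neg_one_mul]; exact mul_inv_eq_iff_eq_mul.1 e)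
  have hD : Fusion.Data R' z := by
    refine ⟨hP.neg, fun e => hP.neg_one_ne (congrArg Subtype.val e), Subtype.ext (by simp [z]),
      fun k => Subtype.ext (by simp [z]), fun r hr => (hInZ _).2 (hP.square (r : GL ι F) hr), fun r hr s hs => ?_,
      fun r hr hc => (hInZ _).2 (hP.pm_of_commute (hP.iso hr) fun x hx =>
        congrArg Subtype.val (hc ⟨x, hRM hx⟩ hx)), fun y hy hz k hk => hnormM k ?_, ?_, ?_, ?_⟩
    · rw [Fusion.Fixes, hInZ]
      rcases hP.mul_mul_inv (r := (r : GL ι F)) (s := (s : GL ι F)) hr hs with e | e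
      · left
        show (r : GL ι F) * s * (r : GL ι F)⁻¹ * (s : GL ι F)⁻¹ = 1
        rw [e, mul_inv_cancel]
      · right
        show (r : GL ι F) * s * (r : GL ι F)⁻¹ * (s : GL ι F)⁻¹ = -1
        rw [e, neg_mul, mul_inv_cancel]
    · have hy0 : ¬ IsPM (y : GL ι F) := fun e => hz ((hInZ _).2 e)
      rcases hP.square (y : GL ι F) hy with e | e
      · exact hC _ hy hy0 e _ k.2 (hfix k y hk)
      · exact cen_neg hP hm4 hN hC hy e k.2 (hfix k y hk)
    · intro w hw w' hw' hn hn' hsq
      obtain ⟨k, hk, hkw⟩ := exists_conj (w := (w : GL ι F)) (w' := (w' : GL ι F)) hP hm4 hw hw' (fun e => hn ((hInZ _).2 e)) (fun e => hn' ((hInZ _).2 e))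
        (congrArg Subtype.val hsq)
      refine ⟨⟨k, hN hk⟩, hnormM _ hk, (hInZ _).2 ?_⟩
      show IsPM (k * (w : GL ι F) * k⁻¹ * (w' : GL ι F)⁻¹)
      rcases hkw with e | e <;> rw [e]
      · exact Or.inl (mul_inv_cancel _)
      · exact Or.inr (by rw [neg_mul, mul_inv_cancel])
    · intro r hr hz k hk hnot
      obtain ⟨y, hy, e⟩ := hP.negates (r := (r : GL ι F)) hr (fun e => hz ((hInZ _).2 e)) (k : GL ι F) (hconjM (k * r * k⁻¹) hk)
      refine ⟨⟨y, hRM hy⟩, hy, Subtype.ext ?_⟩
      show (k : GL ι F) * r * (k : GL ι F)⁻¹ * y * ((k : GL ι F) * r * (k : GL ι F)⁻¹)⁻¹ = y * -1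
      rw [e, mul_neg_one]
    · intro g hg
      exact hP.mem_of_fix (omegaGL_le_iso (hM g.2)) fun x hx => hfix g ⟨x, hRM hx⟩ (hg ⟨x, hRM hx⟩ hx)
  have hS := space hP
  have h64 : 64 ≤ Nat.card (Bar hP) := by have := bar256 hP hm4; omega
  obtain ⟨pa, ha, -, -⟩ := Orth.exists_nonsing_perp hS (by omega) 0 0
  obtain ⟨pr, hr0, hrq⟩ : ∃ r, r ≠ 0 ∧ barQ hP r = 0 := by
    obtain ⟨y, hy⟩ := hS.nondeg pa (hS.ne_zero ha)
    rcases Orth.z2 (barQ hP y) with h | h
    · exact ⟨y, fun e => by rw [e, hS.bz] at hy; exact zero_ne_one hy, h⟩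
    · obtain ⟨r, hr0, hrq, -, -⟩ := Orth.exists_sing hS h64 ha h hy
      exact ⟨r, hr0, hrq⟩
  obtain ⟨a, rfl⟩ := mk_surjective hP pa
  obtain ⟨b, rfl⟩ := mk_surjective hP pr
  have ha' := (barQ_one_iff hP a).1 ha
  have hb' := (barQ_zero_iff hP b).1 hrq
  have hboth : ∀ r ∈ R', ¬ Fusion.InZ z r → ∃ u ∈ R', ¬ Fusion.InZ z u ∧ u * u ≠ r * r := by
    intro r hr _
    rcases hP.square (r : GL ι F) hr with e | e
    · refine ⟨⟨a, hRM a.2⟩, a.2, fun h => hS.ne_zero ha ((mk_eq_zero hP).2 ((hInZ _).1 h)), fun h => hP.neg_one_ne ?_⟩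
      have h' : (a : GL ι F) * a = (r : GL ι F) * r := congrArg Subtype.val h
      rw [← ha', h', e]
    · refine ⟨⟨b, hRM b.2⟩, b.2, fun h => hr0 ((mk_eq_zero hP).2 ((hInZ _).1 h)), fun h => hP.neg_one_ne ?_⟩
      have h' : (b : GL ι F) * b = (r : GL ι F) * r := congrArg Subtype.val h
      exact (e.symm.trans h'.symm).trans hb'
  have hcard : 16 ≤ Nat.card R' := by
    rw [hR', Nat.card_congr (Subgroup.subgroupOfEquivOfLe hRM).toEquiv, hP.card]
    calc 16 = 2 ^ 4 := by norm_num
      _ ≤ 2 ^ (1 + 2 * (m + 1)) := Nat.pow_le_pow_right (by norm_num) (by omega)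
  exact mem_normalizer_of_maps (hconjM _ (Fusion.normal hD hcard hboth ⟨h, hh⟩))

/-- **Normalisers of two-groups of symplectic type are maximal in orthogonal groups.** -/
theorem o_pauli_maximal {k p : ℕ} (hQ : IsNondegenerateQuadraticForm Q) (h9 : 9 ≤ Fintype.card ι) (hp : p.Prime)
    (hodd : Odd p) (hcardF : Fintype.card F = p) (hR : IsSymplecticTypeGroup 2 R)
    (hirr : ActsAbsolutelyIrreducibly (matrixSet R)) (hiso : R ≤ Cfsg.isometryGroup F Q)
    (hcardR : Nat.card R = 2 ^ (1 + 2 * k)) (hZ : Nat.card (Subgroup.center R) = 2) :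
    IsMaximalIn (omegaGL Q) (subgroupNormalizer R ⊓ omegaGL Q) := by
  subst hcardF
  have h2 : (2 : F) ≠ 0 := CfsgLib.Perm.Asch.two_ne_zero_of_odd hodd
  haveI : Nonempty ι := Fintype.card_pos_iff.1 (by omega)
  have hP := OPauli.of_data hQ h2 hR hirr hiso hcardR hZ
  obtain ⟨m, rfl⟩ : ∃ m, k = m + 1 := by
    refine ⟨k - 1, ?_⟩
    by_contra h
    rw [hP.dim, show k = 0 by omega] at h9
    omega
  have hm : 3 ≤ m := by
    by_contra h
    rw [hP.dim] at h9
    interval_cases m <;> omega
  refine ⟨lt_of_le_of_ne inf_le_right fun e => not_omega_le hP hm hodd hp (e ▸ inf_le_left), fun M hN hM => ?_⟩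
  by_cases hne : omegaGL Q ≤ M
  · exact Or.inr (le_antisymm hM hne)
  · exact Or.inl (le_antisymm (le_inf (overgroup_normalizes hP hm hodd hp hN hM hne) hM) hN)

end CfsgLib.Perm.Trans.PauliMax.OPlus
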