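import Cfsg.Agent.Lib.Perm.Trans.PauliMax.OPlus.Halves
import Cfsg.Agent.Lib.Perm.Trans.PauliMax.Symp.Base
import Cfsg.Agent.Lib.Perm.Trans.SympMax
import Cfsg.Agent.Lib.Perm.Trans.QuadMax
import Cfsg.Agent.Lib.Perm.Trans.QuadNondegCases

/-!
# The centraliser of a quaternion subgroup of the group is a symplectic group

For anticommuting `a`, `b` of square `-1` choose `x ^ 2 + y ^ 2 = -1`. The involution `x a + y b` has totally
singular eigenspaces, exchanged by `x b - y a`, and the centraliser of `a` and `b` is the symplectic group of one of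
them, contained in `Ω`.
-/

set_option autoImplicit false
set_option linter.all false

namespace CfsgLib.Perm.Trans.PauliMax.OPlus

open scoped Matrix
open Matrix Cfsg.Geo CfsgLib.Perm.Asch CfsgLib.Perm.Trans CfsgLib.Perm.Trans.Quad
open CfsgLib.Perm.Trans.Symp (isoSub mem_isoSub stv stv_mulVec stv_iso)
attribute [local instance] Classical.propDecidable

local notation "pol" => QuadraticMap.polar

variable {ι : Type} [Fintype ι] [DecidableEq ι] {F : Type*} [Field F]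
variable {Q : (ι → F) → F} {R : Subgroup (GL ι F)} {m : ℕ}

/-- coordinates for a quaternion subgroup -/
structure QFrame (Q : (ι → F) → F) (R : Subgroup (GL ι F)) (m : ℕ) extends Halves ι F m where
  pauli : OPauli Q R (m + 1)
  a : GL ι F
  b : GL ι F
  a_mem : a ∈ R
  b_mem : b ∈ R
  aa : a * a = -1
  bb : b * b = -1
  ab : a * b = -(b * a)
  x : F
  y : F
  xy : x ^ 2 + y ^ 2 = -1
  u_val : (u : Matrix ι ι F) = x • (a : Matrix ι ι F) + y • (b : Matrix ι ι F)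
  w_val : (w : Matrix ι ι F) = x • (b : Matrix ι ι F) - y • (a : Matrix ι ι F)

theorem exists_qframe [Fintype F] (hP : OPauli Q R (m + 1)) {a b : GL ι F} (ha : a ∈ R) (hb : b ∈ R)
    (haa : a * a = -1) (hbb : b * b = -1) (hab : a * b = -(b * a)) :
    ∃ φ : QFrame Q R m, φ.a = a ∧ φ.b = b := by
  have h2 := hP.two
  obtain ⟨x, y, hxy⟩ := CfsgLib.Perm.Trans.Quad.exists_sq_add_sq hP.quad h2 (-1 : F)
  have hA := val_neg_one haa
  have hB := val_neg_one hbb
  have hBA : (b : Matrix ι ι F) * a = -((a : Matrix ι ι F) * b) := by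
    rw [← Units.val_mul, ← Units.val_mul, hab, Units.val_neg, neg_neg]
  obtain ⟨U, hU⟩ : ∃ U : Matrix ι ι F, U = x • (a : Matrix ι ι F) + y • (b : Matrix ι ι F) := ⟨_, rfl⟩
  obtain ⟨W, hW⟩ : ∃ W : Matrix ι ι F, W = x • (b : Matrix ι ι F) - y • (a : Matrix ι ι F) := ⟨_, rfl⟩
  have hUU : U * U = 1 := by
    rw [hU]
    simp only [add_mul, mul_add, smul_mul_assoc, mul_smul_comm, smul_smul, hA, hB, hBA]
    match_scalars <;> first | ring1 | linear_combination -hxy | linear_combination hxy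
  have hWW : W * W = 1 := by
    rw [hW]
    simp only [sub_mul, mul_sub, smul_mul_assoc, mul_smul_comm, smul_smul, hA, hB, hBA]
    match_scalars <;> first | ring1 | linear_combination -hxy | linear_combination hxy
  have hUW : U * W = -(W * U) := by
    rw [hU, hW]
    simp only [add_mul, mul_add, sub_mul, mul_sub, smul_mul_assoc, mul_smul_comm, smul_smul, hA, hB, hBA]
    module
  obtain ⟨φ, hu, hw⟩ := exists_halves h2 hP.dim (u := ⟨U, U, hUU, hUU⟩) (w := ⟨W, W, hWW, hWW⟩)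
    (Units.ext hUU) (Units.ext hWW) (Units.ext hUW)
  exact ⟨⟨φ, hP, a, b, ha, hb, haa, hbb, hab, x, y, hxy, by rw [hu]; exact hU, by rw [hw]; exact hW⟩, rfl, rfl⟩

namespace QFrame

variable (φ : QFrame Q R m)

theorem a_val : (φ.a : Matrix ι ι F) = φ.y • φ.W - φ.x • φ.U := by
  rw [Halves.W, Halves.U, φ.w_val, φ.u_val]
  match_scalars <;> first | ring1 | linear_combination φ.xy | linear_combination -φ.xy

theorem b_val : (φ.b : Matrix ι ι F) = -(φ.y • φ.U + φ.x • φ.W) := by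
  rw [Halves.W, Halves.U, φ.w_val, φ.u_val]
  match_scalars <;> first | ring1 | linear_combination φ.xy | linear_combination -φ.xy

theorem comm_uw {g : GL ι F} (ha : g * φ.a = φ.a * g) (hb : g * φ.b = φ.b * g) :
    g * φ.u = φ.u * g ∧ g * φ.w = φ.w * g := by
  have ha' := congrArg (fun z : GL ι F => (z : Matrix ι ι F)) ha
  have hb' := congrArg (fun z : GL ι F => (z : Matrix ι ι F)) hb
  simp only [Units.val_mul] at ha' hb'
  refine ⟨Units.ext ?_, Units.ext ?_⟩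
  · rw [Units.val_mul, Units.val_mul, φ.u_val, mul_add, add_mul, mul_smul_comm, mul_smul_comm, smul_mul_assoc,
      smul_mul_assoc, ha', hb']
  · rw [Units.val_mul, Units.val_mul, φ.w_val, mul_sub, sub_mul, mul_smul_comm, mul_smul_comm, smul_mul_assoc,
      smul_mul_assoc, ha', hb']

theorem comm_ab {g : GL ι F} (hu : g * φ.u = φ.u * g) (hw : g * φ.w = φ.w * g) :
    g * φ.a = φ.a * g ∧ g * φ.b = φ.b * g := by
  have hu' := congrArg (fun z : GL ι F => (z : Matrix ι ι F)) hu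
  have hw' := congrArg (fun z : GL ι F => (z : Matrix ι ι F)) hw
  simp only [Units.val_mul] at hu' hw'
  refine ⟨Units.ext ?_, Units.ext ?_⟩
  · rw [Units.val_mul, Units.val_mul, φ.a_val, mul_sub, sub_mul, mul_smul_comm, mul_smul_comm, smul_mul_assoc,
      smul_mul_assoc, hu', hw']
  · rw [Units.val_mul, Units.val_mul, φ.b_val, mul_neg, neg_mul, mul_add, add_mul, mul_smul_comm, mul_smul_comm,
      smul_mul_assoc, smul_mul_assoc, hu', hw']

theorem adj_aux {r : GL ι F} (hr : r ∈ R) (hrr : r * r = -1) (hP : OPauli Q R (m + 1)) (p q : ι → F) :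
    pol Q ((r : Matrix ι ι F) *ᵥ p) q = -pol Q p ((r : Matrix ι ι F) *ᵥ q) := by
  have h := iso_pol (hP.iso hr) p ((r : Matrix ι ι F) *ᵥ q)
  rw [Matrix.mulVec_mulVec, val_neg_one hrr, Matrix.neg_mulVec, Matrix.one_mulVec, pneg_right hP.quad] at h
  rw [← h, neg_neg]

theorem u_adj (p q : ι → F) : pol Q (φ.U *ᵥ p) q = -pol Q p (φ.U *ᵥ q) := by
  have hq := φ.pauli.quad
  rw [Halves.U, φ.u_val, Matrix.add_mulVec, Matrix.smul_mulVec, Matrix.smul_mulVec, Matrix.add_mulVec,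
    Matrix.smul_mulVec, Matrix.smul_mulVec, padd_left hq, psmul_left hq, psmul_left hq, padd_right hq,
    psmul_right hq, psmul_right hq, adj_aux φ.a_mem φ.aa φ.pauli, adj_aux φ.b_mem φ.bb φ.pauli]
  ring

theorem w_adj (p q : ι → F) : pol Q (φ.W *ᵥ p) q = -pol Q p (φ.W *ᵥ q) := by
  have hq := φ.pauli.quad
  rw [Halves.W, φ.w_val, Matrix.sub_mulVec, Matrix.smul_mulVec, Matrix.smul_mulVec, Matrix.sub_mulVec,
    Matrix.smul_mulVec, Matrix.smul_mulVec, psub_left hq, psmul_left hq, psmul_left hq, psub_right hq,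
    psmul_right hq, psmul_right hq, adj_aux φ.a_mem φ.aa φ.pauli, adj_aux φ.b_mem φ.bb φ.pauli]
  ring

theorem pol_JJ (v v' : Fin (2 ^ m) → F) : pol Q (φ.J *ᵥ v) (φ.J *ᵥ v') = 0 := by
  have h := φ.u_adj (φ.J *ᵥ v) (φ.J *ᵥ v')
  rw [Matrix.mulVec_mulVec, Matrix.mulVec_mulVec, φ.UJ] at h
  exact (mul_eq_zero.1 (show (2 : F) * pol Q (φ.J *ᵥ v) (φ.J *ᵥ v') = 0 by linear_combination h)).resolve_left φ.two

theorem pol_WW (p q : ι → F) : pol Q (φ.W *ᵥ p) (φ.W *ᵥ q) = -pol Q p q := by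
  rw [φ.w_adj, Matrix.mulVec_mulVec, φ.WW, Matrix.one_mulVec]

/-- the alternating form on the fixed space -/
def form : (Fin (2 ^ m) → F) → (Fin (2 ^ m) → F) → F := fun v v' => pol Q (φ.J *ᵥ v) (φ.W *ᵥ (φ.J *ᵥ v'))

theorem q_J (v : Fin (2 ^ m) → F) : Q (φ.J *ᵥ v) = 0 := by
  have h := φ.pol_JJ v v
  rw [pself φ.pauli.quad] at h
  exact (mul_eq_zero.1 h).resolve_left φ.two

theorem q_WJ (v : Fin (2 ^ m) → F) : Q (φ.W *ᵥ (φ.J *ᵥ v)) = 0 := by
  have h := φ.pol_WW (φ.J *ᵥ v) (φ.J *ᵥ v)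
  rw [φ.pol_JJ, neg_zero, pself φ.pauli.quad] at h
  exact (mul_eq_zero.1 h).resolve_left φ.two

theorem form_skew (v v' : Fin (2 ^ m) → F) : φ.form v v' = -φ.form v' v := by
  show pol Q _ _ = -pol Q _ _
  rw [pcomm (φ.J *ᵥ v') (φ.W *ᵥ (φ.J *ᵥ v)), φ.w_adj, neg_neg]

theorem form_pair (a b c d : Fin (2 ^ m) → F) :
    pol Q (φ.J *ᵥ a + φ.W *ᵥ (φ.J *ᵥ b)) (φ.J *ᵥ c + φ.W *ᵥ (φ.J *ᵥ d)) = φ.form a d - φ.form b c := by
  have hq := φ.pauli.quad
  rw [padd_left hq, padd_right hq, padd_right hq, φ.pol_JJ, φ.pol_WW, φ.pol_JJ, φ.w_adj]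
  simp only [form]
  ring

theorem q_pair (a b : Fin (2 ^ m) → F) : Q (φ.J *ᵥ a + φ.W *ᵥ (φ.J *ᵥ b)) = φ.form a b := by
  rw [qadd φ.pauli.quad, φ.q_J, φ.q_WJ, zero_add, zero_add]
  rfl

theorem isSymplectic : IsSymplecticForm φ.form := by
  have hq := φ.pauli.quad
  refine ⟨⟨fun p q v => ?_, fun c p v => ?_, fun v p q => ?_, fun c v p => ?_⟩, fun v w => φ.form_skew v w,
    fun v => ?_, ?_⟩
  · simp only [form, Matrix.mulVec_add, padd_left hq]
  · simp only [form, Matrix.mulVec_smul, psmul_left hq]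
  · simp only [form, Matrix.mulVec_add, padd_right hq]
  · simp only [form, Matrix.mulVec_smul, psmul_right hq]
  · exact (mul_eq_zero.1 (show (2 : F) * φ.form v v = 0 by linear_combination φ.form_skew v v)).resolve_left φ.two
  · intro v hv
    have hJv : φ.J *ᵥ v ≠ 0 := fun e => hv (by
      have := congrArg (φ.E *ᵥ ·) e
      simpa [Matrix.mulVec_mulVec, φ.EJ] using this)
    obtain ⟨y, hy⟩ := (hq.nondegenerate _ hJv).2
    rw [φ.decomp y, padd_right hq, φ.pol_JJ, zero_add] at hy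
    refine ⟨⟨φ.E *ᵥ (φ.W *ᵥ y), fun e => hy ?_⟩, ⟨φ.E *ᵥ (φ.W *ᵥ y), hy⟩⟩
    show φ.form v _ = 0
    rw [φ.form_skew, e, neg_zero]

/-- the diagonal extension -/
def dext : GL (Fin (2 ^ m)) F →* GL ι F :=
  φ.extG.comp ((MonoidHom.id _).prod (MonoidHom.id _))

theorem dext_eq (A : GL (Fin (2 ^ m)) F) : φ.dext A = φ.extG (A, A) := rfl

theorem dext_comm (A : GL (Fin (2 ^ m)) F) :
    φ.dext A * φ.a = φ.a * φ.dext A ∧ φ.dext A * φ.b = φ.b * φ.dext A := by
  refine φ.comm_ab (φ.extG_comm A A) ?_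
  conv_rhs => rw [dext_eq, ← φ.w_extG A A]
  rw [← mul_assoc, ← mul_assoc, φ.ww, one_mul, dext_eq]

theorem dext_mulVec (A : GL (Fin (2 ^ m)) F) (p q : Fin (2 ^ m) → F) :
    (φ.dext A : Matrix ι ι F) *ᵥ (φ.J *ᵥ p + φ.W *ᵥ (φ.J *ᵥ q)) =
      φ.J *ᵥ ((A : Matrix _ _ F) *ᵥ p) + φ.W *ᵥ (φ.J *ᵥ ((A : Matrix _ _ F) *ᵥ q)) := by
  rw [dext_eq, φ.extG_val, Matrix.mulVec_add, φ.ext_J, φ.ext_WJ]

theorem dext_iso {A : GL (Fin (2 ^ m)) F} (hA : A ∈ isoSub φ.form) : φ.dext A ∈ Cfsg.isometryGroup F Q :=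
  mem_iso.2 fun z => by
    rw [φ.decomp z, φ.dext_mulVec, φ.q_pair, φ.q_pair, (mem_isoSub (f := φ.form)).1 hA]

theorem eq_dext {g : GL ι F} (ha : g * φ.a = φ.a * g) (hb : g * φ.b = φ.b * g) :
    g = φ.dext (φ.rpG g (φ.comm_uw ha hb).1) := by
  obtain ⟨hu, hw⟩ := φ.comm_uw ha hb
  have e : φ.w * g * φ.w = g := by rw [← hw, mul_assoc, φ.ww, mul_one]
  conv_lhs => rw [← φ.extG_rpG hu, φ.rpG_congr e (φ.comm_w hu) hu]
  rfl

theorem rpG_iso {g : GL ι F} (hg : g ∈ Cfsg.isometryGroup F Q) (hu : g * φ.u = φ.u * g) (hw : g * φ.w = φ.w * g) :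
    φ.rpG g hu ∈ isoSub φ.form := by
  obtain ⟨ha, hb⟩ := φ.comm_ab hu hw
  rw [mem_isoSub]
  intro p q
  have key := iso_pol hg (φ.J *ᵥ p) (φ.W *ᵥ (φ.J *ᵥ q))
  have e : (g : Matrix ι ι F) = (φ.dext (φ.rpG g hu) : Matrix ι ι F) := congrArg Units.val (φ.eq_dext ha hb)
  rw [e] at key
  rwa [dext_eq, φ.extG_val, φ.ext_J, φ.ext_WJ] at key

theorem dext_inj : Function.Injective φ.dext := fun A B h => (φ.extG_inj h).1

/-- the transvections lie in `Ω` -/
theorem stv_omega [Fintype F] (hn : 5 ≤ Fintype.card ι) (c : Fin (2 ^ m) → F) (l : F) :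
    φ.dext (stv φ.isSymplectic c l) ∈ omegaGL Q := by
  have hq := φ.pauli.quad
  obtain ⟨g, hg, hgE⟩ := ein_omega hq hn (φ.q_J c) (a := (-l) • (φ.W *ᵥ (φ.J *ᵥ c)))
    (by rw [psmul_right hq, show pol Q (φ.J *ᵥ c) (φ.W *ᵥ (φ.J *ᵥ c)) = φ.form c c from rfl,
      φ.isSymplectic.alternating, mul_zero])
  suffices e : φ.dext (stv φ.isSymplectic c l) = g by rw [e]; exact hg
  refine CfsgLib.Perm.Trans.gl_ext_vec fun z => ?_
  obtain ⟨p, q, rfl⟩ : ∃ p q, z = φ.J *ᵥ p + φ.W *ᵥ (φ.J *ᵥ q) := ⟨_, _, φ.decomp z⟩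
  have e1 : pol Q (φ.J *ᵥ p + φ.W *ᵥ (φ.J *ᵥ q)) (φ.J *ᵥ c) = -φ.form q c := by
    have h := φ.form_pair p q c 0
    rw [Matrix.mulVec_zero, Matrix.mulVec_zero, add_zero] at h
    rw [h, show φ.form p 0 = 0 by simp only [form, Matrix.mulVec_zero, pzero_right hq]]
    ring
  have e2 : pol Q (φ.J *ᵥ p + φ.W *ᵥ (φ.J *ᵥ q)) (φ.W *ᵥ (φ.J *ᵥ c)) = φ.form p c := by
    have h := φ.form_pair p q 0 c
    rw [Matrix.mulVec_zero, zero_add] at h
    rw [h, show φ.form q 0 = 0 by simp only [form, Matrix.mulVec_zero, pzero_right hq]]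
    ring
  rw [φ.dext_mulVec, hgE, qsmul hq, φ.q_WJ, psmul_right hq, e1, e2, stv_mulVec, stv_mulVec]
  simp only [Matrix.mulVec_add, Matrix.mulVec_smul]
  module

/-- **The symplectic group lies in `Ω`.** -/
theorem dext_omega [Fintype F] (hn : 5 ≤ Fintype.card ι) {A : GL (Fin (2 ^ m)) F} (hA : A ∈ isoSub φ.form) :
    φ.dext A ∈ omegaGL Q := by
  have h : (omegaGL Q).comap φ.dext ⊓ isoSub φ.form = isoSub φ.form :=
    CfsgLib.Perm.Trans.Symp.eq_isoSub φ.isSymplectic inf_le_right fun c l =>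
      ⟨φ.stv_omega hn c l, stv_iso φ.isSymplectic c l⟩
  exact (h.symm ▸ hA : A ∈ (omegaGL Q).comap φ.dext ⊓ isoSub φ.form).1

/-- the centraliser of the quaternion subgroup in the group -/
def cen : Subgroup R :=
  (Subgroup.centralizer ({φ.a, φ.b} : Set (GL ι F))).subgroupOf R

theorem mem_cen {r : R} : r ∈ φ.cen ↔ (r : GL ι F) * φ.a = φ.a * r ∧ (r : GL ι F) * φ.b = φ.b * r := by
  rw [cen, Subgroup.mem_subgroupOf, Subgroup.mem_centralizer_iff]
  simp [eq_comm]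

/-- restriction to the fixed space -/
def cenHom : φ.cen →* GL (Fin (2 ^ m)) F where
  toFun t := φ.rpG ((t : R) : GL ι F) (φ.comm_uw (φ.mem_cen.1 t.2).1 (φ.mem_cen.1 t.2).2).1
  map_one' := Units.ext (by simp [Halves.rpG_val, φ.rp_one])
  map_mul' s t := φ.rpG_mul _ _ _

/-- the group on the fixed space -/
def sub : Subgroup (GL (Fin (2 ^ m)) F) := φ.cenHom.range

theorem dext_cenHom (t : φ.cen) : φ.dext (φ.cenHom t) = ((t : R) : GL ι F) :=
  (φ.eq_dext (φ.mem_cen.1 t.2).1 (φ.mem_cen.1 t.2).2).symm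

theorem cenHom_inj : Function.Injective φ.cenHom := fun s t h =>
  Subtype.ext (Subtype.ext (by rw [← φ.dext_cenHom, ← φ.dext_cenHom, h]))

theorem mem_sub_iff {A : GL (Fin (2 ^ m)) F} : A ∈ φ.sub ↔ φ.dext A ∈ R := by
  constructor
  · rintro ⟨t, rfl⟩
    rw [φ.dext_cenHom]
    exact (t : R).2
  · intro h
    refine ⟨⟨⟨_, h⟩, φ.mem_cen.2 (φ.dext_comm A)⟩, φ.dext_inj ?_⟩
    rw [φ.dext_cenHom]

theorem dext_neg (A : GL (Fin (2 ^ m)) F) : φ.dext (-A) = -φ.dext A := φ.extG_neg A A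

/-- the position of an element relative to the two generators -/
theorem exists_split {r : GL ι F} (hr : r ∈ R) :
    ∃ t ∈ ({1, φ.a, φ.b, φ.a * φ.b} : Set (GL ι F)), (r * t⁻¹) * φ.a = φ.a * (r * t⁻¹) ∧
      (r * t⁻¹) * φ.b = φ.b * (r * t⁻¹) := by
  have hP := φ.pauli
  have hai : φ.a⁻¹ = -φ.a := inv_eq_of_mul_eq_one_right (by rw [mul_neg, φ.aa, neg_neg])
  have hbi : φ.b⁻¹ = -φ.b := inv_eq_of_mul_eq_one_right (by rw [mul_neg, φ.bb, neg_neg])
  have hba : φ.b * φ.a = -(φ.a * φ.b) := by rw [φ.ab, neg_neg]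
  rcases hP.sign r hr φ.a φ.a_mem with h1 | h1 <;> rcases hP.sign r hr φ.b φ.b_mem with h2 | h2
  · exact ⟨1, by simp, by simpa using h1, by simpa using h2⟩
  · refine ⟨φ.a, by simp, ?_, ?_⟩ <;> rw [hai]
    · simp only [mul_neg, neg_mul, ← mul_assoc, ← h1]
    · rw [mul_assoc, neg_mul, φ.ab, neg_neg, ← mul_assoc, h2, neg_mul, mul_assoc, ← mul_neg, mul_neg r]
  · refine ⟨φ.b, by simp, ?_, ?_⟩ <;> rw [hbi]
    · rw [mul_assoc, neg_mul, hba, neg_neg, ← mul_assoc, h1, neg_mul, mul_assoc, ← mul_neg, mul_neg r]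
    · simp only [mul_neg, neg_mul, ← mul_assoc, ← h2]
  · have e : (φ.a * φ.b)⁻¹ = φ.b * φ.a := by rw [_root_.mul_inv_rev, hai, hbi, neg_mul_neg]
    refine ⟨φ.a * φ.b, by simp, ?_, ?_⟩ <;> rw [e]
    · calc r * (φ.b * φ.a) * φ.a = -(r * φ.b) := by simp only [mul_assoc, φ.aa, mul_neg, mul_one]
        _ = φ.b * r := by rw [h2, neg_neg]
        _ = φ.a * (r * (φ.b * φ.a)) := by
          rw [← mul_assoc r, h2, neg_mul, mul_neg, mul_assoc φ.b, h1, mul_neg, mul_neg, neg_neg, ← mul_assoc φ.b,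
            hba, neg_mul, mul_neg, ← mul_assoc φ.a, ← mul_assoc φ.a, φ.aa, neg_one_mul, neg_mul, neg_neg]
    · calc r * (φ.b * φ.a) * φ.b = r * φ.b * (φ.a * φ.b) := by simp only [mul_assoc]
        _ = φ.b * (r * (φ.b * φ.a)) := by rw [hba, h2, mul_neg, mul_neg, neg_mul, mul_assoc]

/-- the four representatives are scalars on the fixed space -/
theorem rp_rep {t : GL ι F} (ht : t ∈ ({1, φ.a, φ.b, φ.a * φ.b} : Set (GL ι F))) :
    ∃ s : F, φ.rp (t : Matrix ι ι F) = s • 1 := by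
  have hU : φ.E * φ.U * φ.J = 1 := by rw [Matrix.mul_assoc, φ.UJ, φ.EJ]
  have hUW : φ.E * (φ.U * φ.W) * φ.J = 0 := by
    rw [show φ.U * φ.W = -(φ.W * φ.U) by rw [φ.WU, neg_neg], Matrix.mul_neg, Matrix.neg_mul, ← Matrix.mul_assoc,
      Matrix.mul_assoc _ φ.U, φ.UJ, φ.EWJ, neg_zero]
  have hWU : φ.E * (φ.W * φ.U) * φ.J = 0 := by
    rw [← Matrix.mul_assoc, Matrix.mul_assoc _ φ.U, φ.UJ, φ.EWJ]
  simp only [Set.mem_insert_iff, Set.mem_singleton_iff] at ht
  rcases ht with rfl | rfl | rfl | rfl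
  · exact ⟨1, by rw [Units.val_one, φ.rp_one, one_smul]⟩
  · refine ⟨-φ.x, ?_⟩
    rw [Halves.rp, φ.a_val]
    simp only [Matrix.mul_sub, Matrix.sub_mul, Matrix.mul_smul, Matrix.smul_mul, hU, φ.EWJ]
    module
  · refine ⟨-φ.y, ?_⟩
    rw [Halves.rp, φ.b_val]
    simp only [Matrix.mul_neg, Matrix.neg_mul, Matrix.mul_add, Matrix.add_mul, Matrix.mul_smul, Matrix.smul_mul, hU,
      φ.EWJ]
    module
  · refine ⟨φ.x * φ.y - φ.y * φ.x, ?_⟩
    rw [Halves.rp, Units.val_mul, φ.a_val, φ.b_val]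
    simp only [mul_neg, sub_mul, mul_add, smul_mul_assoc, mul_smul_comm, smul_smul, φ.UU, φ.WW, Matrix.mul_neg,
      Matrix.neg_mul, Matrix.mul_add, Matrix.add_mul, Matrix.mul_sub, Matrix.sub_mul, Matrix.mul_smul, Matrix.smul_mul,
      Matrix.mul_one, hUW, hWU, φ.EJ]
    module

theorem card_sub : Nat.card φ.sub = 2 ^ (1 + 2 * m) := by
  have hP := φ.pauli
  have hS := space hP
  let χ : R →* Multiplicative (ZMod 2 × ZMod 2) :=
    { toFun := fun r => Multiplicative.ofAdd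
        (barB hP (OPlus.mk hP ⟨φ.a, φ.a_mem⟩) (OPlus.mk hP r), barB hP (OPlus.mk hP ⟨φ.b, φ.b_mem⟩) (OPlus.mk hP r))
      map_one' := by
        rw [show OPlus.mk hP (1 : R) = 0 from rfl, hS.bz, hS.bz]
        rfl
      map_mul' := fun r s => by
        rw [mk_mul, hS.addr, hS.addr]
        rfl }
  have hker : χ.ker = φ.cen := by
    ext r
    rw [MonoidHom.mem_ker, φ.mem_cen]
    show Multiplicative.ofAdd _ = 1 ↔ _
    rw [ofAdd_eq_one, Prod.mk_eq_zero, barB_zero_iff, barB_zero_iff]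
    exact and_congr eq_comm eq_comm
  have hsurj : Function.Surjective χ := by
    intro z
    have hab : barB hP (OPlus.mk hP ⟨φ.a, φ.a_mem⟩) (OPlus.mk hP ⟨φ.b, φ.b_mem⟩) = 1 := (barB_one_iff hP _ _).2 φ.ab
    obtain ⟨p, q, hpq⟩ : ∃ p q, Multiplicative.toAdd z = (p, q) := ⟨_, _, rfl⟩
    rw [show z = Multiplicative.ofAdd (p, q) by rw [← hpq]; rfl]
    have hba : barB hP (OPlus.mk hP ⟨φ.b, φ.b_mem⟩) (OPlus.mk hP ⟨φ.a, φ.a_mem⟩) = 1 := by rw [hS.symm]; exact hab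
    rcases Orth.z2 p with rfl | rfl <;> rcases Orth.z2 q with rfl | rfl
    · exact ⟨1, map_one χ⟩
    · exact ⟨⟨φ.a, φ.a_mem⟩, by simp only [χ, MonoidHom.coe_mk, OneHom.coe_mk, hS.self, hba]⟩
    · exact ⟨⟨φ.b, φ.b_mem⟩, by simp only [χ, MonoidHom.coe_mk, OneHom.coe_mk, hS.self, hab]⟩
    · refine ⟨⟨φ.a, φ.a_mem⟩ * ⟨φ.b, φ.b_mem⟩, ?_⟩
      simp only [χ, MonoidHom.coe_mk, OneHom.coe_mk, mk_mul, hS.addr, hS.self, hab, hba, zero_add, add_zero]
  have h := Subgroup.card_eq_card_quotient_mul_card_subgroup χ.ker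
  rw [Nat.card_congr (QuotientGroup.quotientKerEquivOfSurjective χ hsurj).toEquiv, hker, hP.card,
    Nat.card_congr Multiplicative.toAdd, Nat.card_prod, Nat.card_zmod] at h
  rw [sub, Nat.card_congr (MonoidHom.ofInjective φ.cenHom_inj).toEquiv.symm]
  rw [show 1 + 2 * (m + 1) = 2 + (1 + 2 * m) by ring, pow_add] at h
  omega

theorem common_eigen {s : Finset (GL (Fin (2 ^ m)) F)} (hsq : ∀ g ∈ s, g * g = 1)
    (hc : ∀ g ∈ s, ∀ h ∈ s, g * h = h * g) :
    ∃ v : Fin (2 ^ m) → F, v ≠ 0 ∧ ∀ g ∈ s, ∃ e : F, (g : Matrix (Fin (2 ^ m)) (Fin (2 ^ m)) F) *ᵥ v = e • v := by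
  induction s using Finset.induction_on with
  | empty => exact ⟨1, one_ne_zero, by simp⟩
  | @insert g s hg ih =>
    obtain ⟨v, hv, hev⟩ := ih (fun h hh => hsq h (Finset.mem_insert_of_mem hh))
      fun h hh k hk => hc h (Finset.mem_insert_of_mem hh) k (Finset.mem_insert_of_mem hk)
    have hgg : ∀ z : Fin (2 ^ m) → F, (g : Matrix (Fin (2 ^ m)) (Fin (2 ^ m)) F) *ᵥ ((g : Matrix (Fin (2 ^ m)) (Fin (2 ^ m)) F) *ᵥ z) = z := fun z => by
      rw [Matrix.mulVec_mulVec, ← Units.val_mul, hsq g (Finset.mem_insert_self _ _), Units.val_one, Matrix.one_mulVec]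
    by_cases h0 : v + (g : Matrix (Fin (2 ^ m)) (Fin (2 ^ m)) F) *ᵥ v = 0
    · refine ⟨v, hv, fun h hh => ?_⟩
      rcases Finset.mem_insert.1 hh with rfl | hh
      · exact ⟨-1, by rw [neg_one_smul]; exact (neg_eq_of_add_eq_zero_right h0).symm⟩
      · exact hev h hh
    · refine ⟨_, h0, fun h hh => ?_⟩
      rcases Finset.mem_insert.1 hh with rfl | hh
      · exact ⟨1, by rw [Matrix.mulVec_add, hgg, one_smul, add_comm]⟩
      · obtain ⟨e, he⟩ := hev h hh
        refine ⟨e, ?_⟩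
        rw [Matrix.mulVec_add, Matrix.mulVec_mulVec, ← Units.val_mul,
          hc h (Finset.mem_insert_of_mem hh) g (Finset.mem_insert_self _ _), Units.val_mul, ← Matrix.mulVec_mulVec, he,
          Matrix.mulVec_smul, smul_add]

/-- **The group on the fixed space has minus type.** -/
theorem sub_pauli : CfsgLib.Perm.Trans.PauliMax.Symp.SpPauli φ.form φ.sub m := by
  have hP := φ.pauli
  have hneg : (-1 : GL (Fin (2 ^ m)) F) ∈ φ.sub := by
    rw [φ.mem_sub_iff, φ.dext_neg, map_one]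
    exact hP.neg
  have hsign : ∀ r ∈ φ.sub, ∀ s ∈ φ.sub, r * s = s * r ∨ r * s = -(s * r) := fun r hr s hs => by
    refine (hP.sign _ (φ.mem_sub_iff.1 hr) _ (φ.mem_sub_iff.1 hs)).imp (fun h => φ.dext_inj ?_) fun h => φ.dext_inj ?_
    · rw [map_mul, map_mul, h]
    · rw [map_mul, φ.dext_neg, map_mul, h]
  have hiso : φ.sub ≤ isoSub φ.form := by
    rintro _ ⟨t, rfl⟩
    obtain ⟨h1, h2⟩ := φ.comm_uw (φ.mem_cen.1 t.2).1 (φ.mem_cen.1 t.2).2
    exact φ.rpG_iso (hP.iso (t : R).2) h1 h2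
  have hspan : Submodule.span F (matrixSet φ.sub) = ⊤ := by
    refine Submodule.eq_top_iff'.2 fun X => ?_
    have hX : φ.J * X * φ.E ∈ Submodule.span F (matrixSet R) := hP.span.symm ▸ Submodule.mem_top
    have key : ∀ Y ∈ Submodule.span F (matrixSet R), φ.rp Y ∈ Submodule.span F (matrixSet φ.sub) := by
      intro Y hY
      induction hY using Submodule.span_induction with
      | mem z hz =>
        obtain ⟨r, hr, rfl⟩ := hz
        obtain ⟨t, ht, hca, hcb⟩ := φ.exists_split hr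
        obtain ⟨s, hs⟩ := φ.rp_rep ht
        obtain ⟨hu, -⟩ := φ.comm_uw hca hcb
        have hmem : φ.rpG _ hu ∈ φ.sub := ⟨⟨⟨r * t⁻¹, mul_mem hr (inv_mem ?_)⟩, φ.mem_cen.2 ⟨hca, hcb⟩⟩, rfl⟩
        · have e : φ.rp (r : Matrix ι ι F) = φ.rp ((r * t⁻¹ : GL ι F) : Matrix ι ι F) * φ.rp (t : Matrix ι ι F) := by
            have hEc : φ.E * ((r * t⁻¹ : GL ι F) : Matrix ι ι F) * pp φ.u =
                φ.E * ((r * t⁻¹ : GL ι F) : Matrix ι ι F) := by
              rw [Matrix.mul_assoc, φ.comm_pp (φ.comm_mat hu), ← Matrix.mul_assoc, φ.EP]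
            rw [show φ.rp ((r * t⁻¹ : GL ι F) : Matrix ι ι F) * φ.rp (t : Matrix ι ι F) =
              φ.E * ((r * t⁻¹ : GL ι F) : Matrix ι ι F) * (φ.J * φ.E) * (t : Matrix ι ι F) * φ.J by
                simp only [Halves.rp, Matrix.mul_assoc], φ.JE, hEc]
            simp only [Halves.rp, Matrix.mul_assoc]
            rw [← Matrix.mul_assoc ((r * t⁻¹ : GL ι F) : Matrix ι ι F), ← Units.val_mul, inv_mul_cancel_right]
          rw [e, hs, Matrix.mul_smul, Matrix.mul_one]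
          exact Submodule.smul_mem _ _ (Submodule.subset_span ⟨_, hmem, rfl⟩)
        · simp only [Set.mem_insert_iff, Set.mem_singleton_iff] at ht
          rcases ht with rfl | rfl | rfl | rfl
          exacts [R.one_mem, φ.a_mem, φ.b_mem, mul_mem φ.a_mem φ.b_mem]
      | zero => rw [Halves.rp, Matrix.mul_zero, Matrix.zero_mul]; exact Submodule.zero_mem _
      | add y z _ _ hy hz => rw [Halves.rp, Matrix.mul_add, Matrix.add_mul]; exact Submodule.add_mem _ hy hz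
      | smul c y _ hy => rw [Halves.rp, Matrix.mul_smul, Matrix.smul_mul]; exact Submodule.smul_mem _ c hy
    have := key _ hX
    rwa [Halves.rp, show φ.E * (φ.J * X * φ.E) * φ.J = (φ.E * φ.J) * X * (φ.E * φ.J) by simp only [Matrix.mul_assoc],
      φ.EJ, Matrix.one_mul, Matrix.mul_one] at this
  refine ⟨φ.isSymplectic, φ.two, hiso, hneg, hsign, fun r hr => ?_, hspan, by simp, φ.card_sub, ?_⟩
  · refine (hP.square _ (φ.mem_sub_iff.1 hr)).imp (fun h => φ.dext_inj ?_) fun h => φ.dext_inj ?_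
    · rw [map_mul, h, map_one]
    · rw [map_mul, φ.dext_neg, h, map_one]
  intro A hA hsq
  by_contra hbig
  push Not at hbig
  have hf := φ.isSymplectic
  haveI : Finite φ.sub := Nat.finite_of_card_ne_zero (by rw [φ.card_sub]; positivity)
  haveI : Fintype A := Fintype.ofFinite _
  have hS := space hP
  obtain ⟨v, hv, hev⟩ := common_eigen (s := Finset.univ.image fun x : A => ((x : φ.sub) : GL (Fin (2 ^ m)) F))
    (fun g hg => by
      obtain ⟨x, -, rfl⟩ := Finset.mem_image.1 hg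
      exact congrArg Subtype.val (hsq _ x.2))
    (fun g hg h hh => by
      obtain ⟨x, -, rfl⟩ := Finset.mem_image.1 hg
      obtain ⟨y, -, rfl⟩ := Finset.mem_image.1 hh
      exact congrArg (fun z : A => ((z : φ.sub) : GL (Fin (2 ^ m)) F)) (hA.is_comm.comm x y))
  -- the singular image in the binary space
  let ψ : A →* Multiplicative (Bar hP) :=
    { toFun := fun x => Multiplicative.ofAdd (OPlus.mk hP ⟨_, φ.mem_sub_iff.1 (x : φ.sub).2⟩)
      map_one' := by
        rw [ofAdd_eq_one]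
        exact (mk_eq_zero hP).2 (Or.inl (map_one φ.dext))
      map_mul' := fun x y => by
        rw [← ofAdd_add, ← mk_mul]
        exact congrArg (fun z => Multiplicative.ofAdd (OPlus.mk hP z)) (Subtype.ext (map_mul φ.dext _ _)) }
  let L : AddSubgroup (Bar hP) :=
    { carrier := {z | Multiplicative.ofAdd z ∈ ψ.range}
      zero_mem' := ψ.range.one_mem
      add_mem' := fun hy hz => ψ.range.mul_mem hy hz
      neg_mem' := fun hy => ψ.range.inv_mem hy }
  have hLq : ∀ z ∈ L, barQ hP z = 0 := by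
    rintro z ⟨x, hx⟩
    rw [show z = OPlus.mk hP ⟨_, φ.mem_sub_iff.1 (x : φ.sub).2⟩ from (Multiplicative.ofAdd.injective hx).symm,
      barQ_zero_iff, ← map_mul, show ((x : φ.sub) : GL (Fin (2 ^ m)) F) * (x : φ.sub) = 1 from
        congrArg Subtype.val (hsq _ x.2), map_one]
  have hL : 2 ^ m ≤ Nat.card L := by
    have h1 : Nat.card ψ.ker ≤ 2 := by
      haveI : Finite (pm hP) := Nat.finite_of_card_ne_zero (by rw [card_pm hP]; norm_num)
      refine le_of_le_of_eq ?_ (card_pm hP)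
      refine Nat.card_le_card_of_injective (fun x : ψ.ker => (⟨⟨φ.dext ((x : A) : φ.sub),
        φ.mem_sub_iff.1 ((x : A) : φ.sub).2⟩, (mk_eq_zero hP).1 (Multiplicative.ofAdd.injective x.2)⟩ : pm hP)) ?_
      intro x y e
      exact Subtype.ext (Subtype.ext (Subtype.ext (φ.dext_inj (congrArg (fun z : pm hP => ((z : R) : GL ι F)) e))))
    have h2 : Nat.card A = Nat.card ψ.range * Nat.card ψ.ker := by
      rw [Subgroup.card_eq_card_quotient_mul_card_subgroup ψ.ker,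
        Nat.card_congr (QuotientGroup.quotientKerEquivRange ψ).toEquiv]
    have h3 : Nat.card L = Nat.card ψ.range := Nat.card_congr (Equiv.subtypeEquiv Multiplicative.ofAdd fun z => Iff.rfl)
    have h4 : 2 ^ (m + 1) ≤ Nat.card ψ.range * 2 := hbig.trans (h2.le.trans (Nat.mul_le_mul_left _ h1))
    rw [h3]
    rw [pow_succ] at h4
    omega
  have hLperp : ∀ r : φ.sub, (∀ x : A, (r : GL (Fin (2 ^ m)) F) * ((x : φ.sub) : GL (Fin (2 ^ m)) F) =
      ((x : φ.sub) : GL (Fin (2 ^ m)) F) * r) → OPlus.mk hP ⟨_, φ.mem_sub_iff.1 r.2⟩ ∈ Orth.perpOf hS L := by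
    intro r hr z hz
    obtain ⟨x, hx⟩ := hz
    rw [show z = OPlus.mk hP ⟨_, φ.mem_sub_iff.1 (x : φ.sub).2⟩ from (Multiplicative.ofAdd.injective hx).symm, barB_zero_iff,
      ← map_mul, ← map_mul, hr x]
  -- an element centralising `A` belongs to it modulo sign
  have hkey : ∀ r : φ.sub, (∀ x : A, (r : GL (Fin (2 ^ m)) F) * ((x : φ.sub) : GL (Fin (2 ^ m)) F) =
      ((x : φ.sub) : GL (Fin (2 ^ m)) F) * r) → OPlus.mk hP ⟨_, φ.mem_sub_iff.1 r.2⟩ ∈ L := by
    intro r hr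
    obtain ⟨pr, hpr⟩ : ∃ pr, pr = OPlus.mk hP ⟨_, φ.mem_sub_iff.1 r.2⟩ := ⟨_, rfl⟩
    have hrL : pr ∈ Orth.perpOf hS L := hpr ▸ hLperp r hr
    have haL : OPlus.mk hP ⟨φ.a, φ.a_mem⟩ ∈ Orth.perpOf hS L := by
      rintro z ⟨x, hx⟩
      rw [show z = OPlus.mk hP ⟨_, φ.mem_sub_iff.1 (x : φ.sub).2⟩ from (Multiplicative.ofAdd.injective hx).symm,
        barB_zero_iff]
      exact (φ.dext_comm _).1
    have har : barB hP (OPlus.mk hP ⟨φ.a, φ.a_mem⟩) pr = 0 := by
      rw [hpr, barB_zero_iff]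
      exact (φ.dext_comm _).1.symm
    have hqa : barQ hP (OPlus.mk hP ⟨φ.a, φ.a_mem⟩) = 1 := (barQ_one_iff hP _).2 φ.aa
    rw [← hpr]
    by_contra hout
    obtain ⟨c, hc, hcL, hcq, hco⟩ : ∃ c, c ∈ Orth.perpOf hS L ∧ c ∉ L ∧ barQ hP c = 0 ∧
        ∃ t, t ∈ Orth.perpOf hS L ∧ barQ hP t = 1 ∧ barB hP c t = 0 := by
      rcases Orth.z2 (barQ hP pr) with h | h
      · exact ⟨pr, hrL, hout, h, _, haL, hqa, by rw [hS.symm, har]⟩
      · refine ⟨pr + OPlus.mk hP ⟨φ.a, φ.a_mem⟩, AddSubgroup.add_mem _ hrL haL, fun hin => ?_, ?_, pr, hrL, h, ?_⟩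
        · have hb : barB hP (OPlus.mk hP ⟨φ.b, φ.b_mem⟩) (pr + OPlus.mk hP ⟨φ.a, φ.a_mem⟩) = 0 := by
            obtain ⟨x, hx⟩ := hin
            rw [show pr + OPlus.mk hP ⟨φ.a, φ.a_mem⟩ = OPlus.mk hP ⟨_, φ.mem_sub_iff.1 (x : φ.sub).2⟩ from
              (Multiplicative.ofAdd.injective hx).symm, barB_zero_iff]
            exact (φ.dext_comm _).2.symm
          have hbr : barB hP (OPlus.mk hP ⟨φ.b, φ.b_mem⟩) pr = 0 := by
            rw [hpr, barB_zero_iff]
            exact (φ.dext_comm _).2.symm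
          rw [hS.addr, hbr, zero_add, hS.symm, (barB_one_iff hP _ _).2 φ.ab] at hb
          exact one_ne_zero hb
        · rw [hS.polar, h, hqa, hS.symm, har]; decide
        · rw [hS.addl, hS.self, har, add_zero]
    obtain ⟨t, htL, htq, hct⟩ := hco
    let L2 : AddSubgroup (Bar hP) := L ⊔ AddSubgroup.closure {c}
    have hL2m : ∀ z ∈ L2, z ∈ L ∨ z + c ∈ L := by
      intro z hz
      obtain ⟨l, hl, k, hk, rfl⟩ := AddSubgroup.mem_sup.1 hz
      obtain ⟨n, rfl⟩ := AddSubgroup.mem_closure_singleton.1 hk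
      rcases Int.even_or_odd n with ⟨j, rfl⟩ | ⟨j, rfl⟩
      · left; rwa [add_zsmul, ← zsmul_add, hS.two, zsmul_zero, add_zero]
      · right
        rw [add_zsmul, one_zsmul, two_mul, add_zsmul, ← zsmul_add, hS.two, zsmul_zero, zero_add, add_assoc, hS.two,
          add_zero]
        exact hl
    have hL2q : ∀ z ∈ L2, barQ hP z = 0 := by
      intro z hz
      rcases hL2m z hz with h | h
      · exact hLq z h
      · rw [show z = (z + c) + c by rw [add_assoc, hS.two, add_zero], hS.polar, hLq _ h, hcq, hc _ h]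
        decide
    have hlt : L < L2 := lt_of_le_of_ne le_sup_left fun e => hcL
      (e ▸ AddSubgroup.mem_sup_right (AddSubgroup.subset_closure rfl))
    have htL2 : t ∈ Orth.perpOf hS L2 := by
      intro z hz
      rcases hL2m z hz with h | h
      · exact htL z h
      · rw [show z = (z + c) + c by rw [add_assoc, hS.two, add_zero], hS.addl, htL _ h, hct, add_zero]
    have h2 : 2 * Nat.card L ≤ Nat.card L2 := by
      obtain ⟨q, hq⟩ := AddSubgroup.card_dvd_of_le hlt.le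
      rcases Nat.lt_or_ge q 2 with h | h
      · interval_cases q
        · have := Nat.card_pos (α := L2); omega
        · exact absurd (AddSubgroup.eq_of_le_of_card_ge hlt.le (by omega)) hlt.ne
      · rw [hq, mul_comm]; exact Nat.mul_le_mul_left _ h
    have hcard := Orth.card_perpOf hS L2
    rw [card_bar] at hcard
    have hle : L2 ≤ Orth.perpOf hS L2 := fun y hy z hz => by
      have h1 := hS.polar z y
      rw [hL2q z hz, hL2q y hy, hL2q _ (L2.add_mem hz hy), zero_add, zero_add] at h1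
      exact h1.symm
    have hne : L2 ≠ Orth.perpOf hS L2 := fun e => by
      have := hL2q t (e.symm ▸ htL2)
      rw [htq] at this
      exact one_ne_zero this
    have h4 : Nat.card L2 < Nat.card (Orth.perpOf hS L2) := by
      rcases lt_or_ge (Nat.card L2) (Nat.card (Orth.perpOf hS L2)) with h | h
      · exact h
      · exact absurd (AddSubgroup.eq_of_le_of_card_ge hle h) hne
    have e : 2 ^ (2 * (m + 1)) = (2 * 2 ^ m) * (2 * 2 ^ m) := by ring
    have h5 : (2 * 2 ^ m) * (2 * 2 ^ m + 1) ≤ Nat.card L2 * Nat.card (Orth.perpOf hS L2) :=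
      Nat.mul_le_mul ((Nat.mul_le_mul_left 2 hL).trans h2) (by have := (Nat.mul_le_mul_left 2 hL).trans h2; omega)
    rw [hcard, e, Nat.mul_add, Nat.mul_one] at h5
    have := Nat.two_pow_pos m
    omega
  -- the eigenvector is orthogonal to everything
  have hA' : ∀ x : A, ∃ e : F, (((x : φ.sub) : GL (Fin (2 ^ m)) F) : Matrix _ _ F) *ᵥ v = e • v := fun x =>
    hev _ (Finset.mem_image.2 ⟨x, Finset.mem_univ _, rfl⟩)
  have hzero : ∀ r : φ.sub, φ.form v (((r : GL (Fin (2 ^ m)) F) : Matrix _ _ F) *ᵥ v) = 0 := by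
    intro r
    by_cases hcom : ∀ x : A, (r : GL (Fin (2 ^ m)) F) * ((x : φ.sub) : GL (Fin (2 ^ m)) F) =
        ((x : φ.sub) : GL (Fin (2 ^ m)) F) * r
    · obtain ⟨x, hx⟩ := hkey r hcom
      obtain ⟨e, he⟩ := hA' x
      rcases (mk_eq hP).1 (Multiplicative.ofAdd.injective hx) with h | h
      · rw [φ.dext_inj h, he, hf.bilinear.smul_right, hf.alternating, mul_zero]
      · rw [← φ.dext_neg] at h
        rw [φ.dext_inj h, Units.val_neg, Matrix.neg_mulVec, he, ← neg_smul, hf.bilinear.smul_right, hf.alternating,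
          mul_zero]
    · push Not at hcom
      obtain ⟨x, hx⟩ := hcom
      obtain ⟨g, hg⟩ : ∃ g : GL (Fin (2 ^ m)) F, g = ((x : φ.sub) : GL (Fin (2 ^ m)) F) := ⟨_, rfl⟩
      obtain ⟨e, he⟩ := hA' x
      rw [← hg] at hx he
      have hgR : g ∈ φ.sub := hg ▸ (x : φ.sub).2
      have hanti := (hsign _ r.2 _ hgR).resolve_left hx
      have hgg : g * g = 1 := hg ▸ congrArg Subtype.val (hsq _ x.2)
      have he2 : e * e = 1 := by
        have h1 : (g : Matrix (Fin (2 ^ m)) (Fin (2 ^ m)) F) *ᵥ ((g : Matrix (Fin (2 ^ m)) (Fin (2 ^ m)) F) *ᵥ v) = v := by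
          rw [Matrix.mulVec_mulVec, ← Units.val_mul, hgg, Units.val_one, Matrix.one_mulVec]
        rw [he, Matrix.mulVec_smul, he, smul_smul] at h1
        exact smul_left_injective F hv (show (e * e) • v = (1 : F) • v by rw [one_smul, h1])
      have h1 := (mem_isoSub (f := φ.form)).1 (hiso hgR) v (((r : GL (Fin (2 ^ m)) F) : Matrix _ _ F) *ᵥ v)
      rw [he, Matrix.mulVec_mulVec, ← Units.val_mul, show g * (r : GL (Fin (2 ^ m)) F) = -((r : GL (Fin (2 ^ m)) F) * g) by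
        rw [hanti, neg_neg], Units.val_neg, Units.val_mul, Matrix.neg_mulVec, ← Matrix.mulVec_mulVec, he,
        Matrix.mulVec_smul, ← neg_smul, hf.bilinear.smul_left, hf.bilinear.smul_right] at h1
      exact (mul_eq_zero.1 (show (2 : F) * φ.form v (((r : GL (Fin (2 ^ m)) F) : Matrix _ _ F) *ᵥ v) = 0 by
        linear_combination -h1 + (-φ.form v (((r : GL (Fin (2 ^ m)) F) : Matrix _ _ F) *ᵥ v)) * he2)).resolve_left φ.two
  have hall : ∀ X : Matrix (Fin (2 ^ m)) (Fin (2 ^ m)) F, φ.form v (X *ᵥ v) = 0 := by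
    intro X
    have hX : X ∈ Submodule.span F (matrixSet φ.sub) := hspan.symm ▸ Submodule.mem_top
    induction hX using Submodule.span_induction with
    | mem y hy =>
      obtain ⟨r, hr, rfl⟩ := hy
      exact hzero ⟨r, hr⟩
    | zero => rw [Matrix.zero_mulVec, show φ.form v 0 = 0 by simp only [form, Matrix.mulVec_zero, pzero_right hP.quad]]
    | add y z _ _ hy hz => rw [Matrix.add_mulVec, hf.bilinear.add_right, hy, hz, add_zero]
    | smul c y _ hy => rw [Matrix.smul_mulVec, hf.bilinear.smul_right, hy, mul_zero]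
  obtain ⟨w, hw⟩ := (hf.nondegenerate v hv).2
  obtain ⟨j, hj⟩ : ∃ j, v j ≠ 0 := Function.ne_iff.1 hv
  refine hw ?_
  have h := hall (Matrix.of fun a b => if b = j then w a / v j else 0)
  rwa [show (Matrix.of fun a b => if b = j then w a / v j else 0) *ᵥ v = w from funext fun a => by
    rw [Matrix.mulVec, dotProduct, Finset.sum_eq_single j]
    · simp [hj]
    · intro b _ hb; simp [hb]
    · intro h; exact absurd (Finset.mem_univ j) h] at h

end QFrame

end CfsgLib.Perm.Trans.PauliMax.OPlus
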