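import Cfsg.Agent.Lib.Perm.Trans.PauliMax.OPlus.QFrame
import Cfsg.Agent.Lib.Perm.Trans.PauliMax.Symp.Main
import Cfsg.Agent.Lib.Perm.Trans.TensorSympMax

/-!
# An overgroup containing the centraliser of a quaternion subgroup contains `Ω`

The space is the tensor product of a plane and an eigenspace; the transvections of both factors are in the overgroup,
so it stabilises the decomposition unless it contains `Ω`, and the normaliser does not stabilise it.
-/

set_option autoImplicit false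
set_option linter.all false

namespace CfsgLib.Perm.Trans.PauliMax.OPlus

open scoped Matrix
open Matrix Cfsg.Geo CfsgLib.Perm.Asch CfsgLib.Perm.Trans CfsgLib.Perm.Trans.Quad
open CfsgLib.Perm.Trans.TensorFrame CfsgLib.Perm.Trans.TensorMax CfsgLib.Perm.Trans.TensorSymp
open CfsgLib.Perm.Trans.Symp (isoSub mem_isoSub stv stv_mulVec stv_iso)
attribute [local instance] Classical.propDecidable

local notation "pol" => QuadraticMap.polar

variable {ι : Type} [Fintype ι] [DecidableEq ι] {F : Type*} [Field F] [Fintype F]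
variable {Q : (ι → F) → F} {R M : Subgroup (GL ι F)} {m : ℕ}

/-- the alternating form of the plane -/
def det2 (p q : Fin 2 → F) : F := p 0 * q 1 - p 1 * q 0

theorem det2_symp : IsSymplecticForm (det2 : (Fin 2 → F) → (Fin 2 → F) → F) := by
  refine ⟨⟨fun p q v => ?_, fun c p v => ?_, fun v p q => ?_, fun c v p => ?_⟩, fun v w => ?_, fun v => ?_, ?_⟩
  · simp only [det2, Pi.add_apply]; ring
  · simp only [det2, Pi.smul_apply, smul_eq_mul]; ring
  · simp only [det2, Pi.add_apply]; ring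
  · simp only [det2, Pi.smul_apply, smul_eq_mul]; ring
  · simp only [det2]; ring
  · simp only [det2]; ring
  · intro v hv
    obtain ⟨w, hw⟩ : ∃ w : Fin 2 → F, det2 v w ≠ 0 := by
      by_cases h0 : v 0 = 0
      · refine ⟨![1, 0], ?_⟩
        have h1 : v 1 ≠ 0 := fun h1 => hv (funext fun i => by fin_cases i <;> assumption)
        simpa [det2] using h1
      · exact ⟨![0, 1], by simpa [det2] using h0⟩
    refine ⟨⟨w, fun e => hw ?_⟩, w, hw⟩
    rw [show det2 v w = -det2 w v by simp only [det2]; ring, e, neg_zero]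

variable (φ : QFrame Q R m)

/-- the tensor map -/
def QFrame.tp (x : Fin 2 → F) (y : Fin (2 ^ m) → F) : ι → F :=
  φ.J *ᵥ (x 0 • y) + φ.W *ᵥ (φ.J *ᵥ (x 1 • y))

theorem QFrame.exists_coords : ∃ (e : ι ≃ Fin 2 × Fin (2 ^ m)) (P : GL ι F), ∀ x y, tvec e P x y = φ.tp x y := by
  obtain ⟨e⟩ : Nonempty (ι ≃ Fin 2 × Fin (2 ^ m)) :=
    ⟨Fintype.equivOfCardEq (by simp [φ.pauli.dim, pow_succ, mul_comm])⟩
  let L : (ι → F) ≃ₗ[F] (ι → F) :=
    { toFun := fun c => φ.J *ᵥ (fun j => c (e.symm (0, j))) + φ.W *ᵥ (φ.J *ᵥ fun j => c (e.symm (1, j)))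
      map_add' := fun c d => by
        rw [show (fun j => (c + d) (e.symm (0, j))) = (fun j => c (e.symm (0, j))) + fun j => d (e.symm (0, j)) from rfl,
          show (fun j => (c + d) (e.symm (1, j))) = (fun j => c (e.symm (1, j))) + fun j => d (e.symm (1, j)) from rfl]
        simp only [Matrix.mulVec_add]
        abel
      map_smul' := fun s c => by
        rw [show (fun j => (s • c) (e.symm (0, j))) = s • fun j => c (e.symm (0, j)) from rfl,
          show (fun j => (s • c) (e.symm (1, j))) = s • fun j => c (e.symm (1, j)) from rfl]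
        simp only [Matrix.mulVec_smul, smul_add, RingHom.id_apply]
      invFun := fun z i => if (e i).1 = 0 then (φ.E *ᵥ z) (e i).2 else (φ.E *ᵥ (φ.W *ᵥ z)) (e i).2
      left_inv := fun c => funext fun i => by
        have h0 : ∀ p q : Fin (2 ^ m) → F, φ.E *ᵥ (φ.J *ᵥ p + φ.W *ᵥ (φ.J *ᵥ q)) = p := fun p q => by
          rw [Matrix.mulVec_add, φ.E_J, φ.EW_J, add_zero]
        have h1 : ∀ p q : Fin (2 ^ m) → F, φ.E *ᵥ (φ.W *ᵥ (φ.J *ᵥ p + φ.W *ᵥ (φ.J *ᵥ q))) = q := fun p q => by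
          rw [Matrix.mulVec_add, Matrix.mulVec_mulVec _ φ.W φ.W, φ.WW, Matrix.one_mulVec, Matrix.mulVec_add, φ.E_J,
            φ.EW_J, zero_add]
        simp only [h0, h1]
        obtain ⟨p, rfl⟩ := e.symm.surjective i
        obtain ⟨a, j⟩ := p
        fin_cases a <;> simp
      right_inv := fun z => by
        simp only [Equiv.apply_symm_apply, if_true, Fin.one_eq_zero_iff, if_false]
        simpa using (φ.decomp z).symm }
  refine ⟨e, ⟨LinearMap.toMatrix' L.toLinearMap, LinearMap.toMatrix' L.symm.toLinearMap,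
    by rw [← LinearMap.toMatrix'_comp, LinearEquiv.comp_symm, LinearMap.toMatrix'_id],
    by rw [← LinearMap.toMatrix'_comp, LinearEquiv.symm_comp, LinearMap.toMatrix'_id]⟩, fun x y => ?_⟩
  rw [tvec]
  show LinearMap.toMatrix' L.toLinearMap *ᵥ _ = _
  rw [LinearMap.toMatrix'_mulVec]
  show φ.J *ᵥ _ + φ.W *ᵥ (φ.J *ᵥ _) = φ.J *ᵥ _ + φ.W *ᵥ (φ.J *ᵥ _)
  congr 2
  · funext j; simp
  · congr 1; funext j; simp

theorem QFrame.tp_dext (A : GL (Fin (2 ^ m)) F) (x : Fin 2 → F) (y : Fin (2 ^ m) → F) :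
    (φ.dext A : Matrix ι ι F) *ᵥ φ.tp x y = φ.tp x ((A : Matrix _ _ F) *ᵥ y) := by
  rw [tp, tp, φ.dext_mulVec]
  congr 2
  · exact Matrix.mulVec_smul _ _ _
  · congr 1
    exact Matrix.mulVec_smul _ _ _

/-- **An overgroup containing the centraliser of a quaternion subgroup.** -/
theorem QFrame.le_of_cen (hm : 3 ≤ m) (hN : NN Q R ≤ M) (hM : M ≤ omegaGL Q)
    (hfull : ∀ A ∈ isoSub φ.form, φ.dext A ∈ M) : omegaGL Q ≤ M := by
  by_contra hΩ
  have hP := φ.pauli
  have hq := hP.quad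
  have hn : 5 ≤ Fintype.card ι := card_ge hP (by omega)
  have hs : 5 ≤ 2 ^ m := le_trans (by norm_num) (Nat.pow_le_pow_right (by norm_num : 1 ≤ 2) hm)
  obtain ⟨e, P, hT⟩ := φ.exists_coords
  have hf := φ.isSymplectic
  have hpol : ∀ x y x' y', pol Q (tvec e P x y) (tvec e P x' y') = 1 * (det2 x x' * φ.form y y') := by
    intro x y x' y'
    rw [hT, hT, tp, tp, φ.form_pair, hf.bilinear.smul_left, hf.bilinear.smul_right, hf.bilinear.smul_left,
      hf.bilinear.smul_right]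
    simp only [det2]
    ring
  have hpure : ∀ x y, Q (tvec e P x y) = 0 := fun x y => by
    rw [hT, tp, φ.q_pair, hf.bilinear.smul_left, hf.bilinear.smul_right, hf.alternating, mul_zero, mul_zero]
  have hdext : ∀ A, ∀ x y, (φ.dext A : Matrix ι ι F) *ᵥ tvec e P x y = tvec e P x ((A : Matrix _ _ F) *ᵥ y) :=
    fun A x y => by rw [hT, hT, φ.tp_dext]
  -- a second quaternion subgroup, inside the centraliser of the first
  have hS := φ.sub_pauli
  have hB := Symp.space hS
  have h16 := Symp.card_bar_ge hS (by omega)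
  obtain ⟨pa, hpa, -, -⟩ := PauliMax.Orth.exists_nonsing_perp hB h16 0 0
  obtain ⟨pb, hpb, hpab⟩ := Symp.exists_nonsing_anti hB h16 (hB.ne_zero hpa)
  obtain ⟨a2, rfl⟩ := Symp.mk_surjective hS pa
  obtain ⟨b2, rfl⟩ := Symp.mk_surjective hS pb
  have ha2 := (Symp.barQ_one_iff hS a2).1 hpa
  have hb2 := (Symp.barQ_one_iff hS b2).1 hpb
  have hab2 := (Symp.barB_one_iff hS b2 a2).1 hpab
  obtain ⟨a', ha'⟩ : ∃ a', a' = φ.dext a2 := ⟨_, rfl⟩
  obtain ⟨b', hb'⟩ : ∃ b', b' = φ.dext b2 := ⟨_, rfl⟩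
  have ha'R : a' ∈ R := ha' ▸ φ.mem_sub_iff.1 a2.2
  have hb'R : b' ∈ R := hb' ▸ φ.mem_sub_iff.1 b2.2
  have ha'a' : a' * a' = -1 := by rw [ha', ← map_mul, ha2, φ.dext_neg, map_one]
  have hb'b' : b' * b' = -1 := by rw [hb', ← map_mul, hb2, φ.dext_neg, map_one]
  have hab' : a' * b' = -(b' * a') := by
    rw [ha', hb', ← map_mul, ← map_mul, hab2, φ.dext_neg, neg_neg]
  obtain ⟨k, hk, hka, hkb⟩ := exists_conj_pair hP (by omega) φ.a_mem φ.b_mem ha'R hb'R φ.aa φ.bb ha'a' hb'b' φ.ab hab'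
  -- the transvections of both factors
  have D : TS Q det2 φ.form (tvec e P) 1 M := by
    refine ⟨hq, det2_symp, hf, tvec_add_left, tvec_smul_left, tvec_add_right, tvec_smul_right, tvec_span, one_ne_zero,
      hpol, hpure, hM.trans omegaGL_le_iso, fun a l => ?_, fun b l => ?_⟩
    · obtain ⟨g, hgΩ, hgT⟩ := exists_omega_map hq det2_symp hf hpol hpure one_ne_zero hn a l LinearMap.id
        (fun _ _ => rfl) (fun y => hf.alternating y)
      refine ⟨g, ?_, fun x y => by rw [hgT, tvec_add_left]; rfl⟩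
      have hgc : ∀ B : GL (Fin (2 ^ m)) F, g * φ.dext B = φ.dext B * g := fun B =>
        gl_ext_tvec (e := e) (P := P) fun x y => by
          rw [gl_mul_mulVec, gl_mul_mulVec, hdext, hgT, hgT, mulVec_add, hdext, hdext]
          rfl
      obtain ⟨h, hh⟩ : ∃ h, h = k⁻¹ * g * k := ⟨_, rfl⟩
      have hconj : ∀ z w : GL ι F, (k * z * k⁻¹ = w ∨ k * z * k⁻¹ = -w) → g * w = w * g → h * z = z * h := by
        intro z w hzw hgw
        have e1 : g * (k * z * k⁻¹) = k * z * k⁻¹ * g := by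
          rcases hzw with e | e <;> rw [e]
          · exact hgw
          · rw [mul_neg, neg_mul, hgw]
        calc h * z = k⁻¹ * (g * (k * z * k⁻¹)) * k := by rw [hh]; group
          _ = z * h := by rw [e1, hh]; group
      have hha := hconj _ _ hka (ha' ▸ hgc _)
      have hhb := hconj _ _ hkb (hb' ▸ hgc _)
      have hhΩ : h ∈ omegaGL Q := hh ▸ mul_mem (mul_mem (inv_mem (hM (hN hk))) hgΩ) (hM (hN hk))
      obtain ⟨hu, hw⟩ := φ.comm_uw hha hhb
      have hhM := hfull _ (φ.rpG_iso (omegaGL_le_iso hhΩ) hu hw)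
      rw [← φ.eq_dext hha hhb] at hhM
      have := mul_mem (mul_mem (hN hk) hhM) (inv_mem (hN hk))
      rwa [hh, show k * (k⁻¹ * g * k) * k⁻¹ = g by group] at this
    · refine ⟨_, hfull _ (stv_iso hf b l), fun x y => ?_⟩
      rw [hdext, CfsgLib.Perm.Trans.Symp.stv_mulVec]
  have hex : 3 ≤ 2 ∨ 3 ≤ Fintype.card F := by
    right
    by_contra hlt
    have h1 := Fintype.one_lt_card (α := F)
    exact hP.two (by rw [← Nat.cast_two, show (2 : ℕ) = Fintype.card F by omega, FiniteField.cast_card_eq_zero])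
  have hle : M ≤ tensorProductSubgroup 2 (2 ^ m) e P := by
    have hR : ∀ b : Fin (2 ^ m) → F, b ≠ 0 → ∃ h : fb D b ⬝ᵥ b = 0, rootGL e P b (fb D b) h ∈ M := fun b hb => by
      have h : fb D b ⬝ᵥ b = 0 := by rw [fb_dot, hf.alternating]
      refine ⟨h, ?_⟩
      obtain ⟨t, ht, htT⟩ := D.tW b 1
      rwa [show rootGL e P b (fb D b) h = t from gl_ext_tvec (e := e) (P := P) fun x y => by
        rw [rootGL, kg_tvec, Units.val_one, one_mulVec, tv_mulVec, fb_dot, htT, one_mul]]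
    have hfb : ∀ b : Fin (2 ^ m) → F, b ≠ 0 → fb D b ≠ 0 := fun b hb h0 => hb (eq_zero_of_orth hf fun y => by
      rw [← fb_dot D, h0, zero_dotProduct])
    refine descend (by omega) (by omega) M (fun b β => b ≠ 0 ∧ β = fb D b)
      (fun b β ⟨hb, hβ⟩ => by subst hβ; exact let ⟨h, hm⟩ := hR b hb; ⟨h, hb, hfb b hb, hm⟩)
      ⟨Pi.single ⟨0, by omega⟩ 1, _, by simp, rfl⟩
      (fun b hb => symp_rigid D hΩ hn le_rfl hs hex hb) ?_
    intro g hgM b₀ hb₀ A hA0 hA1
    obtain ⟨a, -, ha⟩ := SetLike.exists_of_lt hA1.lt_top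
    let z := ((g⁻¹ : GL ι F) : Matrix ι ι F) *ᵥ tvec e P a b₀
    let L : (Fin (2 ^ m) → F) →ₗ[F] (Fin 2 → F) × F := LinearMap.prod
      { toFun := fun b => cob D b z
        map_add' := fun b b' => cob_add D b b' z
        map_smul' := fun c b => cob_smul D c b z }
      { toFun := fun b => φ.form b₀ b
        map_add' := fun b b' => fadd_right hf b b' b₀
        map_smul' := fun c b => fsmul_right hf c b b₀ }
    obtain ⟨b, hb, hb0⟩ := Submodule.exists_mem_ne_zero_of_ne_bot (LinearMap.ker_ne_bot_of_finrank_lt (f := L)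
      (by rw [Module.finrank_prod, Module.finrank_self]; simp; omega))
    obtain ⟨h1, h2⟩ := Prod.ext_iff.1 (LinearMap.mem_ker.1 hb)
    exact ⟨a, ha, b, fb D b, ⟨hb0, rfl⟩, by rw [fb_dot]; exact h2, Or.inl h1⟩
  -- the element exchanging the quaternion subgroups does not stabilise the decomposition
  obtain ⟨A, B, hAB⟩ := mem_tensor (hle (hN hk))
  have hkc : ∀ C : GL (Fin (2 ^ m)) F, k * φ.dext (B⁻¹ * C * B) * k⁻¹ = φ.dext C := fun C => by
    rw [mul_inv_eq_iff_eq_mul]
    refine gl_ext_tvec (e := e) (P := P) fun x y => ?_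
    rw [gl_mul_mulVec, gl_mul_mulVec, hdext, hAB, hAB, hdext, gl_mul_mulVec, gl_mul_mulVec, gl_mulVec_inv]
  have e1 : k * φ.a * k⁻¹ * b' = b' * (k * φ.a * k⁻¹) := by
    rw [hb', ← hkc b2,
      show k * φ.a * k⁻¹ * (k * φ.dext (B⁻¹ * b2 * B) * k⁻¹) = k * (φ.a * φ.dext (B⁻¹ * b2 * B)) * k⁻¹ by group,
      ← (φ.dext_comm _).1]
    group
  refine hP.neg_ne_self (b' * a') ?_
  rcases hka with e0 | e0 <;> rw [e0] at e1
  · rw [← hab', e1]
  · rw [← hab']
    simpa using e1

end CfsgLib.Perm.Trans.PauliMax.OPlus
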