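import Cfsg.Agent.Lib.Perm.Trans.PauliMax.OPlus.CenQ

/-!
# The group on an eigenspace of an involution of the group
-/

set_option autoImplicit false
set_option linter.all false

namespace CfsgLib.Perm.Trans.PauliMax.OPlus

open scoped Matrix
open Matrix Cfsg.Geo CfsgLib.Perm.Asch CfsgLib.Perm.Trans CfsgLib.Perm.Trans.Quad
attribute [local instance] Classical.propDecidable

local notation "pol" => QuadraticMap.polar

variable {ι : Type} [Fintype ι] [DecidableEq ι] {F : Type*} [Field F]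
variable {Q : (ι → F) → F} {R : Subgroup (GL ι F)} {m : ℕ}

/-- coordinates for an involution of the group -/
structure UFrame (Q : (ι → F) → F) (R : Subgroup (GL ι F)) (m : ℕ) extends Halves ι F m where
  pauli : OPauli Q R (m + 1)
  u_mem : u ∈ R
  w_mem : w ∈ R

/-- a partner of an involution -/
theorem OPauli.exists_partner (hP : OPauli Q R m) {u : GL ι F} (hu : u ∈ R) (hne : ¬ IsPM u) (huu : u * u = 1) :
    ∃ w ∈ R, w * w = 1 ∧ u * w = -(w * u) := by
  obtain ⟨s, hs, hus⟩ := hP.exists_anti hu hne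
  rcases hP.square s hs with h | h
  · exact ⟨s, hs, h, hus⟩
  · refine ⟨u * s, mul_mem hu hs, ?_, ?_⟩
    · rw [show u * s * (u * s) = u * (s * u) * s by group, show s * u = -(u * s) by rw [hus, neg_neg], mul_neg,
        neg_mul, ← mul_assoc, huu, one_mul, h, neg_neg]
    · rw [← mul_assoc, huu, one_mul, mul_assoc u s u, show s * u = -(u * s) by rw [hus, neg_neg], mul_neg,
        ← mul_assoc, huu, one_mul, neg_neg]

theorem exists_uframe (hP : OPauli Q R (m + 1)) {u : GL ι F} (hu : u ∈ R) (hne : ¬ IsPM u) (huu : u * u = 1) :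
    ∃ φ : UFrame Q R m, φ.u = u := by
  obtain ⟨w, hw, hww, hanti⟩ := hP.exists_partner hu hne huu
  obtain ⟨φ, h1, h2⟩ := exists_halves hP.two hP.dim huu hww hanti
  exact ⟨⟨φ, hP, by rw [h1]; exact hu, by rw [h2]; exact hw⟩, h1⟩

namespace UFrame

open CfsgLib.Perm.Trans.PauliMax.OPlus.Halves (rp rpG_val)

variable (φ : UFrame Q R m)

theorem cross (x y : Fin (2 ^ m) → F) : pol Q (φ.J *ᵥ x) (φ.W *ᵥ (φ.J *ᵥ y)) = 0 := by
  have h := iso_pol (φ.pauli.iso φ.u_mem) (φ.J *ᵥ x) (φ.W *ᵥ (φ.J *ᵥ y))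
  rw [Matrix.mulVec_mulVec _ φ.U φ.J, φ.UJ, Matrix.mulVec_mulVec _ φ.W φ.J, Matrix.mulVec_mulVec _ φ.U (φ.W * φ.J),
    φ.WU_J, Matrix.neg_mulVec, pneg_right φ.pauli.quad] at h
  rw [Matrix.mulVec_mulVec]
  exact (mul_eq_zero.1 (show (2 : F) * pol Q (φ.J *ᵥ x) ((φ.W * φ.J) *ᵥ y) = 0 by linear_combination -h)).resolve_left
    φ.two

/-- the form on the fixed space -/
def form : (Fin (2 ^ m) → F) → F := fun x => Q (φ.J *ᵥ x)

theorem form_pol (x y : Fin (2 ^ m) → F) : pol φ.form x y = pol Q (φ.J *ᵥ x) (φ.J *ᵥ y) := by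
  simp only [QuadraticMap.polar, form, Matrix.mulVec_add]

theorem q_pair (a b : Fin (2 ^ m) → F) : Q (φ.J *ᵥ a + φ.W *ᵥ (φ.J *ᵥ b)) = φ.form a + φ.form b := by
  rw [qadd φ.pauli.quad, φ.cross, add_zero, mem_iso.1 (φ.pauli.iso φ.w_mem)]
  rfl

theorem nondeg : IsNondegenerateQuadraticForm φ.form := by
  have hq := φ.pauli.quad
  refine ⟨fun c v => ?_, ⟨fun p q v => ?_, fun c p v => ?_, fun v p q => ?_, fun c v p => ?_⟩, fun v hv => ?_⟩
  · simp only [form, Matrix.mulVec_smul, qsmul hq]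
  · simp only [form_pol, Matrix.mulVec_add, padd_left hq]
  · simp only [form_pol, Matrix.mulVec_smul, psmul_left hq]
  · simp only [form_pol, Matrix.mulVec_add, padd_right hq]
  · simp only [form_pol, Matrix.mulVec_smul, psmul_right hq]
  · have hJv : φ.J *ᵥ v ≠ 0 := fun e => hv (by
      have := congrArg (φ.E *ᵥ ·) e
      simpa [Matrix.mulVec_mulVec, φ.EJ] using this)
    obtain ⟨y, hy⟩ := (hq.nondegenerate _ hJv).2
    rw [φ.decomp y, padd_right hq, φ.cross, add_zero] at hy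
    exact ⟨⟨φ.E *ᵥ y, by rw [pcomm, φ.form_pol]; exact hy⟩, φ.E *ᵥ y, by rw [φ.form_pol]; exact hy⟩

theorem extG_iso {a b : GL (Fin (2 ^ m)) F} (ha : a ∈ Cfsg.isometryGroup F φ.form)
    (hb : b ∈ Cfsg.isometryGroup F φ.form) : φ.extG (a, b) ∈ Cfsg.isometryGroup F Q := mem_iso.2 fun z => by
  rw [φ.decomp z, φ.extG_val, Matrix.mulVec_add, φ.ext_J, φ.ext_WJ, φ.q_pair, φ.q_pair, mem_iso.1 ha, mem_iso.1 hb]

theorem of_extG_iso {a b : GL (Fin (2 ^ m)) F} (h : φ.extG (a, b) ∈ Cfsg.isometryGroup F Q) :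
    a ∈ Cfsg.isometryGroup F φ.form ∧ b ∈ Cfsg.isometryGroup F φ.form := by
  refine ⟨mem_iso.2 fun x => ?_, mem_iso.2 fun x => ?_⟩
  · have := mem_iso.1 h (φ.J *ᵥ x)
    rwa [φ.extG_val, φ.ext_J] at this
  · have := mem_iso.1 h (φ.W *ᵥ (φ.J *ᵥ x))
    rwa [φ.extG_val, φ.ext_WJ, mem_iso.1 (φ.pauli.iso φ.w_mem), mem_iso.1 (φ.pauli.iso φ.w_mem)] at this

theorem rpG_iso {h : GL ι F} (hh : h ∈ Cfsg.isometryGroup F Q) (hc : h * φ.u = φ.u * h) :
    φ.rpG h hc ∈ Cfsg.isometryGroup F φ.form := by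
  rw [← φ.extG_rpG hc] at hh
  exact (φ.of_extG_iso hh).1

/-- the group on the fixed space -/
def sub : Subgroup (GL (Fin (2 ^ m)) F) where
  carrier := {a | ∃ t, ∃ hc : t * φ.u = φ.u * t, t ∈ R ∧ φ.rpG t hc = a}
  one_mem' := ⟨1, by simp, R.one_mem, Units.ext (by rw [rpG_val, Units.val_one, φ.rp_one, Units.val_one])⟩
  mul_mem' := by
    rintro _ _ ⟨s, hs, hsR, rfl⟩ ⟨t, ht, htR, rfl⟩
    exact ⟨s * t, ((show Commute s φ.u from hs).mul_left ht).eq, mul_mem hsR htR, φ.rpG_mul hs ht _⟩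
  inv_mem' := by
    rintro _ ⟨s, hs, hsR, rfl⟩
    exact ⟨s⁻¹, φ.comm_inv hs, inv_mem hsR, Units.ext rfl⟩

theorem mem_sub {t : GL ι F} (ht : t ∈ R) (hc : t * φ.u = φ.u * t) : φ.rpG t hc ∈ φ.sub := ⟨t, hc, ht, rfl⟩

theorem wtw {t : GL ι F} (ht : t ∈ R) : φ.w * t * φ.w = t ∨ φ.w * t * φ.w = -t := by
  rcases φ.pauli.sign φ.w φ.w_mem t ht with h | h
  · left; rw [h, mul_assoc, φ.ww, mul_one]
  · right; rw [h, neg_mul, mul_assoc, φ.ww, mul_one]

/-- an element commuting with `u` is equal on the two eigenspaces up to a sign -/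
theorem eq_extG {t : GL ι F} (ht : t ∈ R) (hc : t * φ.u = φ.u * t) :
    φ.extG (φ.rpG t hc, φ.rpG t hc) = t ∨ φ.extG (φ.rpG t hc, φ.rpG t hc) = φ.u * t := by
  have h := φ.extG_rpG hc
  rcases φ.wtw ht with e | e
  · left
    rwa [φ.rpG_congr e (φ.comm_w hc) hc] at h
  · right
    rw [φ.rpG_congr e (φ.comm_w hc) (by rw [neg_mul, mul_neg, hc]),
      show φ.rpG (-t) (by rw [neg_mul, mul_neg, hc]) = -φ.rpG t hc from Units.ext (by
        rw [rpG_val, Units.val_neg, Units.val_neg, rpG_val, rp, rp, Matrix.mul_neg, Matrix.neg_mul])] at h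
    have h2 := congrArg (φ.extG (1, -1) * ·) h
    rw [← map_mul, show ((1 : GL (Fin (2 ^ m)) F), (-1 : GL (Fin (2 ^ m)) F)) * (φ.rpG t hc, -φ.rpG t hc) =
      (φ.rpG t hc, φ.rpG t hc) by simp, φ.extG_one_neg] at h2
    exact h2

theorem extG_diag_mem {x : GL (Fin (2 ^ m)) F} (hx : x ∈ φ.sub) : φ.extG (x, x) ∈ R := by
  obtain ⟨t, hc, ht, rfl⟩ := hx
  rcases φ.eq_extG ht hc with e | e <;> rw [e]
  exacts [ht, mul_mem φ.u_mem ht]

theorem extG_signs {x : GL (Fin (2 ^ m)) F} (hx : x ∈ φ.sub) :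
    φ.extG (x, -x) ∈ R ∧ φ.extG (-x, x) ∈ R := by
  have h1 : φ.extG (x, -x) ∈ R := by
    have e : (x, -x) = ((1 : GL (Fin (2 ^ m)) F), (-1 : GL (Fin (2 ^ m)) F)) * (x, x) := by simp
    rw [e, map_mul, φ.extG_one_neg]
    exact mul_mem φ.u_mem (φ.extG_diag_mem hx)
  refine ⟨h1, ?_⟩
  have h2 := mul_mem (mul_mem φ.w_mem h1) φ.w_mem
  rwa [φ.w_extG] at h2

theorem u_not_pm (φ : UFrame Q R m) : ¬ IsPM φ.u := fun h => by
  have h1 := h.comm φ.w
  have h2 := φ.anti
  rw [← h1] at h2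
  exact φ.pauli.neg_ne_self _ h2.symm

theorem two' (φ : UFrame Q R m) : (1 : Matrix (Fin (2 ^ m)) (Fin (2 ^ m)) F) ≠ -1 := fun h => φ.two (by
  haveI : Nonempty (Fin (2 ^ m)) := ⟨⟨0, by positivity⟩⟩
  have h' := congrFun (congrFun h (Classical.arbitrary _)) (Classical.arbitrary _)
  simp at h'
  linear_combination h')

theorem kernel {t : GL ι F} (ht : t ∈ R) (hc : t * φ.u = φ.u * t) (h : φ.rpG t hc = 1) : t = 1 ∨ t = φ.u := by
  have h1 : (t : Matrix ι ι F) * pp φ.u = pp φ.u := by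
    have e : φ.J * φ.rp t * φ.E = pp φ.u := by
      rw [← φ.rpG_val t hc, h, Units.val_one, Matrix.mul_one, φ.JE]
    rwa [φ.JrpE, ← φ.comm_pp (φ.comm_mat hc), mul_assoc, φ.P_mul_P] at e
  have h2 : (t : Matrix ι ι F) + (t : Matrix ι ι F) * φ.U = 1 + φ.U := by
    rw [pp, mul_smul_comm, mul_add, mul_one] at h1
    exact (isUnit_iff_ne_zero.2 (one_div_ne_zero φ.two)).smul_left_cancel.1 h1
  have h3 := congrArg (fun X => (X * ((t⁻¹ : GL ι F) : Matrix ι ι F)).trace) h2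
  have htinv : ∀ Y : Matrix ι ι F, ((t : Matrix ι ι F) * Y * ((t⁻¹ : GL ι F) : Matrix ι ι F)).trace = Y.trace :=
    fun Y => by rw [Matrix.trace_mul_cycle, Units.inv_mul, one_mul]
  simp only [add_mul, one_mul, Matrix.trace_add, htinv, Units.mul_inv] at h3
  rw [show φ.U.trace = 0 from φ.pauli.trace_zero φ.u_mem φ.u_not_pm, add_zero, Matrix.trace_one] at h3
  by_cases ht1 : tr (t⁻¹ : GL ι F) = 0
  · have ht2 : tr (φ.u * t⁻¹) ≠ 0 := fun e => φ.pauli.natCast_ne (by
      rw [tr, Units.val_mul] at e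
      rw [tr] at ht1
      rw [h3, ht1, e, add_zero])
    rcases φ.pauli.trace_pm (mul_mem φ.u_mem (inv_mem ht)) ht2 with e | e
    · exact Or.inr (mul_inv_eq_one.1 e).symm
    · exfalso
      have e' : t = -φ.u := by
        rw [mul_inv_eq_iff_eq_mul, neg_one_mul] at e
        rw [e, neg_neg]
      apply φ.two'
      have h' := congrArg Units.val h
      simp only [rpG_val, e', Units.val_neg, Units.val_one, rp, Matrix.mul_neg, Matrix.neg_mul, Matrix.mul_assoc,
        φ.UJ, φ.EJ] at h'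
      exact h'.symm
  · rcases φ.pauli.trace_pm (inv_mem ht) ht1 with e | e
    · exact Or.inl (inv_eq_one.1 e)
    · exfalso
      have e' : t = -1 := by rw [← inv_inv t, e, inv_neg, inv_one]
      apply φ.two'
      have h' := congrArg Units.val h
      simp only [rpG_val, e', Units.val_neg, Units.val_one, rp, Matrix.mul_neg, Matrix.neg_mul, Matrix.mul_one,
        φ.EJ] at h'
      exact h'.symm

/-- the centraliser of `u` in the group -/
def cen : Subgroup R where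
  carrier := {t | (t : GL ι F) * φ.u = φ.u * (t : GL ι F)}
  one_mem' := by simp
  mul_mem' := fun {a b} ha hb => ((show Commute (a : GL ι F) φ.u from ha).mul_left hb).eq
  inv_mem' := fun {a} ha => φ.comm_inv ha

/-- restriction as a homomorphism -/
def cenHom : φ.cen →* φ.sub where
  toFun t := ⟨φ.rpG ((t : R) : GL ι F) t.2, φ.mem_sub (t : R).2 t.2⟩
  map_one' := Subtype.ext (Units.ext (by simp [rpG_val, φ.rp_one]))
  map_mul' a b := Subtype.ext (φ.rpG_mul a.2 b.2
    (((show Commute (((a : R) : GL ι F)) φ.u from a.2).mul_left b.2).eq))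

theorem cenHom_surjective : Function.Surjective φ.cenHom := by
  rintro ⟨a, t, hc, ht, rfl⟩
  exact ⟨⟨⟨t, ht⟩, hc⟩, rfl⟩

theorem card_ker : Nat.card φ.cenHom.ker = 2 := by
  rw [Nat.card_eq_two_iff]
  refine ⟨⟨1, one_mem _⟩, ⟨⟨⟨φ.u, φ.u_mem⟩, rfl⟩, Subtype.ext (Units.ext ?_)⟩, fun e => φ.u_not_pm (Or.inl ?_), ?_⟩
  · show φ.rp φ.U = _
    rw [rp, Matrix.mul_assoc, φ.UJ, φ.EJ]
    rfl
  · exact (congrArg (fun t : φ.cenHom.ker => (((t : φ.cen) : R) : GL ι F)) e).symm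
  · ext ⟨⟨⟨x, hx⟩, hxc⟩, hxk⟩
    simp only [Set.mem_insert_iff, Set.mem_singleton_iff, Set.mem_univ, iff_true]
    rcases φ.kernel hx hxc (congrArg Subtype.val (MonoidHom.mem_ker.1 hxk)) with e | e
    · exact Or.inl (Subtype.ext (Subtype.ext (Subtype.ext e)))
    · exact Or.inr (Subtype.ext (Subtype.ext (Subtype.ext e)))

theorem card_cen : Nat.card φ.cen = 2 * Nat.card φ.sub := by
  rw [Subgroup.card_eq_card_quotient_mul_card_subgroup φ.cenHom.ker, φ.card_ker,
    Nat.card_congr (QuotientGroup.quotientKerEquivOfSurjective φ.cenHom φ.cenHom_surjective).toEquiv, mul_comm]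

theorem mul_w_comm {r : GL ι F} (hr : r * φ.u = -(φ.u * r)) : r * φ.w * φ.u = φ.u * (r * φ.w) := by
  have h1 : φ.w * φ.u = -(φ.u * φ.w) := by rw [φ.anti, neg_neg]
  rw [mul_assoc, h1, mul_neg, ← mul_assoc, hr, neg_mul, neg_neg, mul_assoc]

theorem card_R_eq : Nat.card R = 2 * Nat.card φ.cen := by
  let g : Bool × φ.cen → R := fun x => if x.1 then (x.2 : R) * ⟨φ.w, φ.w_mem⟩ else (x.2 : R)
  have hcross : ∀ s t : φ.cen, (s : R) * ⟨φ.w, φ.w_mem⟩ ≠ (t : R) := fun s t e => by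
    have e' := congrArg (fun z : R => (z : GL ι F)) e
    simp only [Subgroup.coe_mul] at e'
    have h1 : φ.w = ((s : R) : GL ι F)⁻¹ * ((t : R) : GL ι F) := by rw [← e', inv_mul_cancel_left]
    have h2 : φ.w * φ.u = φ.u * φ.w := by
      rw [h1]; exact ((show Commute _ φ.u from φ.comm_inv s.2).mul_left t.2).eq
    have h3 := φ.anti
    rw [h2] at h3
    exact φ.pauli.neg_ne_self _ h3.symm
  have hg : Function.Bijective g := by
    constructor
    · rintro ⟨i, s⟩ ⟨j, t⟩ h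
      cases i <;> cases j <;> simp only [g, if_true, if_false, Bool.false_eq_true] at h
      · rw [Subtype.ext h]
      · exact absurd h.symm (hcross t s)
      · exact absurd h (hcross s t)
      · rw [Subtype.ext (mul_right_cancel h)]
    · intro r
      rcases φ.pauli.sign r r.2 φ.u φ.u_mem with h | h
      · exact ⟨(false, ⟨r, h⟩), by simp [g]⟩
      · refine ⟨(true, ⟨⟨(r : GL ι F) * φ.w, mul_mem r.2 φ.w_mem⟩, φ.mul_w_comm (r := (r : GL ι F)) h⟩), Subtype.ext ?_⟩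
        show (r : GL ι F) * φ.w * φ.w = r
        rw [mul_assoc, φ.ww, mul_one]
  rw [← Nat.card_congr (Equiv.ofBijective g hg), Nat.card_prod, Nat.card_eq_fintype_card, Fintype.card_bool]

/-- the group on the fixed space satisfies the hypotheses -/
theorem sub_pauli : OPauli φ.form φ.sub m := by
  refine ⟨φ.nondeg, φ.two, ?_, ?_, ?_, ?_, ?_, by simp, ?_⟩
  · rintro _ ⟨t, hc, ht, rfl⟩
    exact φ.rpG_iso (φ.pauli.iso ht) hc
  · exact ⟨-1, by simp, φ.pauli.neg, Units.ext (by simp [rpG_val, rp, φ.EJ])⟩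
  · rintro _ ⟨s, hs, hsR, rfl⟩ _ ⟨t, ht, htR, rfl⟩
    have hst : s * t * φ.u = φ.u * (s * t) := ((show Commute s φ.u from hs).mul_left ht).eq
    have hts : t * s * φ.u = φ.u * (t * s) := ((show Commute t φ.u from ht).mul_left hs).eq
    rw [← φ.rpG_mul hs ht hst, ← φ.rpG_mul ht hs hts]
    rcases φ.pauli.sign s hsR t htR with h | h
    · exact Or.inl (φ.rpG_congr h _ _)
    · refine Or.inr (Units.ext ?_)
      rw [rpG_val, Units.val_neg, rpG_val, h, Units.val_neg, rp, rp, Matrix.mul_neg, Matrix.neg_mul]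
  · rintro _ ⟨t, hc, ht, rfl⟩
    have htt : t * t * φ.u = φ.u * (t * t) := ((show Commute t φ.u from hc).mul_left hc).eq
    rw [← φ.rpG_mul hc hc htt]
    rcases φ.pauli.square t ht with h | h
    · left; exact Units.ext (by rw [rpG_val, h, Units.val_one, φ.rp_one, Units.val_one])
    · right; exact Units.ext (by rw [rpG_val, h, Units.val_neg, Units.val_neg, Units.val_one, rp, Matrix.mul_neg,
        Matrix.neg_mul, Matrix.mul_one, φ.EJ, Units.val_one])
  · refine Submodule.eq_top_iff'.2 fun X => ?_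
    have hX : φ.J * X * φ.E ∈ Submodule.span F (matrixSet R) := φ.pauli.span.symm ▸ Submodule.mem_top
    have key : ∀ Y ∈ Submodule.span F (matrixSet R), φ.rp Y ∈ Submodule.span F (matrixSet φ.sub) := by
      intro Y hY
      induction hY using Submodule.span_induction with
      | mem y hy =>
        obtain ⟨r, hr, rfl⟩ := hy
        rcases φ.pauli.sign r hr φ.u φ.u_mem with h | h
        · exact Submodule.subset_span ⟨_, φ.mem_sub hr h, rfl⟩
        · have h0 : φ.rp (r : Matrix ι ι F) = 0 := by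
            have h' : φ.U * (r : Matrix ι ι F) = -((r : Matrix ι ι F) * φ.U) := by
              rw [← Units.val_mul, ← Units.val_mul, h, Units.val_neg, neg_neg]
            have e : pp φ.u * (r : Matrix ι ι F) * pp φ.u = 0 := by
              have hh : pp φ.u * (r : Matrix ι ι F) = (r : Matrix ι ι F) * (1 - pp φ.u) := by
                have := φ.two
                rw [pp, smul_mul_assoc, add_mul, one_mul, h', mul_sub, mul_one, mul_smul_comm, mul_add, mul_one]
                match_scalars <;> field_simp <;> ring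
              rw [hh, mul_assoc, sub_mul, one_mul, φ.P_mul_P, sub_self, mul_zero]
            have := congrArg φ.rp e
            rwa [show φ.rp (pp φ.u * (r : Matrix ι ι F) * pp φ.u) = (φ.E * pp φ.u) * (r : Matrix ι ι F) * (pp φ.u * φ.J) by
              simp only [rp, Matrix.mul_assoc], φ.EP, φ.PJ, show φ.rp 0 = 0 by simp [rp]] at this
          rw [show φ.rp (r : Matrix ι ι F) = 0 from h0]
          exact Submodule.zero_mem _
      | zero => rw [rp, Matrix.mul_zero, Matrix.zero_mul]; exact Submodule.zero_mem _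
      | add y z _ _ hy hz => rw [rp, Matrix.mul_add, Matrix.add_mul]; exact Submodule.add_mem _ hy hz
      | smul c y _ hy => rw [rp, Matrix.mul_smul, Matrix.smul_mul]; exact Submodule.smul_mem _ c hy
    have := key _ hX
    rwa [rp, show φ.E * (φ.J * X * φ.E) * φ.J = (φ.E * φ.J) * X * (φ.E * φ.J) by simp only [Matrix.mul_assoc],
      φ.EJ, Matrix.one_mul, Matrix.mul_one] at this
  · have h1 := φ.card_R_eq
    rw [φ.card_cen, φ.pauli.card, show 1 + 2 * (m + 1) = 1 + 2 * m + 2 by ring, pow_succ, pow_succ] at h1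
    omega

theorem sub_conj {a x : GL (Fin (2 ^ m)) F} (ha : a ∈ subgroupNormalizer φ.sub) (hx : x ∈ φ.sub) :
    a * x * a⁻¹ ∈ φ.sub :=
  (Subgroup.mem_normalizer_iff.1 ha x).1 hx

theorem pair_mem {a b : GL (Fin (2 ^ m)) F} (h : φ.extG (a, b) ∈ R) : b = a ∨ b = -a := by
  have h1 := φ.eq_extG h (φ.extG_comm a b)
  rw [φ.rpG_extG] at h1
  rcases h1 with e | e
  · exact Or.inl (φ.extG_inj e).2.symm
  · rw [← φ.extG_one_neg, ← map_mul, Prod.mk_mul_mk, neg_one_mul] at e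
    exact Or.inr (by rw [(φ.extG_inj e).2, neg_neg])

/-- the elements acting as a group element on the negated space only -/
theorem one_sub_norm [Finite F] {x : GL (Fin (2 ^ m)) F} (hx : x ∈ φ.sub) : φ.extG (1, x) ∈ subgroupNormalizer R := by
  refine mem_normalizer_of_maps fun r hr => ?_
  have hS := φ.sub_pauli
  have key : ∀ t ∈ R, t * φ.u = φ.u * t → φ.extG (1, x) * t * (φ.extG (1, x))⁻¹ ∈ R := by
    intro t ht hc
    rw [← φ.extG_rpG hc, ← map_mul, ← map_inv, ← map_mul]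
    have hy := φ.mem_sub ht hc
    rcases φ.wtw ht with e | e
    · rw [φ.rpG_congr e (φ.comm_w hc) hc]
      rcases hS.mul_mul_inv hx hy with h | h <;> simp only [Prod.mk_mul_mk, Prod.inv_mk, one_mul, inv_one, mul_one, h]
      exacts [φ.extG_diag_mem hy, (φ.extG_signs hy).1]
    · rw [show φ.rpG (φ.w * t * φ.w) (φ.comm_w hc) = -φ.rpG t hc from Units.ext (by
        rw [rpG_val, Units.val_neg, rpG_val, e, Units.val_neg, rp, rp, Matrix.mul_neg, Matrix.neg_mul])]
      rcases hS.mul_mul_inv hx hy with h | h <;>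
        simp only [Prod.mk_mul_mk, Prod.inv_mk, one_mul, inv_one, mul_one, mul_neg, neg_mul, h, neg_neg]
      exacts [(φ.extG_signs hy).1, φ.extG_diag_mem hy]
  rcases φ.pauli.sign r hr φ.u φ.u_mem with h | h
  · exact key r hr h
  · have hw : φ.extG (1, x) * φ.w * (φ.extG (1, x))⁻¹ ∈ R := by
      have e : φ.extG (1, x) * φ.w * (φ.extG (1, x))⁻¹ = φ.extG (x⁻¹, x) * φ.w := by
        rw [← map_inv, Prod.inv_mk, inv_one, mul_assoc,
          show φ.w * φ.extG (1, x⁻¹) = φ.extG (x⁻¹, 1) * φ.w by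
            rw [← φ.w_extG 1 x⁻¹, mul_assoc (φ.w * _), φ.ww, mul_one], ← mul_assoc, ← map_mul, Prod.mk_mul_mk,
          one_mul, mul_one]
      rw [e]
      refine mul_mem ?_ φ.w_mem
      rcases hS.inv_eq hx with h' | h' <;> rw [h']
      exacts [φ.extG_diag_mem hx, (φ.extG_signs hx).2]
    have h1 := mul_mem (key (r * φ.w) (mul_mem hr φ.w_mem) (φ.mul_w_comm h)) hw
    rw [show φ.extG (1, x) * (r * φ.w) * (φ.extG (1, x))⁻¹ * (φ.extG (1, x) * φ.w * (φ.extG (1, x))⁻¹) =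
      φ.extG (1, x) * (r * (φ.w * φ.w)) * (φ.extG (1, x))⁻¹ by group, φ.ww, mul_one] at h1
    exact h1

theorem ext_add (a b c d : Matrix (Fin (2 ^ m)) (Fin (2 ^ m)) F) :
    φ.ext (a + c) (b + d) = φ.ext a b + φ.ext c d := by
  simp only [Halves.ext, Matrix.mul_add, Matrix.add_mul]
  abel

theorem ext_smul (s : F) (a b : Matrix (Fin (2 ^ m)) (Fin (2 ^ m)) F) : φ.ext (s • a) (s • b) = s • φ.ext a b := by
  simp only [Halves.ext, Matrix.mul_smul, Matrix.smul_mul, smul_add]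

/-- diagonal lifts of elements of square `-1` -/
theorem diag_sq {a : GL (Fin (2 ^ m)) F} (h : a * a = -1) : φ.extG (a, a) * φ.extG (a, a) = -1 := by
  rw [← map_mul, Prod.mk_mul_mk, h, φ.extG_neg]
  congr 1
  exact map_one φ.extG

/-- the lift of a gate is a gate -/
theorem gate_lift {a b : GL (Fin (2 ^ m)) F} (ha : a * a = -1) (hb : b * b = -1) :
    φ.extG (pairGate φ.sub_pauli ha hb, pairGate φ.sub_pauli ha hb) =
      pairGate φ.pauli (φ.diag_sq ha) (φ.diag_sq hb) := Units.ext (by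
  rw [φ.extG_val, pairGate_val, pairGate_val, φ.ext_smul, φ.extG_val, φ.extG_val]
  congr 1
  rw [← φ.ext_mul, φ.ext_add, φ.ext_add, φ.ext_one])

/-- a non-singular element is the commutator of a gate and an element -/
theorem exists_gate_comm [Finite F] (hm : 3 ≤ m) {r : φ.sub} (hr : barQ φ.sub_pauli (OPlus.mk φ.sub_pauli r) = 1) :
    ∃ (a b : GL (Fin (2 ^ m)) F) (ha : a * a = -1) (hb : b * b = -1), a ∈ φ.sub ∧ b ∈ φ.sub ∧
      pairGate φ.sub_pauli ha hb * a * (pairGate φ.sub_pauli ha hb)⁻¹ * a⁻¹ = r := by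
  have hP := φ.sub_pauli
  have hS := space hP
  have h64 : 2 ^ 6 ≤ Nat.card (Bar hP) := card_bar_ge hP (by omega)
  obtain ⟨y, hy⟩ := hS.nondeg _ (hS.ne_zero hr)
  obtain ⟨pb, hb, hrb⟩ : ∃ pb, barQ hP pb = 1 ∧ barB hP (OPlus.mk hP r) pb = 1 := by
    rcases Orth.z2 (barQ hP y) with h | h
    · obtain ⟨x, hx, hrx, hyx⟩ := Orth.exists_nonsing_perp hS (by omega) (OPlus.mk hP r) y
      exact ⟨y + x, by rw [hS.polar, h, hx, hyx]; decide, by rw [hS.addr, hy, hrx, add_zero]⟩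
    · exact ⟨y, h, hy⟩
  obtain ⟨b, rfl⟩ := mk_surjective hP pb
  obtain ⟨x, hx⟩ : ∃ x, x = (r : GL (Fin (2 ^ m)) F) := ⟨_, rfl⟩
  obtain ⟨c, hc⟩ : ∃ c, c = (b : GL (Fin (2 ^ m)) F) := ⟨_, rfl⟩
  have hx' : x * x = -1 := hx ▸ (barQ_one_iff hP r).1 hr
  have hc' : c * c = -1 := hc ▸ (barQ_one_iff hP b).1 hb
  have hxc : x * c = -(c * x) := hx ▸ hc ▸ (barB_one_iff hP r b).1 hrb
  have ha : c * x * (c * x) = -1 := by
    rw [show c * x * (c * x) = c * (x * c) * x by group, hxc, mul_neg, neg_mul, ← mul_assoc, hc', mul_assoc, hx',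
      neg_mul_neg, one_mul]
  have hac : c * x * c = -(c * (c * x)) := by rw [mul_assoc, hxc, mul_neg]
  have haR : c * x ∈ φ.sub := mul_mem (hc ▸ b.2) (hx ▸ r.2)
  have hcR : c ∈ φ.sub := hc ▸ b.2
  refine ⟨c * x, c, ha, hc', haR, hcR, ?_⟩
  rw [pairGate_conj hP haR ha hcR hc' haR]
  obtain ⟨a, hadef⟩ : ∃ a, a = c * x := ⟨_, rfl⟩
  rw [← hadef] at ha hac ⊢
  have hca : ¬ c * a = a * c := fun e => hP.neg_ne_self (c * a) (by rw [← hac, e])
  have h2 : ¬ a * (c * a) = c * a * a := fun e => hP.neg_ne_self (c * a * a) (by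
    rw [← neg_mul, ← hac, mul_assoc a c a, e])
  rw [show act a (act c a) = c by
    simp only [act, if_neg hca, if_neg h2]
    rw [← mul_assoc, hac, neg_mul, mul_assoc c, ha, mul_neg, neg_neg, mul_one], hadef, _root_.mul_inv_rev,
    inv_eq_of_mul_eq_one_right (show x * -x = 1 by rw [mul_neg, hx', neg_neg]),
    inv_eq_of_mul_eq_one_right (show c * -c = 1 by rw [mul_neg, hc', neg_neg]), neg_mul_neg, hxc, mul_neg, ← mul_assoc,
    hc', neg_one_mul, neg_neg, hx]

/-- **The elements acting as a group element on the negated space only lie in the normaliser.** -/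
theorem one_sub_mem [Fintype F] (hm : 3 ≤ m) {x : GL (Fin (2 ^ m)) F} (hx : x ∈ φ.sub) :
    φ.extG (1, x) ∈ NN Q R := by
  refine ⟨φ.one_sub_norm hx, ?_⟩
  have hP := φ.sub_pauli
  have hS := space hP
  have h64 : 2 ^ 6 ≤ Nat.card (Bar hP) := card_bar_ge hP (by omega)
  have key : ∀ r : φ.sub, barQ hP (OPlus.mk hP r) = 1 → φ.extG (1, (r : GL (Fin (2 ^ m)) F)) ∈ omegaGL Q := by
    intro r hr
    obtain ⟨a, b, ha, hb, haR, hbR, e⟩ := φ.exists_gate_comm hm hr
    have hG := pairGate_iso hP haR ha hbR hb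
    have h := comm_omega φ.pauli (φ.extG_iso hG hG) (φ.extG_iso (one_mem _) (hP.iso haR))
    rw [← map_inv, ← map_inv, ← map_mul, ← map_mul, ← map_mul] at h
    simpa [e] using h
  by_cases h0 : OPlus.mk hP ⟨x, hx⟩ = 0
  · rcases (mk_eq_zero hP).1 h0 with e | e
    · rw [show x = 1 from e, show ((1 : GL (Fin (2 ^ m)) F), (1 : GL (Fin (2 ^ m)) F)) = 1 from rfl, map_one]
      exact one_mem _
    · rw [show x = -1 from e, φ.extG_one_neg]
      exact R_le_omega φ.pauli (by omega) φ.u_mem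
  rcases Orth.z2 (barQ hP (OPlus.mk hP ⟨x, hx⟩)) with hq | hq
  · obtain ⟨pa, ha, hra⟩ := Orth.split hS (by omega) h0 hq
    obtain ⟨a, rfl⟩ := mk_surjective hP pa
    have h2 : barQ hP (OPlus.mk hP (a * ⟨x, hx⟩)) = 1 := by
      rw [mk_mul, hS.polar, ha, hq, hS.symm, hra]; decide
    have h3 := mul_mem (inv_mem (key a ha)) (key _ h2)
    rw [← map_inv, ← map_mul, Prod.inv_mk, Prod.mk_mul_mk, Subgroup.coe_mul, inv_mul_cancel_left, inv_one, one_mul] at h3
    exact h3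
  · exact key ⟨x, hx⟩ hq

end UFrame

section bhom
variable [Finite F]

theorem norm_conj {g r : GL ι F} (hg : g ∈ subgroupNormalizer R) (hr : r ∈ R) : g * r * g⁻¹ ∈ R :=
  (Subgroup.mem_normalizer_iff.1 hg r).1 hr

/-- conjugation on the binary space -/
noncomputable def bfun (hP : OPauli Q R m) (g : ↥(subgroupNormalizer R)) (x : Bar hP) : Bar hP :=
  mk hP ⟨g * (rep hP x : GL ι F) * (g : GL ι F)⁻¹, norm_conj g.2 (rep hP x).2⟩

theorem bfun_mk (hP : OPauli Q R m) (g : ↥(subgroupNormalizer R)) (r : R) :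
    bfun hP g (mk hP r) = mk hP ⟨g * (r : GL ι F) * (g : GL ι F)⁻¹, norm_conj g.2 r.2⟩ := by
  rw [bfun, mk_eq]
  rcases rep_mk hP r with e | e
  · left; simp only [e]
  · right; simp only [e, mul_neg, neg_mul, neg_neg]

theorem bfun_bfun (hP : OPauli Q R m) (g h : ↥(subgroupNormalizer R)) (x : Bar hP) : bfun hP g (bfun hP h x) = bfun hP (g * h) x := by
  obtain ⟨r, rfl⟩ := mk_surjective hP x
  rw [bfun_mk, bfun_mk, bfun_mk]
  exact congrArg (mk hP) (Subtype.ext (by simp [mul_assoc]))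

theorem bfun_one (hP : OPauli Q R m) (x : Bar hP) : bfun hP 1 x = x := by
  obtain ⟨r, rfl⟩ := mk_surjective hP x
  rw [bfun_mk]
  exact congrArg (mk hP) (Subtype.ext (by simp))

/-- the permutation of the binary space given by an element of the normaliser -/
noncomputable def bperm (hP : OPauli Q R m) (g : ↥(subgroupNormalizer R)) : Equiv.Perm (Bar hP) where
  toFun := bfun hP g
  invFun := bfun hP g⁻¹
  left_inv x := by rw [bfun_bfun, inv_mul_cancel, bfun_one]
  right_inv x := by rw [bfun_bfun, mul_inv_cancel, bfun_one]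

theorem bperm_mk (hP : OPauli Q R m) (g : ↥(subgroupNormalizer R)) (r : R) :
    bperm hP g (mk hP r) = mk hP ⟨g * (r : GL ι F) * (g : GL ι F)⁻¹, norm_conj g.2 r.2⟩ := bfun_mk hP g r

/-- the action on the binary space -/
noncomputable def bhom (hP : OPauli Q R m) : ↥(subgroupNormalizer R) →* Equiv.Perm (Bar hP) where
  toFun := bperm hP
  map_one' := Equiv.ext fun x => by
    obtain ⟨r, rfl⟩ := mk_surjective hP x
    rw [bperm_mk]
    exact congrArg (mk hP) (Subtype.ext (by simp))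
  map_mul' g h := Equiv.ext fun x => by
    obtain ⟨r, rfl⟩ := mk_surjective hP x
    rw [Equiv.Perm.mul_apply, bperm_mk, bperm_mk, bperm_mk]
    exact congrArg (mk hP) (Subtype.ext (by simp [mul_assoc]))

theorem bhom_mk (hP : OPauli Q R m) (g : ↥(subgroupNormalizer R)) (r : R) :
    bhom hP g (mk hP r) = mk hP ⟨g * (r : GL ι F) * (g : GL ι F)⁻¹, norm_conj g.2 r.2⟩ := bperm_mk hP g r

theorem bhom_iso (hP : OPauli Q R m) (g : ↥(subgroupNormalizer R)) : Orth.Iso (barQ hP) (bhom hP g) := by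
  refine ⟨fun x y => ?_, fun x => ?_⟩
  · obtain ⟨r, rfl⟩ := mk_surjective hP x
    obtain ⟨s, rfl⟩ := mk_surjective hP y
    rw [← mk_mul, bhom_mk, bhom_mk, bhom_mk, ← mk_mul]
    exact congrArg (mk hP) (Subtype.ext (by simp [mul_assoc]))
  · obtain ⟨r, rfl⟩ := mk_surjective hP x
    rw [bhom_mk, barQ_mk, barQ_mk]
    refine if_congr ?_ rfl rfl
    show (g : GL ι F) * r * (g : GL ι F)⁻¹ * (g * r * (g : GL ι F)⁻¹) = 1 ↔ _
    rw [show (g : GL ι F) * r * (g : GL ι F)⁻¹ * (g * r * (g : GL ι F)⁻¹) = g * ((r : GL ι F) * r) * (g : GL ι F)⁻¹ by group]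
    exact conj_eq_one_iff

theorem bhom_gate (hP : OPauli Q R m) {p q : R} (hp : (p : GL ι F) * p = -1) (hq : (q : GL ι F) * q = -1)
    (hn : pairGate hP hp hq ∈ subgroupNormalizer R) :
    bhom hP ⟨pairGate hP hp hq, hn⟩ = Orth.tau (space hP) (mk hP p) * Orth.tau (space hP) (mk hP q) := by
  refine Equiv.ext fun x => ?_
  obtain ⟨r, rfl⟩ := mk_surjective hP x
  rw [bhom_mk, Equiv.Perm.mul_apply]
  exact mk_pairGate hP hp hq r

theorem bhom_eq_fix (hP : OPauli Q R m) (g : ↥(subgroupNormalizer R)) (r : R) :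
    bhom hP g (mk hP r) = mk hP r ↔
      ((g : GL ι F) * r * (g : GL ι F)⁻¹ = r ∨ (g : GL ι F) * r * (g : GL ι F)⁻¹ = -(r : GL ι F)) := by
  rw [bhom_mk, mk_eq]
  show ((r : GL ι F) = g * r * (g : GL ι F)⁻¹ ∨ (r : GL ι F) = -(g * r * (g : GL ι F)⁻¹)) ↔ _
  exact or_congr eq_comm (eq_comm.trans neg_eq_iff_eq_neg)

end bhom

end CfsgLib.Perm.Trans.PauliMax.OPlus
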